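import Cfsg.Agent.N2.Ex.Al.Grp_mg_m3
import Cfsg.Agent.DS.Nt.Kac
import Cfsg.Agent.Cam.Ex.Chi_m3
import Cfsg.Agent.N2.Ex.Al.TbD
import Cfsg.Agent.SB.Exc.CI.Main_m3
import Cfsg.Agent.FastGrp
import Cfsg.Agent.Prune
set_option linter.all false

section
prune_inst 0x7fbcfcf8abbcb7ffdfff7e7ffed8dffc19d0dfffa6dff9437fe0e3ff0b9f03800be5fbaf0de090fe0ef6e03410387853fb7eebbfe86bdc7ffffd5ff41ffbee1ff5f7b509119094240f300fff0bf07f8a7f3fffffffffffffffffffffffffffbeffffffffffff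

-- part: N2/Ex/CC/Asm_mg
section
prune_inst 0x4002000000080000000000000300000000000000000000000800000040000004000000000000000000008000000000000000000300000000000000000000000000000040640810008800000000002400000000000000000000000000000000000000000000
set_option linter.all false
open scoped Cfsg.Agent.FastGrp

-- part: N2/Ex/CC/Defs
section
/-!
# N2 (S3519), `E₆`, `E₇`: the four-groups and nine-groups that are not toral: interface (helper32)

Paper: `notes/N2/cc32.md`.  `R = ⟨e, f⟩`; the good element is `e * s`, `s` of prime order dividing `q² + q + 1`.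

* `Cc Z` : the subgroup of `C(Z)` generated by the polynomial curves through `1`;
* `P2` (the pair), `Qs` (`f` fixes a Borel subgroup and a torus of `C(e)⁰`), `St` (the standard pairs), `Tg` (the target);
* the boxes.
-/

set_option autoImplicit false
set_option linter.unusedSectionVars false
set_option maxHeartbeats 400000

namespace Cfsg.Agent.N2.Ex.CC

open CoxeterSystem Cfsg Cfsg.Lie Cfsg.Lie.ChevalleyDatum
open Cfsg.Agent.ChevalleyStructure Cfsg.Agent.ChevalleyStructure.CoxeterGeom Cfsg.Agent.Tits.Roots Cfsg.Agent.Nodes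
  Cfsg.Agent.Nodes.BNOf Cfsg.Agent.Nodes.RGDChev Cfsg.Agent.Nodes.Coroot
open Cfsg.Agent.KFacts.RgdChevCoord Cfsg.Agent.BpExc.Fr Cfsg.Agent.BpExc.LangFr
open Cfsg.Agent.H469.Exc Cfsg.Agent.H316.U6 Cfsg.Agent.H129.TorusChar Cfsg.Agent.DS.Ex Cfsg.Agent.DS.Nt
open Cfsg.Agent.DS.Ex.Tor (RT FR MS)
open Cfsg.Agent.N2.Ex.Al (LL cp ac GW Ch)
open Cfsg.Agent.H931.KC (psi)

/-- a list as a vector -/
def lv (l : ℕ) (L : List ℤ) : LL l := fun i => L.getD i 0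

/-- the images of the simple roots under the symmetry of the extended diagram of `E₇` -/
def V7 : List (List ℤ) := [[0, 0, 0, 0, 0, 1, 0], [0, 1, 0, 0, 0, 0, 0], [0, 0, 0, 0, 1, 0, 0], [0, 0, 0, 1, 0, 0, 0],
  [0, 0, 1, 0, 0, 0, 0], [1, 0, 0, 0, 0, 0, 0], [-2, -2, -3, -4, -3, -2, -1]]

/-- the images of the simple roots under the rotation of the extended diagram of `E₆` -/
def V6 : List (List ℤ) := [[0, 0, 0, 0, 0, 1], [0, 0, 1, 0, 0, 0], [0, 0, 0, 0, 1, 0], [0, 0, 0, 1, 0, 0],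
  [0, 1, 0, 0, 0, 0], [-1, -2, -2, -3, -2, -1]]

/-- the inverse rotation -/
def W6 : List (List ℤ) := [[-1, -2, -2, -3, -2, -1], [0, 0, 0, 0, 1, 0], [0, 1, 0, 0, 0, 0], [0, 0, 0, 1, 0, 0],
  [0, 0, 1, 0, 0, 0], [1, 0, 0, 0, 0, 0]]

/-- the rows `A₇`, `E₆ T₁`, `D₄ T₂`: `c` the character of `e`, `d = dd e`, `l + k` the bound for `dd (e * s)` -/
def Row (D : ChevalleyDatum) (r : ℕ) (c : List ℤ) (V : List (List ℤ)) (d k : ℕ) : Prop :=
  (D = chevE7 ∧ r = 2 ∧ V = V7 ∧ c = [0, 1, 0, 0, 0, 0, 0] ∧ d = 63 ∧ k = 2) ∨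
  (D = chevE7 ∧ r = 2 ∧ V = V7 ∧ c = [0, 0, 0, 0, 0, 0, 1] ∧ d = 79 ∧ k = 6) ∨
  (D = chevE6 ∧ r = 3 ∧ (V = V6 ∨ V = W6) ∧ c = [1, 0, 0, 0, 0, 1] ∧ d = 30 ∧ k = 0)

/-- the row `A₂³` -/
def Row24 (D : ChevalleyDatum) (r : ℕ) (c : List ℤ) (V : List (List ℤ)) : Prop :=
  D = chevE6 ∧ r = 3 ∧ (V = V6 ∨ V = W6) ∧ c = [0, 0, 0, 1, 0, 0]

section Defs

variable {D : ChevalleyDatum} {l : ℕ} {M : CoxeterMatrix (Fin l)} (hp : IsType D l M) (p : ℕ) [Fact p.Prime]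

/-- the sum over the powers of `w` -/
noncomputable def Nw (r : ℕ) (w : M.Group) (x : LL l) : LL l := ∑ i ∈ Finset.range r, ac hp (w ^ i) x

/-- the roots killed by the character `c` modulo `r` -/
def Pc (r : ℕ) (c : List ℤ) : Set (LL l) := {a | RT hp a ∧ (r : ℤ) ∣ psi (lv l c) a}

/-- `w` is the product of the reflections in the orbit of `a` under `v` -/
def Ro (r : ℕ) (v : M.Group) (a : LL l) (w : M.Group) : Prop :=
  ∀ x, ac hp w x = x - ∑ i ∈ Finset.range r, cp hp x (ac hp (v ^ i) a) • ac hp (v ^ i) a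

/-- `w` is the reflection in `b` -/
def Rl (b : LL l) (w : M.Group) : Prop := ∀ x, ac hp w x = x - cp hp x b • b

/-- the orbit of `a` consists of `r` orthogonal roots -/
def Ort (r : ℕ) (v : M.Group) (a : LL l) : Prop := ∀ i, 0 < i → i < r → cp hp (ac hp (v ^ i) a) a = 0

/-- polynomial curves through `1` in the centraliser of `Z` -/
def Cv (Z : Set (YY D p)) : Set (GL D.Idx (Polynomial (KK p))) :=
  {γ | LangThm.ev (0 : KK p) γ = 1 ∧
    ∀ a : KK p, ∃ y ∈ Subgroup.centralizer Z, (y : GL D.Idx (KK p)) = LangThm.ev a γ}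

/-- the group generated by their points -/
noncomputable def Cc (Z : Set (YY D p)) : Subgroup (YY D p) :=
  Subgroup.closure {y | ∃ γ ∈ Cv p Z, ∃ a : KK p, (y : GL D.Idx (KK p)) = LangThm.ev a γ}

/-- the pair -/
structure P2 (r : ℕ) (e f : YY D p) : Prop where
  typ : D = chevE6 ∧ r = 3 ∨ D = chevE7 ∧ r = 2
  ne : r ≠ p
  he : e ^ r = 1
  hf : f ^ r = 1
  comm : f * e = e * f

/-- `f` normalises the torus and the standard Borel subgroup of `C(e)⁰` -/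
structure Qs (e f : YY D p) (w : M.Group) : Prop where
  mem : e ∈ TT D (KK p)
  rp : RP hp p w f
  comm : f * e = e * f
  pos : ∀ a ∈ Ps hp p {e}, 0 ≤ a → 0 ≤ ac hp w a

/-- the standard pairs -/
structure St (r : ℕ) (c : List ℤ) (V : List (List ℤ)) (e f : YY D p) (v : M.Group) : Prop where
  mem : e ∈ TT D (KK p)
  chr : ∃ ζ : KK p, IsPrimitiveRoot ζ r ∧ ∀ x, cX hp e x = ζ ^ psi (lv l c) x
  rp : RP hp p v f
  mat : ∀ i : Fin l, ac hp v (sr i) = lv l (V.getD i [])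

/-- `k` centralises the root group of `a` -/
def CX (l : ℕ) (k : YY D p) (a : LL l) : Prop := ∀ x ∈ XX D l (KK p) a, k * x = x * k

/-- a Frobenius map -/
structure Fb (n : ℕ) (σ : MulAut (YY D p)) : Prop where
  pos : 0 < n
  frob : IsFrob p n σ
  fr : ∃ y g, FR hp p (MulAut.conj y * σ) g ∧ GW hp g

/-- **the target** -/
def Tg (l : ℕ) (σ : MulAut (YY D p)) (e f : YY D p) (k : ℕ) : Prop :=
  ∃ (s : YY D p) (m : ℕ), σ s = s ∧ s * e = e * s ∧ s * f = f * s ∧ m.Prime ∧ 5 ≤ m ∧ m ≠ p ∧ s ^ m = 1 ∧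
    dd p (e * s) ≤ l + k

variable {p}

theorem Cc_le (Z : Set (YY D p)) : Cc p Z ≤ Subgroup.centralizer Z := (Subgroup.closure_le _).2 (by
  rintro y ⟨γ, hγ, a, h⟩
  obtain ⟨z, hz, e⟩ := hγ.2 a
  rwa [show y = z from Subtype.ext (h.trans e.symm)])

theorem P2.tp {r : ℕ} {e f : YY D p} (h : P2 p r e f) : Typ D :=
  h.typ.elim (fun h => .inr (.inl h.1)) fun h => .inr (.inr (.inl h.1))

theorem P2.prime {r : ℕ} {e f : YY D p} (h : P2 p r e f) : r.Prime :=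
  h.typ.elim (fun h => h.2 ▸ Nat.prime_three) fun h => h.2 ▸ Nat.prime_two

theorem P2.conj {r : ℕ} {e f : YY D p} (h : P2 p r e f) (g : YY D p) : P2 p r (g * e * g⁻¹) (g * f * g⁻¹) :=
  ⟨h.typ, h.ne, by rw [conj_pow, h.he, mul_one, mul_inv_cancel], by rw [conj_pow, h.hf, mul_one, mul_inv_cancel],
    conj_comm h.comm⟩

variable {hp}

theorem St.ps {r : ℕ} {c : List ℤ} {V : List (List ℤ)} {e f : YY D p} {v : M.Group} (h : St hp p r c V e f v) :
    Ps hp p {e} = Pc hp r c := by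
  obtain ⟨ζ, h1, h2⟩ := h.chr
  ext a
  rw [mem_Ps (Set.singleton_subset_iff.2 h.mem)]
  refine and_congr_right fun _ => ?_
  rw [← h1.zpow_eq_one_iff_dvd, ← h2]
  exact ⟨fun k => k e rfl, fun k t ht => ht ▸ k⟩

end Defs

/-- a property of the algebraic group -/
abbrev PY : Type := ∀ (D : ChevalleyDatum) (l : ℕ) (M : CoxeterMatrix (Fin l)) (_ : IsType D l M) (p : ℕ) [Fact p.Prime], Prop

/-- `P` holds for all types -/
def Ay (P : PY) : Prop := ∀ (D : ChevalleyDatum) (l : ℕ) (M : CoxeterMatrix (Fin l)) (hp : IsType D l M) (p : ℕ)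
  [Fact p.Prime], Typ D → P D l M hp p

/-- [Lang] Lang's theorem for `Cc Z` -/
def BoxLang : Prop := Ay fun D _ _ _ p _ => ∀ (n : ℕ) (σ : MulAut (YY D p)) (Z : Set (YY D p)), 0 < n → IsFrob p n σ →
  (∀ z ∈ Z, σ z = z) → ∀ c ∈ Cc p Z, ∃ z ∈ Cc p Z, c = z⁻¹ * σ z

/-- [Cur] unipotent elements contracted by a cocharacter -/
def BoxCur : Prop := Ay fun D l _ hp p _ => ∀ (μ : LL l →+ ℤ) (S : Set (LL l)) (Z : Set (YY D p)) (u : YY D p),
  (∀ a ∈ S, RT hp a ∧ 0 < μ a) → u ∈ MS D p S → (∀ z ∈ Z, z * u = u * z) →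
  (∀ t ∈ TT D (KK p), ∀ c : KK p, c ≠ 0 → (∀ x, cX hp t x = c ^ μ x) → ∀ z ∈ Z, z * t = t * z) → u ∈ Cc p Z

/-- [Neg] -/
def BoxNeg : Prop := Ay fun D l M hp p _ => ∀ (w : M.Group) (k : YY D p) (a : LL l), RT hp a → RP hp p w k →
  CX p l k a → CX p l k (-a)

/-- [QA] `f` fixes a maximal torus of `C(e)⁰` -/
def BoxQA : Prop := Ay fun D _ _ hp p _ => ∀ (r : ℕ) (e f : YY D p), P2 p r e f → e ∈ TT D (KK p) →
  ∃ g : YY D p, g * e = e * g ∧ ∃ w, RP hp p w (g * f * g⁻¹)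

/-- [QB] a better torus, `r = r₀` -/
def BoxQB (r₀ : ℕ) : Prop := BoxNeg → Ay fun D l M hp p _ => ∀ (e f : YY D p) (w : M.Group) (a : LL l), P2 p r₀ e f →
  e ∈ TT D (KK p) → RP hp p w f → a ∈ Ps hp p {e} → Nw hp r₀ w a = 0 →
  ∃ (g : YY D p) (w' : M.Group), g * e = e * g ∧ RP hp p w' (g * f * g⁻¹) ∧ ac hp w' a = a ∧
    ∀ x, Nw hp r₀ w' x = 0 → Nw hp r₀ w x = 0

/-- [QC] the best torus -/
def BoxQC : Prop := Ay fun D _ M hp p _ => ∀ (r : ℕ) (e f : YY D p) (w : M.Group), P2 p r e f →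
  e ∈ TT D (KK p) → RP hp p w f → (∀ a ∈ Ps hp p {e}, Nw hp r w a ≠ 0) →
  ∃ (g : YY D p) (w' : M.Group), g * e = e * g ∧ Qs hp p e (g * f * g⁻¹) w'

/-- [Cj] conjugacy of the frames under `Cc` -/
def BoxCj : Prop := BoxCur → Ay fun D _ M hp p _ => ∀ (e f e' f' y : YY D p) (w w' : M.Group), Qs hp p e f w →
  Qs hp p e' f' w' → y * e' * y⁻¹ = e → y * f' * y⁻¹ = f → ∃ c ∈ Cc p {e, f}, ∃ u, RP hp p u (c⁻¹ * y)

/-- [Fr] a stable frame -/
def BoxFr : Prop := BoxLang → BoxCur → BoxCj → Ay fun D _ M hp p _ => ∀ (n : ℕ) (σ : MulAut (YY D p)) (e f : YY D p)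
  (w : M.Group), Fb hp p n σ → σ e = e → σ f = f → Qs hp p e f w →
  ∃ z g, z * e = e * z ∧ z * f = f * z ∧ FR hp p (MulAut.conj z * σ * (MulAut.conj z)⁻¹) g ∧ GW hp g

/-- [Nf] normal forms -/
def BoxNf : Prop := Ay fun D _ M hp p _ => ∀ (r : ℕ) (e f : YY D p) (w : M.Group), P2 p r e f → Qs hp p e f w → w ≠ 1 →
  ∃ (g : YY D p) (u v : M.Group) (c : List ℤ) (V : List (List ℤ)), RP hp p u g ∧
    St hp p r c V (g * e * g⁻¹) (g * f * g⁻¹) v ∧ ((∃ k, Row D r c V (dd p e) k) ∨ (Row24 D r c V ∧ dd p e = 24))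

/-- [Tw] reflections of the folded system in `Cc` -/
def BoxTw : Prop := BoxCur → Ay fun D l M hp p _ => ∀ (r : ℕ) (e f : YY D p) (v : M.Group) (a : LL l), P2 p r e f →
  e ∈ TT D (KK p) → RP hp p v f → a ∈ Ps hp p {e} →
  (Ort hp r v a → ∃ n ∈ Cc p {e, f}, ∃ w, RP hp p w n ∧ Ro hp r v a w) ∧
  (CX p l f a → CX p l f (-a) → ∃ n ∈ Cc p {e, f}, ∃ w, RP hp p w n ∧ Rl hp a w)

/-- [Lt] the lattice, rows with `dd e = d₀` -/
def BoxLt (d₀ : ℕ) : Prop := ∀ (D : ChevalleyDatum) (l : ℕ) (M : CoxeterMatrix (Fin l)) (hp : IsType D l M) (r k : ℕ)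
  (c : List ℤ) (V : List (List ℤ)) (v : M.Group) (W : Subgroup M.Group) (g : LL l ≃+ LL l) (q m : ℕ), Row D r c V d₀ k →
  (∀ i : Fin l, ac hp v (sr i) = lv l (V.getD i [])) →
  (∀ a ∈ Pc hp r c, Ort hp r v a → ∃ w ∈ W, Ro hp r v a w) →
  (D = chevE6 → ∃ b ∈ Pc hp r c, ac hp v b = b ∧ ∃ w ∈ W, Rl hp b w) →
  GW hp g → (∀ x, g (ac hp v x) = ac hp v (g x)) → (∀ a ∈ Pc hp r c, g a ∈ Pc hp r c) →
  m.Prime → 5 ≤ m → m ∣ q ^ 2 + q + 1 →
  ∃ w ∈ W, ∃ φ : LL l →+ ℤ, Ch q (g.trans (ac hp w)) m φ ∧ (∀ x, φ (ac hp v x) = φ x) ∧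
    {a ∈ Pc hp r c | (m : ℤ) ∣ φ a}.ncard ≤ k

/-- [D30] a fixed long root of `G₂` -/
def BoxD30 : Prop := Ay fun D l M hp p _ => ∀ (r k : ℕ) (c : List ℤ) (V : List (List ℤ)) (e f : YY D p) (v : M.Group),
  P2 p r e f → Row D r c V 30 k → St hp p r c V e f v → dd p f = 30 → ∃ b ∈ Pc hp r c, ac hp v b = b ∧ CX p l f b

/-- [D24] the fixed vectors in the row `A₂³` -/
def BoxD24 : Prop := Ay fun D _ M hp p _ => ∀ (r : ℕ) (c : List ℤ) (V : List (List ℤ)) (e f : YY D p) (v : M.Group),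
  P2 p r e f → Row24 D r c V → St hp p r c V e f v → 7 ≤ Module.finrank (KK p) (Fx p ({e, f} : Set (YY D p)))

/-- [El] the element, in a standard stable frame -/
def BoxEl : Prop := BoxLang → BoxCur → BoxTw → BoxLt 63 → BoxLt 79 → BoxLt 30 → Ay fun D l M hp p _ =>
  ∀ (n r d k : ℕ) (σ : MulAut (YY D p)) (g : LL l ≃+ LL l) (c : List ℤ) (V : List (List ℤ)) (e f : YY D p) (v : M.Group),
  0 < n → IsFrob p n σ → FR hp p σ g → GW hp g → σ e = e → σ f = f → P2 p r e f → Row D r c V d k → St hp p r c V e f v →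
  (D = chevE6 → ∃ b ∈ Pc hp r c, ac hp v b = b ∧ CX p l f b ∧ CX p l f (-b)) → Tg p l σ e f k

/-- **the result in the algebraic group** -/
def BoxY : Prop := Ay fun D l _ hp p _ => ∀ (r : ℕ) (e f : YY D p), P2 p r e f → ¬ Tp p e f →
  (D = chevE6 → dd p e = 24 → 7 ≤ Module.finrank (KK p) (Fx p ({e, f} : Set (YY D p)))) ∧
  ∀ (n : ℕ) (σ : MulAut (YY D p)), Fb hp p n σ → σ e = e → σ f = f → (D = chevE6 → dd p e = 30 ∧ dd p f = 30) →
    ∃ k, Tg p l σ e f k ∧ (D = chevE7 ∧ dd p e = 63 ∧ k = 2 ∨ D = chevE7 ∧ dd p e = 79 ∧ k = 6 ∨ D = chevE6 ∧ k = 0)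

/-- [Fin] the finite group -/
def BoxFin : Prop := BoxY → BoxCC

end Cfsg.Agent.N2.Ex.CC
end

-- part: N2/Ex/CC/Asm
section
/-!
# N2 (S3519), the four-groups and nine-groups that are not toral: assembly (helper32)
-/

set_option autoImplicit false
set_option linter.unusedSectionVars false
set_option maxHeartbeats 400000

namespace Cfsg.Agent.N2.Ex.CC

open CoxeterSystem Cfsg Cfsg.Lie Cfsg.Lie.ChevalleyDatum
open Cfsg.Agent.ChevalleyStructure Cfsg.Agent.ChevalleyStructure.CoxeterGeom Cfsg.Agent.Tits.Roots Cfsg.Agent.Nodes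
  Cfsg.Agent.Nodes.BNOf Cfsg.Agent.Nodes.RGDChev Cfsg.Agent.Nodes.Coroot
open Cfsg.Agent.KFacts.RgdChevCoord Cfsg.Agent.BpExc.Fr Cfsg.Agent.BpExc.LangFr
open Cfsg.Agent.H469.Exc Cfsg.Agent.H316.U6 Cfsg.Agent.H129.TorusChar Cfsg.Agent.DS.Ex Cfsg.Agent.DS.Nt
open Cfsg.Agent.DS.Ex.Tor (RT FR MS)
open Cfsg.Agent.N2.Ex.Al (LL cp ac GW Ch)

/-- the boxes in the algebraic group -/
structure Bx : Prop where
  lang : BoxLang
  cur : BoxCur
  neg : BoxNeg
  qa : BoxQA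
  qb2 : BoxQB 2
  qb3 : BoxQB 3
  qc : BoxQC
  cj : BoxCj
  fr : BoxFr
  nf : BoxNf
  tw : BoxTw
  lt63 : BoxLt 63
  lt79 : BoxLt 79
  lt30 : BoxLt 30
  d30 : BoxD30
  d24 : BoxD24
  el : BoxEl

namespace Asm

variable {D : ChevalleyDatum} {l : ℕ} {M : CoxeterMatrix (Fin l)} {hp : IsType D l M} {p : ℕ} [Fact p.Prime]
  {r n k : ℕ} {e f : YY D p} {σ : MulAut (YY D p)}

theorem cj_eq {Y : Type*} [Group Y] {g e : Y} (h : g * e = e * g) : g * e * g⁻¹ = e := by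
  rw [h, mul_inv_cancel_right]

theorem step (B : Bx) (he : e ∈ TT D (KK p)) : ∀ (m : ℕ) (f : YY D p) (w : M.Group), P2 p r e f → RP hp p w f →
    {a | RT hp a ∧ Nw hp r w a = 0}.ncard ≤ m → ∃ g w', g * e = e * g ∧ Qs hp p e (g * f * g⁻¹) w' := by
  intro m
  induction m using Nat.strong_induction_on with
  | _ m ih =>
  intro f w P hw hm
  by_cases h : ∀ a ∈ Ps hp p {e}, Nw hp r w a ≠ 0
  · exact B.qc D l M hp p P.tp r e f w P he hw h
  push Not at h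
  obtain ⟨a, ha, h0⟩ := h
  obtain ⟨g, w', h1, h2, h3, h4⟩ : ∃ (g : YY D p) (w' : M.Group), g * e = e * g ∧ RP hp p w' (g * f * g⁻¹) ∧
      ac hp w' a = a ∧ ∀ x, Nw hp r w' x = 0 → Nw hp r w x = 0 := by
    rcases P.typ with ⟨-, rfl⟩ | ⟨-, rfl⟩
    exacts [B.qb3 B.neg D l M hp p P.tp e f w a P he hw ha h0, B.qb2 B.neg D l M hp p P.tp e f w a P he hw ha h0]
  have h5 : Nw hp r w' a ≠ 0 := fun h6 => by
    have h7 : ∀ i, ac hp (w' ^ i) a = a := fun i => by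
      induction i with
      | zero => rw [pow_zero, Al.ET.ac_one]
      | succ i h8 => rw [pow_succ, Al.ET.ac_mul, h3, h8]
    simp only [Nw, h7, Finset.sum_const, Finset.card_range] at h6
    exact ha.1.ne_zero ((smul_eq_zero.1 h6).resolve_left P.prime.ne_zero)
  have h6 : {a | RT hp a ∧ Nw hp r w' a = 0}.ncard < {a | RT hp a ∧ Nw hp r w a = 0}.ncard :=
    Set.ncard_lt_ncard ⟨fun x hx => ⟨hx.1, h4 x hx.2⟩, fun h7 => h5 (h7 ⟨ha.1, h0⟩).2⟩
      ((Al.Gp.fin_RT hp).subset fun _ hx => hx.1)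
  obtain ⟨g', w'', h7, h8⟩ := ih _ (h6.trans_le hm) (g * f * g⁻¹) w' (cj_eq h1 ▸ P.conj g) h2 le_rfl
  refine ⟨g' * g, w'', by rw [mul_assoc, h1, ← mul_assoc, h7, mul_assoc], ?_⟩
  rwa [show g' * g * f * (g' * g)⁻¹ = g' * (g * f * g⁻¹) * g'⁻¹ by group]

seal _root_.Finset.sum _root_.dotProduct in
/-- `f` is quasi-semisimple on `C(e)⁰` -/
theorem exists_qs (B : Bx) (P : P2 p r e f) : ∃ g w, Qs hp p (g * e * g⁻¹) (g * f * g⁻¹) w := by
  obtain ⟨g, hg⟩ := exists_conj_T hp P.prime P.ne (n := 1) (by rw [pow_one, P.he])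
  obtain ⟨g₁, h1, w, h2⟩ := B.qa D l M hp p P.tp r _ _ (P.conj g) hg
  obtain ⟨g₂, w', h3, h4⟩ := step B hg _ _ w (cj_eq h1 ▸ (P.conj g).conj g₁) h2 le_rfl
  refine ⟨g₂ * g₁ * g, w', ?_⟩
  rwa [show g₂ * g₁ * g * e * (g₂ * g₁ * g)⁻¹ = g₂ * (g₁ * (g * e * g⁻¹) * g₁⁻¹) * g₂⁻¹ by group, cj_eq h1, cj_eq h3,
    show g₂ * g₁ * g * f * (g₂ * g₁ * g)⁻¹ = g₂ * (g₁ * (g * f * g⁻¹) * g₁⁻¹) * g₂⁻¹ by group]

theorem ne_one {w : M.Group} (Q : Qs hp p e f w) (h : ¬ Tp p e f) : w ≠ 1 := by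
  rintro rfl
  exact h ⟨1, by simpa using Q.mem, by simpa only [_root_.one_mul, _root_.inv_one, _root_.mul_one] using Q.rp.mem_T⟩

/-- the conjugate Frobenius map -/
noncomputable abbrev cs (z : YY D p) (σ : MulAut (YY D p)) : MulAut (YY D p) := MulAut.conj z * σ * (MulAut.conj z)⁻¹

theorem cs_apply (z y : YY D p) : cs z σ (z * y * z⁻¹) = z * σ y * z⁻¹ := Al.Gp.conj_apply (MulAut.conj z) σ y

theorem cs_frob (h : IsFrob p n σ) (z : YY D p) : IsFrob p n (cs z σ) := by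
  rw [cs, Al.Gp.conj_conj]
  exact h.conj_mul _

theorem fb_conj (h : Fb hp p n σ) (z : YY D p) : Fb hp p n (cs z σ) := by
  obtain ⟨y, g, h1⟩ := h.fr
  exact ⟨h.pos, cs_frob h.frob z, y * (z * (σ z)⁻¹)⁻¹, g, by rwa [cs, Al.Gp.conj_conj, Al.Gp.conj_eq]⟩

theorem tg_conj (z : YY D p) (h : Tg p l (cs z σ) (z * e * z⁻¹) (z * f * z⁻¹) k) : Tg p l σ e f k := by
  obtain ⟨s, m, h1, h2, h3, h88⟩ := h
  revert h88; rintro ⟨h4, h5, h6, h7, h8⟩
  obtain ⟨s, rfl⟩ : ∃ t, s = z * t * z⁻¹ := ⟨z⁻¹ * s * z, by group⟩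
  have k : ∀ a b : YY D p, z * a * z⁻¹ = z * b * z⁻¹ → a = b := fun a b h => (MulAut.conj z).injective h
  refine ⟨s, m, k _ _ (by rw [← cs_apply, h1]), k _ _ (by rw [← conj_mul, h2, conj_mul]),
    k _ _ (by rw [← conj_mul, h3, conj_mul]), h4, h5, h6, k _ _ (by rw [← conj_pow, h7, mul_one, mul_inv_cancel]), ?_⟩
  rwa [conj_mul, dd_conj] at h8

theorem fx_conj (z : YY D p) : Module.finrank (KK p) (Fx p ({z * e * z⁻¹, z * f * z⁻¹} : Set (YY D p))) =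
    Module.finrank (KK p) (Fx p ({e, f} : Set (YY D p))) :=
  finrank_Fx_conj z fun y => by
    simp only [Set.mem_insert_iff, Set.mem_singleton_iff, mul_left_inj, mul_right_inj]

theorem row_d {c : List ℤ} {V : List (List ℤ)} {d : ℕ} (h : Row D r c V d k) :
    D = chevE7 ∧ d = 63 ∧ k = 2 ∨ D = chevE7 ∧ d = 79 ∧ k = 6 ∨ D = chevE6 ∧ d = 30 ∧ k = 0 :=
  h.imp (fun h => ⟨h.1, h.2.2.2.2⟩) (Or.imp (fun h => ⟨h.1, h.2.2.2.2⟩) fun h => ⟨h.1, h.2.2.2.2⟩)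

/-- the target for a quasi-semisimple pair -/
theorem tg_qs (B : Bx) (P : P2 p r e f) {w : M.Group} (Q : Qs hp p e f w) (hw : w ≠ 1) (F : Fb hp p n σ) (he : σ e = e)
    (hf : σ f = f) (h6 : D = chevE6 → dd p e = 30 ∧ dd p f = 30) :
    ∃ k, Tg p l σ e f k ∧ (D = chevE7 ∧ dd p e = 63 ∧ k = 2 ∨ D = chevE7 ∧ dd p e = 79 ∧ k = 6 ∨ D = chevE6 ∧ k = 0) := by
  obtain ⟨z, g, h1, h2, h3, h4⟩ := B.fr B.lang B.cur B.cj D l M hp p P.tp n σ e f w F he hf Q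
  obtain ⟨y, u, v, c, V, a1, a2, a3⟩ := B.nf D l M hp p P.tp r e f w P Q hw
  obtain ⟨k, a3⟩ := a3.resolve_right fun a4 => by
    have := (h6 a4.1.1).1
    omega
  refine ⟨k, tg_conj z ?_, (row_d a3).imp_right (Or.imp_right fun h => ⟨h.1, h.2.2⟩)⟩
  rw [cj_eq h1, cj_eq h2]
  have b : ∀ x, z * x = x * z → σ x = x → cs y (cs z σ) (y * x * y⁻¹) = y * x * y⁻¹ := fun x b1 b2 => by
    have b3 := cs_apply (σ := σ) z x
    rw [b2, cj_eq b1] at b3
    rw [cs_apply, b3]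
  refine tg_conj y (B.el B.lang B.cur B.tw B.lt63 B.lt79 B.lt30 D l M hp p P.tp n r _ k _ _ c V _ _ v F.pos
    (cs_frob (cs_frob F.frob z) y) ((a1.fr.mul h3).mul a1.fr.inv) (Al.Gp.gw_ac h4 u u fun x => ?_) (b e h1 he) (b f h2 hf)
    (P.conj y) a3 a2 fun hD => ?_)
  · exact congrArg (fun x => ac hp u (g x)) ((ac hp u).symm_apply_apply x)
  · obtain ⟨a, b1, b2, b3⟩ := B.d30 D l M hp p P.tp r k c V _ _ v (P.conj y) ((h6 hD).1 ▸ a3) a2
      (by rw [dd_conj, (h6 hD).2])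
    exact ⟨a, b1, b2, b3, B.neg D l M hp p P.tp v _ a b1.1 a2.rp b3⟩

end Asm

open Asm in
/-- **the result in the algebraic group** from the boxes -/
theorem boxY_of (B : Bx) : BoxY := by
  intro D l M hp p _ _ r e f P h
  obtain ⟨g, w, Q⟩ := exists_qs (hp := hp) B P
  have hw := ne_one Q fun k => h k.of_conj
  refine ⟨fun hD h24 => ?_, fun n σ F he hf h6 => ?_⟩
  · obtain ⟨y, u, v, c, V, -, a2, a3⟩ := B.nf D l M hp p P.tp r _ _ w (P.conj g) Q hw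
    rw [dd_conj, h24] at a3
    rw [← fx_conj g, ← fx_conj y]
    refine B.d24 D l M hp p P.tp r c V _ _ v ((P.conj g).conj y) (a3.resolve_left ?_).1 a2
    rintro ⟨k, a4⟩
    have := row_d a4
    omega
  · obtain ⟨k, h1, h2⟩ := tg_qs B (P.conj g) Q hw (fb_conj F g) (by rw [cs_apply, he]) (by rw [cs_apply, hf])
      (by rwa [dd_conj, dd_conj])
    exact ⟨k, tg_conj g h1, by rwa [dd_conj] at h2⟩

end Cfsg.Agent.N2.Ex.CC
end

-- part: N2/Ex/CC/QB3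
section
/-!
# N2 (S3519), `BoxCC`: a better torus, `r = 3` (helper90)
-/

set_option autoImplicit false
set_option linter.unusedSectionVars false
set_option maxHeartbeats 400000

namespace Cfsg.Agent.N2.Ex.CC

open CoxeterSystem Cfsg Cfsg.Lie Cfsg.Lie.ChevalleyDatum
open Cfsg.Agent.ChevalleyStructure Cfsg.Agent.ChevalleyStructure.CoxeterGeom Cfsg.Agent.Tits.Roots Cfsg.Agent.Nodes
  Cfsg.Agent.Nodes.BNOf Cfsg.Agent.Nodes.RGDChev Cfsg.Agent.Nodes.Coroot Cfsg.Agent.Nodes.Reps Cfsg.Agent.Tits.Core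
open Cfsg.Agent.KFacts.RgdChevCoord Cfsg.Agent.BpExc.Fr Cfsg.Agent.BpExc.LangFr
open Cfsg.Agent.H469.Exc Cfsg.Agent.H316.U6 Cfsg.Agent.H129.TorusChar Cfsg.Agent.DS.Ex Cfsg.Agent.DS.Nt
open Cfsg.Agent.DS.Ex.Tor (RT FR MS)
open Cfsg.Agent.N2.Ex.Al (LL cp ac GW Ch)

namespace Q3

variable {D : ChevalleyDatum} {l : ℕ} {M : CoxeterMatrix (Fin l)} {hp : IsType D l M} {p : ℕ} [Fact p.Prime]
  {a b : LL l} {u w : M.Group} {k n t : YY D p} {Z : Set (YY D p)} {r : ℕ}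

theorem fin_ord (hp : IsType D l M) (y : YY D p) : IsOfFinOrder y := by
  obtain ⟨E, hE⟩ := BpExc.TowChev.exists_level hp (locFin p) y
  obtain ⟨y', rfl⟩ := hE E le_rfl
  have : Finite ↥(D.group ↥E.1) := BpExc.TowChev.finite_group
  exact (GpExc.Field.emb hp.inList E.1.subtype).isOfFinOrder ((isOfFinOrder_of_finite y' :))

theorem ac_mul (u w : M.Group) (x : LL l) : ac hp (u * w) x = ac hp u (ac hp w x) := rep_mul_apply _ _ _ _ _

theorem ac_one (x : LL l) : ac hp 1 x = x := by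
  rw [repAut_apply, map_one, Module.End.one_apply]

theorem t_x (ht : t ∈ TT D (KK p)) (ha : RT hp a) (s : KK p) : t * xc hp a s * t⁻¹ = xc hp a (cX hp t a * s) := by
  rw [cX_root hp _ ht ha]
  exact ((coW hp p).coord a ha).act t (by rw [TLe hp p]; exact ht) s

theorem rp_x (hg : RP hp p w k) (ha : RT hp a) :
    ∃ c : KK p, c ≠ 0 ∧ ∀ s, k * xc hp a s * k⁻¹ = xc hp (ac hp w a) (c * s) := by
  have C := coW hp p
  have key : ∀ ω : List (Fin l), ∃ k, RP hp p (M.toCoxeterSystem.wordProd ω) k ∧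
      ∃ c : KK p, c ≠ 0 ∧ ∀ s, k * xc hp a s * k⁻¹ = xc hp (ac hp (M.toCoxeterSystem.wordProd ω) a) (c * s) := by
    intro ω
    induction ω with
    | nil =>
      refine ⟨1, by rw [wordProd_nil]; exact RP.of_mem (one_mem _), 1, one_ne_zero, fun s => ?_⟩
      rw [wordProd_nil, ac_one, one_mul, one_mul, inv_one, mul_one]
    | cons i ω ih =>
      obtain ⟨k, hk, c, hc, e⟩ := ih
      obtain ⟨c', hc', e'⟩ := C.nact i _ (ha.act (M.toCoxeterSystem.wordProd ω))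
      refine ⟨nc hp (KK p) i * k, ?_, c' * c, mul_ne_zero hc' hc, fun s => ?_⟩
      · rw [wordProd_cons]; exact RP.mul (rp_simple _ (tw hp p).nsys i) hk
      · have h1 : nc hp (KK p) i * k * xc hp a s * (nc hp (KK p) i * k)⁻¹ =
          nc hp (KK p) i * (k * xc hp a s * k⁻¹) * (nc hp (KK p) i)⁻¹ := by group
        rw [h1, e, wordProd_cons, ac_mul, mul_assoc c']
        exact e' _
  obtain ⟨ω, rfl⟩ := M.toCoxeterSystem.wordProd_surjective w
  obtain ⟨g, hk, c, hc, e⟩ := key ω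
  have ht : g⁻¹ * k ∈ TT D (KK p) := RP.mem_T (hp := hp) (by simpa only [_root_.inv_mul_cancel] using hk.inv.mul hg)
  refine ⟨c * cX hp (g⁻¹ * k) a, mul_ne_zero hc ((isMC_cX hp ht).ne_zero a), fun s => ?_⟩
  have h1 : k * xc hp a s * k⁻¹ = g * ((g⁻¹ * k) * xc hp a s * (g⁻¹ * k)⁻¹) * g⁻¹ := by group
  rw [h1, t_x ht ha, e, mul_assoc]

theorem exists_na (p : ℕ) [Fact p.Prime] (ha : RT hp a) :
    ∃ (u : M.Group) (n : YY D p), n ∈ MS D p {a, -a} ∧ RP hp p u n ∧ ∀ x, ac hp u x = x - cp hp x a • a := by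
  have := finW hp
  obtain ⟨v, i, e⟩ := id ha
  obtain ⟨n, h1, h2⟩ := Tor.exists_rp_MS (hp := hp) (p := p) (S := {a, -a}) (by rintro _ (rfl | rfl); exacts [ha, ha.neg])
    (by rintro _ (rfl | rfl); exacts [.inr rfl, .inl (neg_neg _)]) (v := SubComb.rfl' M.toCoxeterSystem v i)
    (Subgroup.subset_closure ⟨v, i, .inl e.symm, rfl⟩)
  exact ⟨_, n, h1, h2, fun x => by rw [e]; exact rep_rfl'_eq _ _ v i x⟩

theorem cx_MS (h1 : CX p l k a) (h2 : CX p l k (-a)) (hn : n ∈ MS D p {a, -a}) : k * n = n * k := by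
  have h : MS D p {a, -a} ≤ Subgroup.centralizer {k} := iSup_le (by
    rintro ⟨_, rfl | rfl⟩ y hy
    exacts [Subgroup.mem_centralizer_singleton_iff.2 (h1 y hy).symm,
      Subgroup.mem_centralizer_singleton_iff.2 (h2 y hy).symm])
  exact (Subgroup.mem_centralizer_singleton_iff.1 (h hn)).symm

theorem cx_rep (hu : RP hp p u n) (h : k * n = n * k) (hb : RT hp b) (hk : CX p l k b) : CX p l k (ac hp u b) :=
  fun y hy => by
    have h1 : n⁻¹ * y * n ∈ XX D l (KK p) b := Reps.mem_cj.1 (by rw [hu.cj_X hb]; exact hy)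
    calc k * y = k * n * (n⁻¹ * y * n) * n⁻¹ := by group
      _ = n * (k * (n⁻¹ * y * n)) * n⁻¹ := by rw [h]; group
      _ = y * (n * k) * n⁻¹ := by rw [hk _ h1]; group
      _ = y * k := by rw [← h]; group

variable (hp) in
theorem exists_Z (hD : Typ D) (hr : r.Prime) (hrp : r ≠ p) (π : LL l →+ LL l) : ∃ Z : Set (YY D p), Z.Finite ∧
    Z ⊆ TT D (KK p) ∧ (∀ t ∈ Z, ∃ j : ℕ, t ^ r ^ j = 1) ∧ ∀ c, c ∈ Ps hp p Z ↔ RT hp c ∧ π c = 0 := by
  have := finW hp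
  have h1 : ∀ c : LL l, ∃ t ∈ TT D (KK p), (∃ j : ℕ, t ^ r ^ j = 1) ∧ (∀ x, π x = 0 → cX hp t x = 1) ∧
      (cX hp t c = 1 → π c = 0) := fun c => by
    by_cases h : π c = 0
    · exact ⟨1, one_mem _, ⟨0, one_pow _⟩, fun x _ => cX_one hp x, fun _ => h⟩
    obtain ⟨i, hi⟩ := Function.ne_iff.1 h
    obtain ⟨j, hj⟩ := exists_not_dvd hr (Int.natAbs_ne_zero.2 hi)
    have : NeZero ((r ^ (j + 1) : ℕ) : KK p) := ⟨by
      rw [Nat.cast_pow]
      exact pow_ne_zero _ fun h0 => hrp ((Nat.prime_dvd_prime_iff_eq Fact.out hr).1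
        ((CharP.cast_eq_zero_iff (KK p) p r).1 h0)).symm⟩
    have : NeZero (r ^ (j + 1)) := ⟨pow_ne_zero _ hr.ne_zero⟩
    obtain ⟨ζ, hζ⟩ := HasEnoughRootsOfUnity.exists_primitiveRoot (KK p) (r ^ (j + 1))
    obtain ⟨t, ht, e⟩ := exists_tor_zpow hp hD (hζ.ne_zero (NeZero.ne _)) ((Pi.evalAddMonoidHom _ i).comp π)
    refine ⟨t, ht, ⟨j + 1, pow_eq_one_of_cX (hp := hp) ht fun x => ?_⟩, fun x hx => ?_, fun h2 => (hj ?_).elim⟩
    · rw [e, ← zpow_natCast, ← zpow_mul, mul_comm, zpow_mul, zpow_natCast, hζ.pow_eq_one, one_zpow]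
    · rw [e, AddMonoidHom.comp_apply, hx, map_zero, zpow_zero]
    · rw [e, hζ.zpow_eq_one_iff_dvd] at h2
      exact Int.natCast_dvd.1 h2
  choose τ h2 h3 h4 h5 using h1
  have hZ : Set.range (fun x : M.Group × Fin l => τ (ac hp x.1 (sr x.2))) ⊆ TT D (KK p) := by
    rintro _ ⟨x, rfl⟩
    exact h2 _
  refine ⟨_, Set.finite_range _, hZ, by rintro _ ⟨x, rfl⟩; exact h3 _, fun c => (mem_Ps hZ).trans
    (and_congr_right fun ⟨v, i, e⟩ => ⟨fun h => h5 c (h _ ⟨(v, i), by rw [e]; rfl⟩), ?_⟩)⟩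
  rintro h _ ⟨x, rfl⟩
  exact h4 _ c h

theorem conj_T (hr : r.Prime) (hrp : r ≠ p) (hfin : Z.Finite) (hZ : Z ⊆ TT D (KK p))
    (hZr : ∀ t ∈ Z, ∃ j : ℕ, t ^ r ^ j = 1) (hn : n ∈ DZ hp p Z) {j : ℕ} (hj : n ^ r ^ j = 1) :
    ∃ m ∈ Mz hp p Z, m * n * m⁻¹ ∈ TT D (KK p) := by
  obtain ⟨g, hg⟩ := toral_step hr hrp hfin hZ hn hj (Q := Subgroup.closure (insert n Z))
    (isPGroup_of_comm (by
      rintro x (rfl | hx) y (rfl | hy)
      exacts [rfl, DZ_comm hZ hn hy, (DZ_comm hZ hn hx).symm, DZ_comm hZ (T_le_DZ (hp := hp) (hZ hx)) hy]) (by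
      rintro x (rfl | hx)
      exacts [⟨j, hj⟩, hZr x hx])) le_rfl
  have := hfin.to_subtype
  obtain ⟨m, h1, v, k, h2, -, e⟩ := form₂ hp (s := fun z : Z => g * z.1 * g⁻¹) (t := fun z : Z => z.1)
    (fun z => hg _ (Subgroup.subset_closure (.inr z.2))) (fun z => hZ z.2) (c := g⁻¹) fun z => by group
  rw [Subtype.range_coe] at h1
  refine ⟨m⁻¹, inv_mem h1, ?_⟩
  have h3 := h2.conj_mem (hg n (Subgroup.subset_closure (.inl rfl)))
  rwa [show k * (g * n * g⁻¹) * k⁻¹ = m⁻¹ * n * m⁻¹⁻¹ by rw [inv_eq_iff_eq_inv.1 (e :)]; group] at h3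

theorem conj_T' (hr : r.Prime) (hrp : r ≠ p) (hfin : Z.Finite) (hZ : Z ⊆ TT D (KK p))
    (hZr : ∀ t ∈ Z, ∃ j : ℕ, t ^ r ^ j = 1) (hn : n ∈ DZ hp p Z) (h1 : n ^ r ∈ TT D (KK p))
    (h2 : ∀ m ∈ Mz hp p Z, n ^ r * m = m * n ^ r) : ∃ m ∈ Mz hp p Z, m * n * m⁻¹ ∈ TT D (KK p) := by
  obtain ⟨j, s, hs, e⟩ := Nat.exists_eq_pow_mul_and_not_dvd (fin_ord hp n).orderOf_pos.ne' r hr.ne_one
  obtain ⟨m, hm, h3⟩ := conj_T hr hrp hfin hZ hZr (pow_mem hn s) (j := j) (by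
    rw [← pow_mul, mul_comm, ← e, pow_orderOf_eq_one])
  obtain ⟨α, β, h4⟩ : IsCoprime (s : ℤ) (r : ℤ) := Nat.isCoprime_iff_coprime.2 ((hr.coprime_iff_not_dvd.2 hs).symm)
  refine ⟨m, hm, ?_⟩
  have h5 : n = (n ^ s) ^ α * (n ^ r) ^ β := by
    rw [← zpow_natCast, ← zpow_natCast, ← zpow_mul, ← zpow_mul, ← zpow_add, mul_comm _ α, mul_comm _ β, h4, zpow_one]
  have h6 : m * n * m⁻¹ = (m * n ^ s * m⁻¹) ^ α * (m * n ^ r * m⁻¹) ^ β := by
    rw [conj_zpow, conj_zpow, conj_mul, ← h5]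
  rw [h6, ← h2 m hm, mul_inv_cancel_right]
  exact mul_mem (zpow_mem h3 α) (zpow_mem h1 β)

theorem nw3 (w : M.Group) (x : LL l) : Nw hp 3 w x = x + ac hp w x + ac hp w (ac hp w x) := by
  rw [Nw, Finset.sum_range_succ, Finset.sum_range_succ, Finset.sum_range_one, pow_zero, pow_one, sq, ac_one, ac_mul]

theorem six {x y : ℤ} (h : 6 = (2 * x + y) * x + (x + 2 * y) * y) : x = 2 ∧ y = -1 ∨ x = -2 ∧ y = 1 ∨ x = -1 ∧ y = 2 ∨
    x = 1 ∧ y = -2 ∨ x = 1 ∧ y = 1 ∨ x = -1 ∧ y = -1 := by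
  have h1 : -3 < x := by nlinarith only [h, sq_nonneg (x + 2 * y)]
  have h2 : x < 3 := by nlinarith only [h, sq_nonneg (x + 2 * y)]
  have h3 : -3 < y := by nlinarith only [h, sq_nonneg (2 * x + y)]
  have h4 : y < 3 := by nlinarith only [h, sq_nonneg (2 * x + y)]
  interval_cases x <;> interval_cases y <;> simp_all

theorem three_cancel {x y : LL l} (h : (3 : ℤ) • x = (3 : ℤ) • y) : x = y := smul_right_injective _ (by decide) h

end Q3

open Q3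

/-- **[QB]**, `r = 3` -/
theorem boxQB3 : BoxQB 3 := by
  intro hN D l M hp p _ hD e f w a P he hf ha h0
  have := finW hp
  obtain ⟨h4, h6, -⟩ := TorCE.typE_facts hp (P.typ.elim (fun h => .inl h.1) fun h => .inr (.inl h.1))
  have hE : ({e} : Set (YY D p)) ⊆ TT D (KK p) := Set.singleton_subset_iff.2 he
  have w3 : ∀ x, ac hp w (ac hp w (ac hp w x)) = x := fun x => by
    have h := (hf.pow 3).unique (P.hf ▸ RP.of_mem (one_mem _))
    rw [← ac_mul, ← ac_mul, mul_assoc, ← pow_three, h, ac_one]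
  obtain ⟨ra, ea⟩ := (mem_Ps hE).1 ha
  replace ea := ea e rfl
  have rb : RT hp (ac hp w a) := ra.act w
  have eb : cX hp e (ac hp w a) = 1 := (hf.cX_of_comm he P.comm a).trans ea
  rw [nw3] at h0
  obtain ⟨b, hb⟩ : ∃ b, ac hp w a = b := ⟨_, rfl⟩
  rw [hb] at rb eb h0
  have hb2 : ac hp w b = -a - b := by rw [eq_sub_iff_add_eq, eq_neg_iff_add_eq_zero, ← h0]; abel
  have ad : ∀ {c} (_ : RT hp c) (x y : LL l), cp hp (x + y) c = cp hp x c + cp hp y c := fun hc x y => cpr_add _ _ x y hc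
  have sm : ∀ {c} (_ : RT hp c) (m : ℤ) (x : LL l), cp hp (m • x) c = m * cp hp x c := fun hc m x => cpr_smul _ _ m x hc
  have ng : ∀ {c} (_ : RT hp c) (x : LL l), cp hp (-x) c = -cp hp x c := fun hc x => cpr_neg _ _ x hc
  have sy : ∀ {c d} (_ : RT hp c) (_ : RT hp d), cp hp c d = cp hp d c := fun hc hd => SimplyLaced.cpr_symm _ _ h4 h6 hc hd
  have aa : cp hp a a = 2 := cpr_self _ _ ra
  have bb : cp hp b b = 2 := cpr_self _ _ rb
  have iv : ∀ {c} (_ : RT hp c) (v : M.Group) (x : LL l), cp hp (ac hp v x) (ac hp v c) = cp hp x c :=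
    fun hc v x => cpr_rep _ _ v x hc
  have ba : cp hp b a = -1 := by
    have h1 := iv ra w b
    rw [hb, hb2, sub_eq_add_neg, ad rb, ng rb, ng rb, bb, sy ra rb] at h1
    omega
  have ab : cp hp a b = -1 := (sy ra rb).trans ba
  obtain ⟨ua, na, a1, a2, a3⟩ := exists_na (hp := hp) p ra
  obtain ⟨ub, nb, b1, b2, b3⟩ := exists_na (hp := hp) p rb
  have u1 : ∀ x, ∃ i j : ℤ, ac hp (ua * ub) x = x + i • a + j • b := fun x =>
    ⟨-cp hp (x - cp hp x b • b) a, -cp hp x b, by rw [ac_mul, b3, a3]; module⟩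
  have a4 : ac hp ua a = -a := by rw [a3, aa]; module
  have a5 : ac hp ua b = a + b := by rw [a3, ba]; module
  have u2 : ac hp (ua * ub) a = b := by rw [ac_mul, b3, ab, map_sub, map_zsmul, a4, a5]; module
  have u3 : ac hp (ua * ub) b = -a - b := by rw [ac_mul, b3, bb, map_sub, map_zsmul, a5]; module
  have n0 := a2.mul b2
  generalize ua * ub = u at u1 u2 u3 n0
  have u5 : ∀ x, ac hp (u ^ 3) x = x := fun x => by
    obtain ⟨s, t, h⟩ := u1 x
    rw [pow_three, ac_mul (hp := hp), ac_mul (hp := hp), h]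
    simp only [h, map_add, map_zsmul, map_sub, map_neg, u2, u3]
    module
  have u4 : u ^ 3 = 1 := eq_one_of_fix _ hp.isCartan _ fun i => u5 _
  have w0 : ∀ x, ac hp u (ac hp (u⁻¹ * w) x) = ac hp w x := fun x => by rw [← ac_mul, mul_inv_cancel_left]
  have w1 : ac hp (u⁻¹ * w) a = a := (ac hp u).injective (by rw [w0, hb, u2])
  have w2 : ac hp (u⁻¹ * w) b = b := (ac hp u).injective (by rw [w0, hb2, u3])
  have z0 := n0.inv.mul hf
  generalize u⁻¹ * w = w' at w0 w1 w2 z0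
  obtain ⟨ca, ca0, c1⟩ := rp_x z0 ra
  obtain ⟨cb, cb0, c2⟩ := rp_x z0 rb
  rw [w1] at c1
  rw [w2] at c2
  obtain ⟨α, hα⟩ := IsAlgClosed.exists_pow_nat_eq (ca ^ 2 * cb) (n := 3) (by decide)
  have α0 : α ≠ 0 := fun h => mul_ne_zero (pow_ne_zero 2 ca0) cb0 (by rw [← hα, h]; simp)
  obtain ⟨ta, ta1, ta2⟩ := exists_tor_zpow hp hD α0 (ell _ hp.isCartan ra)
  obtain ⟨tb, tb1, tb2⟩ := exists_tor_zpow hp hD (div_ne_zero (pow_ne_zero 2 α0) ca0) (ell _ hp.isCartan rb)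
  have t1 := mul_mem ta1 tb1
  have t2 : ∀ x, cX hp (ta * tb) x = α ^ cp hp x a * (α ^ 2 / ca) ^ cp hp x b := fun x => by
    rw [cX_mul hp ta1 tb1, ta2, tb2]; rfl
  generalize ta * tb = t at t1 t2
  have t3 : cX hp t a = ca := by
    rw [t2, aa, ab, zpow_neg_one, zpow_ofNat]
    field_simp
  have t4 : cX hp t b = cb := by
    rw [t2, bb, ba, zpow_neg_one, zpow_ofNat]
    field_simp
    linear_combination hα
  have z1 : RP hp p w' (t⁻¹ * ((na * nb)⁻¹ * f)) := one_mul w' ▸ (RP.of_mem (inv_mem t1)).mul z0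
  have z2 : ∀ c cc, RT hp c → cX hp t c = cc →
      (∀ s, (na * nb)⁻¹ * f * xc hp c s * ((na * nb)⁻¹ * f)⁻¹ = xc hp c (cc * s)) →
      CX p l (t⁻¹ * ((na * nb)⁻¹ * f)) c := fun c cc rc e1 e2 y hy => by
    obtain ⟨s, rfl⟩ := (mem_X (hp := hp) rc).1 hy
    have h1 := (e2 s).trans (e1 ▸ t_x t1 rc s).symm
    calc _ = t⁻¹ * ((na * nb)⁻¹ * f * xc hp c s * ((na * nb)⁻¹ * f)⁻¹) * ((na * nb)⁻¹ * f) := by group
      _ = _ := by rw [h1]; group
  have za := z2 a ca ra t3 c1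
  have zb := z2 b cb rb t4 c2
  have hfz : f = na * nb * t * (t⁻¹ * ((na * nb)⁻¹ * f)) := by group
  generalize t⁻¹ * ((na * nb)⁻¹ * f) = z at z1 za zb hfz
  have za' := hN D l M hp p hD w' z a ra z1 za
  have zb' := hN D l M hp p hD w' z b rb z1 zb
  have rc : RT hp (a + b) := a5 ▸ rb.act ua
  have zc : CX p l z (a + b) := a5 ▸ cx_rep a2 (cx_MS za za' a1) rb zb
  have zc' := hN D l M hp p hD w' z _ rc z1 zc
  let π : LL l →+ LL l := AddMonoidHom.mk'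
    (fun x => (3 : ℤ) • x - (2 * cp hp x a + cp hp x b) • a - (cp hp x a + 2 * cp hp x b) • b) fun x y => by
      simp only [ad ra, ad rb]
      module
  have π0 : ∀ x, π x = (3 : ℤ) • x - (2 * cp hp x a + cp hp x b) • a - (cp hp x a + 2 * cp hp x b) • b := fun _ => rfl
  have πa : π a = 0 := by rw [π0, aa, ab]; module
  have πb : π b = 0 := by rw [π0, bb, ba]; module
  obtain ⟨Z, Z1, Z2, Z3, Z4⟩ := exists_Z hp hD Nat.prime_three P.ne π
  have em := isMC_cX hp he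
  have key : ∀ c ∈ Ps hp p Z, cX hp e c = 1 ∧ CX p l z c := fun c hc => by
    obtain ⟨r1, r2⟩ := (Z4 c).1 hc
    have r3 : (3 : ℤ) • c = (2 * cp hp c a + cp hp c b) • a + (cp hp c a + 2 * cp hp c b) • b := by
      rw [π0, sub_sub, sub_eq_zero] at r2
      exact r2
    have r4 := congrArg (fun x => cp hp x c) r3
    simp only [ad r1, sm r1] at r4
    rw [show cp hp c c = 2 from cpr_self _ _ r1, sy ra r1, sy rb r1] at r4
    rcases six r4 with ⟨e1, e2⟩ | ⟨e1, e2⟩ | ⟨e1, e2⟩ | ⟨e1, e2⟩ | ⟨e1, e2⟩ | ⟨e1, e2⟩ <;> rw [e1, e2] at r3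
    · obtain rfl : c = a := three_cancel (by rw [r3]; module)
      exact ⟨ea, za⟩
    · obtain rfl : c = -a := three_cancel (by rw [r3]; module)
      exact ⟨by rw [em.neg, ea, inv_one], za'⟩
    · obtain rfl : c = b := three_cancel (by rw [r3]; module)
      exact ⟨eb, zb⟩
    · obtain rfl : c = -b := three_cancel (by rw [r3]; module)
      exact ⟨by rw [em.neg, eb, inv_one], zb'⟩
    · obtain rfl : c = a + b := three_cancel (by rw [r3]; module)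
      exact ⟨by rw [em.add, ea, eb, one_mul], zc⟩
    · obtain rfl : c = -(a + b) := three_cancel (by rw [r3]; module)
      exact ⟨by rw [em.neg, em.add, ea, eb, one_mul, inv_one], zc'⟩
  have zM : ∀ m ∈ Mz hp p Z, Commute z m := fun m hm =>
    (Subgroup.mem_centralizer_singleton_iff.1 (Mz_le (K := Subgroup.centralizer {z}) (fun c hc y hy =>
      Subgroup.mem_centralizer_singleton_iff.2 ((key c hc).2 y hy).symm) hm)).symm
  have nM : ∀ c, RT hp c → π c = 0 → MS D p {c, -c} ≤ Mz hp p Z := fun c r1 r2 => iSup_le (by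
    rintro ⟨_, rfl | rfl⟩
    exacts [X_le_Mz ((Z4 _).2 ⟨r1, r2⟩), X_le_Mz ((Z4 _).2 ⟨r1.neg, by rw [map_neg, r2, neg_zero]⟩)])
  have n1 : na * nb ∈ Mz hp p Z := mul_mem (nM a ra πa a1) (nM b rb πb b1)
  have n2 : Commute z (na * nb * t) := (zM _ n1).mul_right (z1.comm t1 fun x => by
    have h1 := iv ra w' x
    have h2 := iv rb w' x
    rw [w1] at h1
    rw [w2] at h2
    rw [← repAut_apply, t2, t2, h1, h2])
  have n3 : RP hp p u (na * nb * t) := mul_one u ▸ n0.mul (RP.of_mem t1)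
  have n4 : na * nb * t ∈ DZ hp p Z := mul_mem (Mz_le_DZ n1) (T_le_DZ t1)
  generalize na * nb * t = n at n2 n3 n4 hfz
  have n5 : n ^ 3 = (z ^ 3)⁻¹ := (eq_inv_of_mul_eq_one_left (by rw [← n2.symm.mul_pow, ← hfz, P.hf]) : _)
  obtain ⟨m, m1, m2⟩ := conj_T' Nat.prime_three P.ne Z1 Z2 Z3 n4 (RP.mem_T (hp := hp) (u4 ▸ n3.pow 3))
    fun m hm => n5 ▸ ((zM m hm).pow_left 3).inv_left
  refine ⟨m, w', (comm_Mz he (fun c hc => (key c hc).1) m1).symm, ?_, w1, fun x hx => ?_⟩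
  · rw [show m * f * m⁻¹ = m * n * m⁻¹ * z by rw [hfz, mul_assoc _ m⁻¹, ← (zM m m1).inv_right.eq]; group]
    exact one_mul w' ▸ (RP.of_mem m2).mul z1
  · let N : LL l →+ LL l := AddMonoidHom.mk' (Nw hp 3 w) fun x y => by
      simp only [nw3, map_add]
      abel
    have N0 : ∀ x, N x = x + ac hp w x + ac hp w (ac hp w x) := nw3 w
    have N1 : ∀ x, N (ac hp w x) = N x := fun x => by rw [N0, N0, w3]; abel
    have Na : N a = 0 := by rw [N0, hb, h0]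
    have Nb : N b = 0 := by rw [← hb, N1, Na]
    have N2 : ∀ x, N (ac hp w' x) = N x := fun x => by
      obtain ⟨i, j, h⟩ := u1 (ac hp w' x)
      rw [← N1 x, ← w0, h, map_add, map_add, map_zsmul, map_zsmul, Na, Nb, smul_zero, smul_zero, add_zero, add_zero]
    have h1 := congrArg N hx
    rw [nw3, map_add, map_add, N2, N2, N2, map_zero] at h1
    change N x = 0
    generalize N x = y at h1
    exact three_cancel (by rw [smul_zero, ← h1]; module)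

end Cfsg.Agent.N2.Ex.CC
end

-- part: N2/Ex/CC/Cj
section
/-!
# N2 (S3519), `E₆`, `E₇`, box `Cj`: conjugacy of the frames under `Cc` (helper89)
-/

set_option autoImplicit false
set_option linter.unusedSectionVars false

namespace Cfsg.Agent.N2.Ex.CC

open CoxeterSystem Cfsg Cfsg.Lie Cfsg.Lie.ChevalleyDatum
open Cfsg.Agent.ChevalleyStructure Cfsg.Agent.ChevalleyStructure.CoxeterGeom Cfsg.Agent.Tits.Roots Cfsg.Agent.Nodes
  Cfsg.Agent.Nodes.BNOf Cfsg.Agent.Nodes.RGDChev Cfsg.Agent.Nodes.Reps Cfsg.Agent.Nodes.NormalForm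
open Cfsg.Agent.KFacts.RgdChevCoord Cfsg.Agent.BpExc.Fr Cfsg.Agent.BpExc.LangFr Cfsg.Agent.BpExc.Tow
open Cfsg.Agent.H469.Exc Cfsg.Agent.H129.TorusChar Cfsg.Agent.DS.Ex Cfsg.Agent.DS.Nt
open Cfsg.Agent.DS.Ex.Tor (RT MS)
open Cfsg.Agent.N2.Ex.Al (LL)

namespace Cj

variable {D : ChevalleyDatum} {l : ℕ} {M : CoxeterMatrix (Fin l)} {hp : IsType D l M} {p : ℕ} [Fact p.Prime]

local notation "ρ" => rep M.toCoxeterSystem hp.isCartan
local notation "𝒫" => RGD.Pos M.toCoxeterSystem hp.isCartan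
local notation "𝒩" => NW M.toCoxeterSystem hp.isCartan

theorem conj_MS {w : M.Group} {k m : YY D p} (hk : RP hp p w k) {S S' : Set (LL l)} (h : ∀ a ∈ S, RT hp a ∧ ρ w a ∈ S')
    (hm : m ∈ MS D p S) : k * m * k⁻¹ ∈ MS D p S' := by
  have h1 : MS D p S ≤ (MS D p S').comap (MulAut.conj k).toMonoidHom := RGD.Sup_le fun a ha y hy =>
    RGD.le_Sup (h a ha).2 (by rw [← hk.cj_X (h a ha).1]; exact conj_mem_cj.2 hy)
  exact h1 hm

theorem nf (y : YY D p) : ∃ x, ∃ u ∈ MS D p 𝒫, ∃ k, RP hp p x k ∧ ∃ v ∈ MS D p (𝒩 x), y = u * k * v := by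
  have := finW hp
  have h := (tw hp p).exists_normal_form (g := y) (by rw [GGW hp p]; exact Subgroup.mem_top _)
  rwa [XLe hp p] at h

/-- comparison of normal forms -/
theorem nf_comm {x w w' : M.Group} {u k v f f' : YY D p} (hu : u ∈ MS D p 𝒫) (hk : RP hp p x k) (hv : v ∈ MS D p (𝒩 x))
    (hf : RP hp p w f) (hf' : RP hp p w' f') (h1 : f * u * f⁻¹ ∈ MS D p 𝒫) (h2 : f' * v * f'⁻¹ ∈ MS D p (𝒩 (w * x * w'⁻¹)))
    (e : u * k * v * f' * (u * k * v)⁻¹ = f) : f * u = u * f ∧ k * f' * k⁻¹ = f ∧ f' * v = v * f' := by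
  have := finW hp
  simp only [MS, ← XLe hp p] at hu hv h1 h2
  obtain ⟨-, k1, k2, k3⟩ := (tw hp p).normal_form_unique h1 hu ((hf.mul hk).mul hf'.inv) hk h2 hv (by
    rw [show f * u * f⁻¹ * (f * k * f'⁻¹) * (f' * v * f'⁻¹) = f * (u * k * v) * f'⁻¹ by group, ← e]
    group)
  refine ⟨mul_inv_eq_iff_eq_mul.1 k1, ?_, mul_inv_eq_iff_eq_mul.1 k3⟩
  rw [← mul_inv_eq_iff_eq_mul.1 k2, mul_inv_cancel_right]

/-- the centraliser of an element of the torus in a unipotent group -/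
theorem cen_PW (x : M.Group) {t v : YY D p} (ht : t ∈ TT D (KK p))
    (hv : v ∈ MS D p (StabComb.PW M.toCoxeterSystem hp.isCartan x)) (e : t * v = v * t) :
    v ∈ MS D p (StabComb.PW M.toCoxeterSystem hp.isCartan x ∩ Ps hp p {t}) := by
  have := finW hp
  have H := tw hp p
  rw [← TLe hp p] at ht
  simp only [MS, ← XLe hp p] at hv ⊢
  obtain ⟨j1, h1⟩ := H.mem_TL.1 ht
  obtain ⟨j2, h2⟩ := H.mem_Sup.1 hv
  obtain ⟨j, b1, b2⟩ := H.dir j1 j2
  have h3 := centralizer_PW (H.rgd j) x (S := {t}) (Set.singleton_subset_iff.2 (H.monoT b1 h1)) (H.mono_Sup _ b2 h2)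
    (Subgroup.mem_centralizer_singleton_iff.2 e.symm)
  refine RGD.Sup_le (K := RGD.Sup (XL (BpExc.TowChev.Xj hp)) _) (fun a ha => ?_) h3
  rintro y ⟨hy, hc⟩
  by_cases hy1 : y = 1
  · rw [hy1]
    exact one_mem _
  have h4 := le_XL j a hy
  refine RGD.le_Sup (S := StabComb.PW M.toCoxeterSystem hp.isCartan x ∩ Ps hp p {t}) ⟨ha, ha.1, ?_⟩ h4
  rintro _ rfl
  exact (BpExc.TorCent.mem_Sx_of_centralizer (coW hp p) ht ha.1 h4 hy1 hc).2

theorem cen_P {t v : YY D p} (ht : t ∈ TT D (KK p)) (hv : v ∈ MS D p 𝒫) (e : t * v = v * t) :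
    v ∈ MS D p (𝒫 ∩ Ps hp p {t}) := by
  have h : 𝒫 = StabComb.PW M.toCoxeterSystem hp.isCartan 1 := Set.ext fun a =>
    ⟨fun h => ⟨h.1, h.2, by rw [map_one]; exact h.2⟩, fun h => ⟨h.1, h.2.1⟩⟩
  rw [h] at hv ⊢
  exact cen_PW 1 ht hv e

theorem cen_N (x : M.Group) {t v : YY D p} (ht : t ∈ TT D (KK p)) (hv : v ∈ MS D p (𝒩 x)) (e : t * v = v * t) :
    v ∈ MS D p (𝒩 x ∩ Ps hp p {t}) := by
  have := finW hp
  obtain ⟨z, hz⟩ := Sys.exists_longest M.toCoxeterSystem hp.isCartan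
  have h : 𝒩 x = StabComb.PW M.toCoxeterSystem hp.isCartan (z⁻¹ * x) := Set.ext fun a =>
    ⟨fun h => ⟨h.1, h.2.1, by
      have h1 := hz _ (h.1.act x).neg (neg_nonneg.2 h.2.2)
      rwa [map_neg, neg_nonpos, ← rep_mul_apply] at h1⟩,
    fun h => ⟨h.1, h.2.1, (h.1.act x).pos_or_neg.resolve_left fun h1 =>
      (h.1.act (z⁻¹ * x)).not_pos_neg h.2.2 (by rw [rep_mul_apply]; exact hz _ (h.1.act x) h1)⟩⟩
  rw [h] at hv ⊢
  exact cen_PW _ ht hv e

theorem ps_act {x : M.Group} {k e e' : YY D p} (hk : RP hp p x k) (he : e ∈ TT D (KK p)) (he' : e' ∈ TT D (KK p))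
    (h : k * e' * k⁻¹ = e) {a : LL l} (ha : a ∈ Ps hp p {e'}) : ρ x a ∈ Ps hp p {e} := by
  rw [mem_Ps (Set.singleton_subset_iff.2 he')] at ha
  rw [mem_Ps (Set.singleton_subset_iff.2 he)]
  refine ⟨ha.1.act x, ?_⟩
  rintro _ rfl
  rw [← h, hk.cX he']
  exact ha.2 _ rfl

theorem ps_neg {e : YY D p} (he : e ∈ TT D (KK p)) {a : LL l} (ha : a ∈ Ps hp p {e}) : -a ∈ Ps hp p {e} :=
  H795.SetCent.SxZ_neg (coW hp p) (sub_TL (Set.singleton_subset_iff.2 he)) (chW hp p) ha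

/-- an invariant height function -/
theorem exists_mu {e f : YY D p} {w : M.Group} (h : Qs hp p e f w) :
    ∃ μ : LL l →+ ℤ, (∀ x, μ (ρ w x) = μ x) ∧ ∀ a ∈ Ps hp p {e}, 0 ≤ a → 0 < μ a := by
  have := finW hp
  have h0 : 0 < orderOf w := orderOf_pos w
  refine ⟨AddMonoidHom.mk' (fun x => ∑ i ∈ Finset.range (orderOf w), ∑ j, ρ (w ^ i) x j) fun x y => by
    simp only [map_add, Pi.add_apply, Finset.sum_add_distrib], fun x => ?_, fun a ha h1 => ?_⟩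
  · have h1 := Finset.sum_range_succ (fun i => ∑ j, ρ (w ^ i) x j) (orderOf w)
    rw [Finset.sum_range_succ', pow_orderOf_eq_one, pow_zero] at h1
    simp only [pow_succ, rep_mul_apply] at h1
    exact add_right_cancel h1
  · have h2 : ∀ i : ℕ, ρ (w ^ i) a ∈ Ps hp p {e} ∧ 0 ≤ ρ (w ^ i) a := fun i => by
      induction i with
      | zero => rw [pow_zero, map_one]; exact ⟨ha, h1⟩
      | succ i ih =>
        rw [pow_succ', rep_mul_apply]
        exact ⟨ps_act h.rp h.mem h.mem (by rw [h.comm, mul_inv_cancel_right]) ih.1, h.pos _ ih.1 ih.2⟩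
    refine Finset.sum_pos (fun i _ => ?_) ⟨0, Finset.mem_range.2 h0⟩
    obtain ⟨j, hj⟩ := Function.ne_iff.1 (h2 i).1.1.ne_zero
    exact Finset.sum_pos' (fun j _ => (h2 i).2 j) ⟨j, Finset.mem_univ j, lt_of_le_of_ne ((h2 i).2 j) (Ne.symm hj)⟩

theorem mem_Cc (hC : BoxCur) (hD : Typ D) {e f u : YY D p} {w : M.Group} (h : Qs hp p e f w) {μ : LL l →+ ℤ}
    (h1 : ∀ x, μ (ρ w x) = μ x) {S : Set (LL l)} (h2 : ∀ a ∈ S, RT hp a ∧ 0 < μ a) (hu : u ∈ MS D p S) (k1 : e * u = u * e)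
    (k2 : f * u = u * f) : u ∈ Cc p {e, f} := by
  refine hC D l M hp p hD μ S {e, f} u h2 hu ?_ fun t ht c _ hc => ?_
  · rintro _ (rfl | rfl)
    exacts [k1, k2]
  · rintro _ (rfl | rfl)
    exacts [BpExc.TorChev.TT_comm hp _ h.mem t ht, h.rp.comm ht fun x => by rw [hc, hc, h1]]

end Cj

open Cj in
/-- **[Cj]** -/
theorem boxCj : BoxCj := fun hC D l M hp p _ hD e f e' f' y w w' h h' e1 e2 => by
  obtain ⟨x, u, hu, k, hk, v, hv, rfl⟩ := nf (hp := hp) y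
  obtain ⟨a1, a2, a3⟩ := nf_comm hu hk hv (RP.of_mem h.mem) (RP.of_mem h'.mem)
    (conj_MS (hp := hp) (RP.of_mem h.mem) (fun a ha => ⟨ha.1, by rwa [map_one]⟩) hu)
    (conj_MS (hp := hp) (RP.of_mem h'.mem) (fun a ha => ⟨ha.1, by rwa [map_one, inv_one, one_mul, mul_one]⟩) hv) e1
  have hu' := cen_P (hp := hp) h.mem hu a1
  have hv' := cen_N (hp := hp) x h'.mem hv a3
  obtain ⟨b1, b2, b3⟩ := nf_comm hu hk hv h.rp h'.rp
    (conj_MS h.rp (fun a ha => ⟨ha.1.1, ha.1.1.act w, h.pos a ha.2 ha.1.2⟩) hu')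
    (conj_MS h'.rp (fun a ha => ⟨ha.1.1, ha.1.1.act w', h'.pos a ha.2 ha.1.2.1, by
      have h1 := h.pos _ (ps_neg (hp := hp) h.mem (ps_act hk h.mem h'.mem a2 ha.2)) (neg_nonneg.2 ha.1.2.2)
      rw [map_neg, neg_nonneg] at h1
      rw [← rep_mul_apply, inv_mul_cancel_right, rep_mul_apply]
      exact h1⟩) hv') e2
  obtain ⟨μ, m1, m2⟩ := exists_mu h
  have c1 := mem_Cc hC hD h m1 (fun a ha => ⟨ha.1.1, m2 a ha.2 ha.1.2⟩) hu' a1 b1
  have c2 := mem_Cc hC hD h (μ := -μ) (fun x => congrArg Neg.neg (m1 x)) (S := {a | a ∈ Ps hp p {e} ∧ a ≤ 0})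
    (fun a ha => ⟨ha.1.1, by
      have h1 := m2 _ (ps_neg (hp := hp) h.mem ha.1) (neg_nonneg.2 ha.2)
      rwa [map_neg] at h1⟩)
    (conj_MS hk (fun a ha => ⟨ha.1.1, ps_act hk h.mem h'.mem a2 ha.2, ha.1.2.2⟩) hv')
    (by rw [← a2, show k * e' * k⁻¹ * (k * v * k⁻¹) = k * (e' * v) * k⁻¹ by group, a3]; group)
    (by rw [← b2, show k * f' * k⁻¹ * (k * v * k⁻¹) = k * (f' * v) * k⁻¹ by group, b3]; group)
  exact ⟨_, (by exact mul_mem c1 c2), x, by rwa [show (u * (k * v * k⁻¹))⁻¹ * (u * k * v) = k by group]⟩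

end Cfsg.Agent.N2.Ex.CC
end

-- part: N2/Ex/CC/Nf
section
/-!
# N2 (S3519), `E₆`, `E₇`: the normal forms of the pairs (helper58)
-/

set_option autoImplicit false
set_option linter.unusedSectionVars false
set_option maxRecDepth 100000

namespace Cfsg.Agent.N2.Ex.CC

open CoxeterSystem Cfsg Cfsg.Lie Cfsg.Lie.ChevalleyDatum
open Cfsg.Agent.ChevalleyStructure Cfsg.Agent.ChevalleyStructure.CoxeterGeom Cfsg.Agent.Tits.Roots Cfsg.Agent.Nodes
  Cfsg.Agent.Nodes.BNOf Cfsg.Agent.Nodes.RGDChev Cfsg.Agent.Nodes.Coroot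
open Cfsg.Agent.KFacts.RgdChevCoord Cfsg.Agent.BpExc.Fr Cfsg.Agent.BpExc.LangFr
open Cfsg.Agent.H469.Exc Cfsg.Agent.H316.U6 Cfsg.Agent.H129.TorusChar Cfsg.Agent.DS.Ex Cfsg.Agent.DS.Nt
open Cfsg.Agent.DS.Ex.Tor (RT FR MS)
open Cfsg.Agent.N2.Ex.Al (LL cp ac GW Ch)
open Cfsg.Agent.H931.KC

namespace Nf

/-- the symmetry `τ` is determined by its first `s` values -/
def Rg (D : ChevalleyDatum) (l : ℕ) (B : Fin l → Fin l → ℤ) (o : Fin (l + 1) → Option (Fin l))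
    (τ : Option (Fin l) → Option (Fin l)) (s : ℕ) (V : List (List ℤ)) : Prop :=
  (∀ j, ∃ k, o k = j) ∧ (∀ (k : Fin (l + 1)) y, s ≤ k.1 → H931.KC.mk D l y = H931.KC.mk D l (o k) → (∀ m, m < k →
    H92.NE.bl B (al D l (τ (o m))) (al D l y) = H92.NE.bl B (al D l (o m)) (al D l (o k))) → y = τ (o k)) ∧
    ∀ i j, al D l (τ (some i)) j = lv l (V.getD i []) j

/-- the form of `E₆` -/
def B6 : Fin 6 → Fin 6 → ℤ := ![![2, 0, -1, 0, 0, 0], ![0, 2, 0, -1, 0, 0], ![-1, 0, 2, -1, 0, 0],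
  ![0, -1, -1, 2, -1, 0], ![0, 0, 0, -1, 2, -1], ![0, 0, 0, 0, -1, 2]]

/-- the form of `E₇` -/
def B7 : Fin 7 → Fin 7 → ℤ := ![![2, 0, -1, 0, 0, 0, 0], ![0, 2, 0, -1, 0, 0, 0], ![-1, 0, 2, -1, 0, 0, 0],
  ![0, -1, -1, 2, -1, 0, 0], ![0, 0, 0, -1, 2, -1, 0], ![0, 0, 0, 0, -1, 2, -1], ![0, 0, 0, 0, 0, -1, 2]]

/-- a permutation of the nodes -/
def pm {l : ℕ} (a : Option (Fin l)) (f : Fin l → Option (Fin l)) (x : Option (Fin l)) : Option (Fin l) := x.elim a f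

theorem rg7 : Rg chevE7 7 B7 ![none, some 0, some 2, some 3, some 4, some 1, some 5, some 6]
    (pm (some 6) ![some 5, some 1, some 4, some 3, some 2, some 0, none]) 1 V7 := by
  unfold Rg
  decide +kernel

theorem rg6 : Rg chevE6 6 B6 ![none, some 0, some 1, some 2, some 3, some 4, some 5]
    (pm (some 0) ![some 5, some 2, some 4, some 3, some 1, none]) 2 V6 := by
  unfold Rg
  decide +kernel

theorem rg6' : Rg chevE6 6 B6 ![none, some 5, some 1, some 4, some 3, some 2, some 0]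
    (pm (some 5) ![none, some 4, some 1, some 3, some 2, some 0]) 2 W6 := by
  unfold Rg
  decide +kernel

/-- the number of the roots which are killed -/
def nr (D : ChevalleyDatum) (l r : ℕ) (c : List ℤ) : ℕ :=
  (Finset.univ.filter fun s : Fin D.nroots => (r : ℤ) ∣ psi (lv l c) (vec D l s)).card

theorem nr7 : nr chevE7 7 2 [0, 1, 0, 0, 0, 0, 0] = 56 ∧ nr chevE7 7 2 [0, 0, 0, 0, 0, 0, 1] = 72 := by decide +kernel

theorem nr6 : nr chevE6 6 3 [1, 0, 0, 0, 0, 1] = 24 ∧ nr chevE6 6 3 [0, 0, 0, 1, 0, 0] = 18 := by decide +kernel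

variable {D : ChevalleyDatum} {l : ℕ} {M : CoxeterMatrix (Fin l)} {hp : IsType D l M} {p : ℕ} [Fact p.Prime]

theorem Rg.eq {B : Fin l → Fin l → ℤ} {o : Fin (l + 1) → Option (Fin l)} {τ : Option (Fin l) → Option (Fin l)} {s : ℕ}
    {V : List (List ℤ)} (h : Rg D l B o τ s V) {π : Equiv.Perm (Option (Fin l))} (h0 : ∀ i, H931.KC.mk D l (π i) = H931.KC.mk D l i)
    (h1 : ∀ i j, H92.NE.bl B (al D l (π i)) (al D l (π j)) = H92.NE.bl B (al D l i) (al D l j))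
    (h2 : ∀ k : Fin (l + 1), k.1 < s → π (o k) = τ (o k)) (j : Option (Fin l)) : π j = τ j := by
  have h3 : ∀ N : ℕ, ∀ k : Fin (l + 1), (k : ℕ) < N → π (o k) = τ (o k) := by
    intro N
    induction N with
    | zero => exact fun k hk => absurd hk (Nat.not_lt_zero _)
    | succ N ih =>
      intro k hk
      refine (Nat.lt_or_ge k s).elim (h2 k) fun h4 => h.2.1 k _ h4 (h0 _) fun m hm => ?_
      rw [← ih m (lt_of_lt_of_le hm (Nat.lt_succ_iff.1 hk)), h1]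
  obtain ⟨k, rfl⟩ := h.1 j
  exact h3 (k + 1) k (Nat.lt_succ_self _)

theorem core {r : ℕ} {e f : YY D p} {w : M.Group} (h : P2 p r e f) (hq : Qs hp p e f w) (hw : w ≠ 1) :
    ∃ (g : YY D p) (u v : M.Group) (c : Fin l → ℕ) (c0 : ℕ) (π : Equiv.Perm (Option (Fin l))), RP hp p u g ∧
      Kac D l r c c0 ∧ (∀ i, rep M.toCoxeterSystem hp.isCartan v (al D l i) = al D l (π i)) ∧
      (∀ i, ct c c0 (π i) = ct c c0 i) ∧ π none ≠ none ∧ v ^ r = 1 ∧
      ∀ (c' : List ℤ) (V : List (List ℤ)), (∀ i, (c i : ℤ) = lv l c' i) →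
        (∀ i j, al D l (π (some i)) j = lv l (V.getD i []) j) →
        St hp p r c' V (g * e * g⁻¹) (g * f * g⁻¹) v ∧ dd p e = l + nr D l r c' := by
  have := finW hp
  obtain ⟨ζ, hζ⟩ := exists_prim (p := p) h.prime h.ne
  obtain ⟨w0, v, c, c0, π, K, h1, hv, h2, h3, h4⟩ := pp_diag (hp := hp) (y := w) h.prime.pos hζ hq.mem h.he
    (BpExc.TorCent.mem_PP.2 ⟨fun a ha => by
      rw [← cX_root hp M.toCoxeterSystem hq.mem ha, ← cX_root hp M.toCoxeterSystem hq.mem (ha.act w),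
        hq.rp.cX_of_comm hq.mem hq.comm],
      fun a ha => hq.pos a ⟨ha.1, fun t ht => ht ▸ ha.2⟩⟩) hw
  obtain ⟨g, hg⟩ := exists_RP hp p w0⁻¹
  have h5 : RP hp p v (g * f * g⁻¹) := by
    have h5 := (hg.mul hq.rp).mul hg.inv
    rwa [inv_inv, ← hv] at h5
  have h6 := h5.pow r
  rw [(h.conj g).hf] at h6
  refine ⟨g, _, v, c, c0, π, hg, K, h2, h3, h4, h6.unique (RP.of_mem (one_mem _)), fun c' V h7 h8 => ?_⟩
  have h9 : ∀ x, cX hp e (rep M.toCoxeterSystem hp.isCartan w0 x) = ζ ^ psi (lv l c') x := fun x => by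
    rw [h1, ← funext h7]
    rfl
  refine ⟨⟨hg.conj_mem hq.mem, ⟨ζ, hζ, fun x => ?_⟩, h5, fun i => (h2 (some i)).trans (funext (h8 i))⟩,
    dd_of_kac hq.mem hζ h9⟩
  have h10 := hg.cX hq.mem (rep M.toCoxeterSystem hp.isCartan w0 x)
  rwa [rep_inv_apply, h9] at h10

end Nf

theorem boxNf : BoxNf := by
  intro D l M hp p _ _ r e f w h hq hw
  obtain ⟨g, u, v, c, c0, h88⟩ := Nf.core h hq hw
  revert h88; rintro ⟨π, h1, K, h2, h3, h88⟩
  revert h88; rintro ⟨h4, h5, h6⟩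
  have h7 := K.sum
  have h8 := mk_perm hp h2
  rcases h.typ with ⟨rfl, rfl⟩ | ⟨rfl, rfl⟩
  · obtain rfl := (typ_l hp).2.1 rfl
    have h9 : π (π (π none)) = none := by
      refine al_inj hp ?_
      rw [← h2, ← h2, ← h2, ← rep_mul_apply, ← rep_mul_apply, ← pow_three', h5, map_one, Module.End.one_apply]
    have h10 := mk6 _ ((h8 (π none)).trans (h8 none))
    have h11 : π (π none) ≠ none := fun k => h4 (by rwa [k] at h9)
    have h12 : π (π none) ≠ π none := fun k => h4 (π.injective k)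
    rw [hrE6, Fin.sum_univ_six] at h7
    simp only [Matrix.cons_val_zero, Matrix.cons_val_one, Matrix.cons_val] at h7
    have key : ∀ V, V = V6 ∨ V = W6 → (∀ i j, al chevE6 6 (π (some i)) j = lv 6 (V.getD i []) j) →
        c 0 = c0 → c 5 = c0 → ∃ (c : List ℤ) (V : List (List ℤ)), RP hp p u g ∧
          St hp p 3 c V (g * e * g⁻¹) (g * f * g⁻¹) v ∧
          ((∃ k, Row chevE6 3 c V (dd p e) k) ∨ (Row24 chevE6 3 c V ∧ dd p e = 24)) := fun V hV k1 k2 k3 => by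
      by_cases k4 : c0 = 0
      · obtain ⟨k5, k6⟩ := h6 [0, 0, 0, 1, 0, 0] V (fun i => by fin_cases i <;> simp [lv] <;> (clear * - k2 k4 h7 k3; omega)) k1
        exact ⟨_, V, h1, k5, .inr ⟨⟨rfl, rfl, hV, rfl⟩, k6.trans (congrArg (6 + ·) Nf.nr6.2)⟩⟩
      · obtain ⟨k5, k6⟩ := h6 [1, 0, 0, 0, 0, 1] V (fun i => by fin_cases i <;> simp [lv] <;> (clear * - h7 k3 k4 k2; omega)) k1
        exact ⟨_, V, h1, k5, .inl ⟨0, .inr (.inr ⟨rfl, rfl, hV, rfl, k6.trans (congrArg (6 + ·) Nf.nr6.1), rfl⟩)⟩⟩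
    refine ⟨g, u, v, ?_⟩
    rcases (mk6 _ (h8 none)).resolve_left h4 with k | k <;> rw [k] at h10 h11 h12
    · have k1 := (h10.resolve_left h11).resolve_left h12
      have k2 := Nf.rg6.eq h8 (bl_perm hp h2 ok_E6.1) fun i hi => by
        obtain rfl | rfl : i = 0 ∨ i = 1 := by revert i; decide
        exacts [k, k1]
      have k3 := h3 none
      have k4 := h3 (some 0)
      rw [k2] at k3 k4
      exact key V6 (.inl rfl) (fun i j => k2 _ ▸ Nf.rg6.2.2 i j) k3 (k4.trans k3)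
    · have k1 := (h10.resolve_left h11).resolve_right h12
      have k2 := Nf.rg6'.eq h8 (bl_perm hp h2 ok_E6.1) fun i hi => by
        obtain rfl | rfl : i = 0 ∨ i = 1 := by revert i; decide
        exacts [k, k1]
      have k3 := h3 none
      have k4 := h3 (some 5)
      rw [k2] at k3 k4
      exact key W6 (.inr rfl) (fun i j => k2 _ ▸ Nf.rg6'.2.2 i j) (k4.trans k3) k3
  · obtain rfl := (typ_l hp).2.2.1 rfl
    have k2 := Nf.rg7.eq h8 (bl_perm hp h2 ok_E7.1) fun i hi => by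
      obtain rfl : i = 0 := by revert i; decide
      exact (mk7 _ (h8 none)).resolve_left h4
    have k3 := h3 none
    have k4 := h3 (some 0)
    rw [k2] at k3 k4
    replace k3 : c 6 = c0 := k3
    replace k4 : c 5 = c 0 := k4
    rw [hrE7, Fin.sum_univ_seven] at h7
    simp only [Matrix.cons_val_zero, Matrix.cons_val_one, Matrix.cons_val] at h7
    have k1 : ∀ i j, al chevE7 7 (π (some i)) j = lv 7 (V7.getD i []) j := fun i j => k2 _ ▸ Nf.rg7.2.2 i j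
    by_cases k5 : c0 = 0
    · obtain ⟨k5, k6⟩ := h6 [0, 1, 0, 0, 0, 0, 0] V7 (fun i => by fin_cases i <;> simp [lv] <;> (clear * - h7 k4 k3 k5; omega)) k1
      exact ⟨g, u, v, _, V7, h1, k5, .inl ⟨2, .inl ⟨rfl, rfl, rfl, rfl, k6.trans (congrArg (7 + ·) Nf.nr7.1), rfl⟩⟩⟩
    · obtain ⟨k5, k6⟩ := h6 [0, 0, 0, 0, 0, 0, 1] V7 (fun i => by fin_cases i <;> simp [lv] <;> (clear * - h7 k4 k5 k3; omega)) k1
      exact ⟨g, u, v, _, V7, h1, k5, .inl ⟨6, .inr (.inl ⟨rfl, rfl, rfl, rfl, k6.trans (congrArg (7 + ·) Nf.nr7.2), rfl⟩)⟩⟩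

end Cfsg.Agent.N2.Ex.CC
end

-- part: N2/Ex/CC/Tw
section
/-!
# N2 (S3519), `BoxCC`: the reflections of the folded system (helper94)
-/

set_option autoImplicit false
set_option linter.unusedSectionVars false
set_option maxHeartbeats 400000

namespace Cfsg.Agent.N2.Ex.CC

open CoxeterSystem Cfsg Cfsg.Lie Cfsg.Lie.ChevalleyDatum
open Cfsg.Agent.ChevalleyStructure Cfsg.Agent.ChevalleyStructure.CoxeterGeom Cfsg.Agent.Tits.Roots Cfsg.Agent.Nodes
  Cfsg.Agent.Nodes.BNOf Cfsg.Agent.Nodes.RGDChev Cfsg.Agent.Nodes.Coroot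
open Cfsg.Agent.KFacts.RgdChevCoord Cfsg.Agent.BpExc.Fr Cfsg.Agent.BpExc.LangFr
open Cfsg.Agent.H469.Exc Cfsg.Agent.H316.U6 Cfsg.Agent.H129.TorusChar Cfsg.Agent.DS.Ex Cfsg.Agent.DS.Nt
open Cfsg.Agent.DS.Ex.Tor (RT FR MS)
open Cfsg.Agent.N2.Ex.Al (LL cp ac GW Ch)
open Cfsg.Agent.N2.Ex.Al.ET (ac_mul ac_one)

namespace Tw

section pure

variable {Y : Type} [Group Y] (f : Y)

/-- the product of the first `n` conjugates -/
def nm (n : ℕ) (x : Y) : Y := ((List.range n).map fun i => f ^ i * x * (f ^ i)⁻¹).prod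

theorem nm_zero (x : Y) : nm f 0 x = 1 := rfl

theorem nm_succ (n : ℕ) (x : Y) : nm f (n + 1) x = nm f n x * (f ^ n * x * (f ^ n)⁻¹) := by
  simp only [nm, List.range_succ, _root_.List.map_append, _root_.List.map_cons, _root_.List.map_nil, _root_.List.prod_append, _root_.List.prod_cons, _root_.List.prod_nil, _root_.mul_one]

theorem nm_conj (n : ℕ) (x : Y) : x * (f * nm f n x * f⁻¹) = nm f (n + 1) x := by
  induction n with
  | zero => simp [nm_succ, nm_zero]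
  | succ n ih =>
    have h := nm_succ f (n + 1) x
    rw [← ih] at h
    rw [h, nm_succ, pow_succ']
    group

variable {f}

theorem nm_mem {K : Subgroup Y} {n : ℕ} {x : Y} (h : ∀ i < n, f ^ i * x * (f ^ i)⁻¹ ∈ K) : nm f n x ∈ K := by
  induction n with
  | zero => exact one_mem _
  | succ n ih =>
    rw [nm_succ]
    exact mul_mem (ih fun i hi => h i (by omega)) (h n (by omega))

theorem nm_mul {n : ℕ} {x y : Y}
    (h : ∀ j < n, ∀ i < j, Commute (f ^ j * x * (f ^ j)⁻¹) (f ^ i * y * (f ^ i)⁻¹)) : nm f n (x * y) = nm f n x * nm f n y := by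
  induction n with
  | zero => simp [nm_zero]
  | succ n ih =>
    have h1 : nm f n y ∈ Subgroup.centralizer {f ^ n * x * (f ^ n)⁻¹} :=
      nm_mem fun i hi => Subgroup.mem_centralizer_singleton_iff.2 (h n (by omega) i hi).symm
    rw [nm_succ, nm_succ, nm_succ, ih fun j hj => h j (by omega), mul_assoc (nm f n x) (f ^ n * x * (f ^ n)⁻¹),
      ← mul_assoc (f ^ n * x * (f ^ n)⁻¹), ← Subgroup.mem_centralizer_singleton_iff.1 h1]
    group

theorem nm_one (n : ℕ) : nm f n 1 = 1 := Subgroup.mem_bot.1 (nm_mem fun i _ => by simp only [_root_.mul_one, _root_.mul_inv_cancel, _root_.OneMemClass.one_mem])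

theorem nm_comm {r : ℕ} {x : Y} (hf : f ^ r = 1) (h : ∀ i < r, Commute x (f ^ i * x * (f ^ i)⁻¹)) :
    f * nm f r x = nm f r x * f := by
  have h1 := nm_conj f r x
  have h2 : nm f r x ∈ Subgroup.centralizer {x} := nm_mem fun i hi => Subgroup.mem_centralizer_singleton_iff.2 (h i hi).symm
  rw [nm_succ, hf, one_mul, inv_one, mul_one, Subgroup.mem_centralizer_singleton_iff.1 h2, mul_right_inj] at h1
  exact mul_inv_eq_iff_eq_mul.1 h1

end pure

variable {D : ChevalleyDatum} {l : ℕ} {M : CoxeterMatrix (Fin l)} {hp : IsType D l M} {p : ℕ} [Fact p.Prime]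
  {r : ℕ} {e f : YY D p} {v w : M.Group} {a b : LL l}

theorem rt_ac (ha : RT hp a) (w : M.Group) : RT hp (ac hp w a) := ha.act w

theorem cp_ac (w : M.Group) (x : LL l) (ha : RT hp a) : cp hp (ac hp w x) (ac hp w a) = cp hp x a :=
  have := finW hp
  cpr_rep _ _ w x ha

theorem conj_X (h : RP hp p w f) (ha : RT hp a) {x : YY D p} (hx : x ∈ XX D l (KK p) a) :
    f * x * f⁻¹ ∈ XX D l (KK p) (ac hp w a) := by
  have h1 := h.cj_X ha
  rw [repAut_apply, ← h1]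
  exact ⟨x, hx, rfl⟩

theorem dc (P : P2 p r e f) (hp : IsType D l M) : SB.Exc.Max.DC M.toCoxeterSystem hp.isCartan (XX D l (KK p)) := by
  rcases SB.Exc.W.laced hp P.tp with h | h
  · have h1 := typ_l hp
    have h2 := h1.1 h
    rcases P.typ with k | k
    · have := h1.2.1 k.1
      omega
    · have := h1.2.2.1 k.1
      omega
  · exact SB.Exc.W.dc_laced hp h.1 h.2 _

theorem ort_neg (ha : RT hp a) (h : Ort hp r v a) : Ort hp r v (-a) := fun i h1 h2 => by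
  have := finW hp
  rw [map_neg, cp, cpr_neg _ _ _ ha.neg, cpr_neg_right _ _ _ ha, neg_neg]
  exact h i h1 h2

theorem ort_lt (ha : RT hp a) (h : Ort hp r v a) {i j : ℕ} (hj : j < r) (hi : i < j) :
    cp hp (ac hp (v ^ j) a) (ac hp (v ^ i) a) = 0 := by
  obtain ⟨k, rfl⟩ := Nat.exists_eq_add_of_lt hi
  rw [add_assoc, pow_add, ac_mul, cp_ac _ _ ha]
  exact h _ (by omega) (by omega)

/-- the subgroup generated by the root groups of `± a` -/
noncomputable abbrev JJ (D : ChevalleyDatum) {l : ℕ} (p : ℕ) [Fact p.Prime] (a : LL l) : Subgroup (YY D p) :=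
  XX D l (KK p) a ⊔ XX D l (KK p) (-a)

theorem conj_J (h : RP hp p w f) (ha : RT hp a) {x : YY D p} (hx : x ∈ JJ D p a) : f * x * f⁻¹ ∈ JJ D p (ac hp w a) := by
  have h1 : JJ D p a ≤ (JJ D p (ac hp w a)).comap (MulAut.conj f).toMonoidHom :=
    sup_le (fun y hy => Subgroup.mem_sup_left (conj_X h ha hy)) fun y hy =>
      Subgroup.mem_sup_right (map_neg (ac hp w) a ▸ conj_X h ha.neg hy)
  exact h1 hx

theorem comm_J (P : P2 p r e f) (ha : RT hp a) (hb : RT hp b) (h : cp hp a b = 0) {x y : YY D p} (hx : x ∈ JJ D p a)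
    (hy : y ∈ JJ D p b) : Commute x y := by
  have := finW hp
  have k : ∀ c, RT hp c → cp hp c b = 0 → XX D l (KK p) c ≤ Subgroup.centralizer (JJ D p b : Set (YY D p)) := fun c hc h0 => by
    rw [Subgroup.le_centralizer_iff]
    refine sup_le (fun u hu z hz => (dc P hp b c hb hc h0.ge u hu z hz).symm) fun u hu z hz =>
      (dc P hp (-b) c hb.neg hc ?_ u hu z hz).symm
    rw [cpr_neg_right _ _ _ hb, neg_nonneg]
    exact h0.le
  exact ((sup_le (k a ha h) (k _ ha.neg (by rw [cp, cpr_neg _ _ _ hb, neg_eq_zero]; exact h)) : JJ D p a ≤ _) hx y hy).symm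

theorem comm_cj (P : P2 p r e f) (hv : RP hp p v f) (ha : RT hp a) (h : Ort hp r v a) {x y : YY D p} (hx : x ∈ JJ D p a)
    (hy : y ∈ JJ D p a) : ∀ j < r, ∀ i < j, Commute (f ^ j * x * (f ^ j)⁻¹) (f ^ i * y * (f ^ i)⁻¹) := fun j hj i hi =>
  comm_J P (rt_ac ha _) (rt_ac ha _) (ort_lt ha h hj hi) (conj_J (hv.pow j) ha hx) (conj_J (hv.pow i) ha hy)

theorem neg_Ps (he : e ∈ TT D (KK p)) (ha : a ∈ Ps hp p {e}) : -a ∈ Ps hp p {e} := by
  rw [mem_Ps (Set.singleton_subset_iff.2 he)] at ha ⊢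
  refine ⟨ha.1.neg, fun t ht => ?_⟩
  rw [(isMC_cX hp (ht ▸ he)).neg, ha.2 t ht, inv_one]

/-- the cocharacter -/
theorem tor (he : e ∈ TT D (KK p)) (hv : RP hp p v f) {μ : LL l →+ ℤ} (h : ∀ x, μ (ac hp v x) = μ x) :
    ∀ t ∈ TT D (KK p), ∀ c : KK p, c ≠ 0 → (∀ x, cX hp t x = c ^ μ x) → ∀ z ∈ ({e, f} : Set (YY D p)), z * t = t * z := by
  rintro t ht c - h1 _ (rfl | rfl)
  · exact BpExc.TorChev.TT_comm hp _ he _ ht
  · exact hv.comm ht fun x => by rw [h1, h1, ← h x, repAut_apply]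

theorem nm_X (hC : BoxCur) (P : P2 p r e f) (he : e ∈ TT D (KK p)) (hv : RP hp p v f) (ha : a ∈ Ps hp p {e})
    (h : Ort hp r v a) {x : YY D p} (hx : x ∈ XX D l (KK p) a) : nm f r x ∈ Cc p {e, f} := by
  have := finW hp
  have h0 : RT hp a := ha.1
  have hr := P.prime.pos
  have h1 : v ^ r = 1 := (hv.pow r).unique (P.hf ▸ RP.of_mem (one_mem _))
  let μ : LL l →+ ℤ := ∑ i ∈ Finset.range r, ell _ _ (rt_ac h0 (v ^ i))
  have h2 : ∀ x, μ x = ∑ i ∈ Finset.range r, cp hp x (ac hp (v ^ i) a) := fun x => by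
    rw [AddMonoidHom.finsetSum_apply]
    rfl
  have h3 : ∀ x, μ (ac hp v x) = μ x := fun x => by
    have k1 := Finset.sum_range_succ (fun i => cp hp (ac hp v x) (ac hp (v ^ i) a)) r
    rw [Finset.sum_range_succ', h1, pow_zero, add_left_inj] at k1
    rw [h2, h2, ← k1]
    exact Finset.sum_congr rfl fun i _ => by rw [pow_succ', ac_mul, cp_ac _ _ (rt_ac h0 _)]
  have h4 : ∀ i : ℕ, μ (ac hp (v ^ i) a) = 2 := fun i => by
    induction i with
    | zero =>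
      rw [pow_zero, ac_one, h2, Finset.sum_eq_single 0 (fun j hj hj0 =>
        (cpr_zero_comm _ _ h0 (rt_ac h0 _)).2 (h j (by omega) (Finset.mem_range.1 hj))) (by simp only [_root_.Finset.mem_range, _root_.not_lt, _root_.nonpos_iff_eq_zero, _root_.pow_zero, _root_.Cfsg.Agent.BpExc.Fr.repAut_apply, _root_.map_one, _root_.Module.End.one_apply]; omega), pow_zero, ac_one]
      exact cpr_self _ _ h0
    | succ i ih => rw [pow_succ', ac_mul, h3, ih]
  refine hC D l M hp p P.tp μ (Set.range fun i : ℕ => ac hp (v ^ i) a) _ _ ?_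
    (nm_mem fun i _ => RGD.le_Sup (S := Set.range fun i : ℕ => ac hp (v ^ i) a) ⟨i, rfl⟩ (conj_X (hv.pow i) h0 hx)) ?_
    (tor he hv h3)
  · rintro _ ⟨i, rfl⟩
    exact ⟨rt_ac h0 _, by rw [h4]; decide⟩
  · rintro z (rfl | rfl)
    · refine (Subgroup.mem_centralizer_singleton_iff.1 (nm_mem fun i _ => ?_)).symm
      have k1 : f ∈ Subgroup.centralizer {z} := Subgroup.mem_centralizer_singleton_iff.2 P.comm
      exact mul_mem (mul_mem (pow_mem k1 i) (Subgroup.mem_centralizer_singleton_iff.2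
        (Mz_comm (Set.singleton_subset_iff.2 he) (X_le_Mz ha hx) rfl))) (inv_mem (pow_mem k1 i))
    · refine nm_comm P.hf fun i hi => ?_
      rcases Nat.eq_zero_or_pos i with rfl | k
      · simp
      · simpa only [_root_.pow_zero, _root_.one_mul, _root_.inv_one, _root_.mul_one] using (comm_cj P hv h0 h (Subgroup.mem_sup_left hx) (Subgroup.mem_sup_left hx) i hi 0 k).symm

theorem nm_rp (hv : RP hp p v f) (ha : RT hp a) (h : Ort hp r v a) {m : YY D p} (hw : RP hp p w m) (h1 : Rl hp a w) :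
    ∀ n ≤ r, ∃ u, RP hp p u (nm f n m) ∧ Ro hp n v a u := fun n hn => by
  have := finW hp
  induction n with
  | zero => exact ⟨1, RP.of_mem (one_mem _), fun x => by simp only [_root_.Cfsg.Agent.BpExc.Fr.repAut_apply, _root_.map_one, _root_.Module.End.one_apply, _root_.Finset.range_zero, _root_.map_pow, _root_.zsmul_eq_mul, _root_.Finset.sum_empty, _root_.sub_zero]⟩
  | succ n ih =>
    obtain ⟨u, h2, h3⟩ := ih (by omega)
    refine ⟨u * (v ^ n * w * (v ^ n)⁻¹), nm_succ f n m ▸ h2.mul (((hv.pow n).mul hw).mul (hv.pow n).inv), fun x => ?_⟩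
    have h4 : ac hp (v ^ n) (ac hp (v ^ n)⁻¹ x) = x := by rw [← ac_mul, mul_inv_cancel, ac_one]
    rw [ac_mul, ac_mul, ac_mul, h1, map_sub, map_zsmul, ← cp_ac (v ^ n) _ ha, h4, h3, Finset.sum_range_succ, sub_sub,
      add_comm]
    (with_reducible congr 2)
    refine Finset.sum_congr rfl fun i hi => ?_
    have h5 := ort_lt ha h (j := n) (by omega) (Finset.mem_range.1 hi)
    rw [cp, sub_eq_add_neg, ← neg_smul, cpr_add _ _ _ _ (rt_ac ha _), cpr_smul _ _ _ _ (rt_ac ha _)]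
    rw [cp] at h5
    rw [h5, mul_zero, add_zero]

theorem X_le (hC : BoxCur) (P : P2 p r e f) (he : e ∈ TT D (KK p)) (hv : RP hp p v f) (ha : a ∈ Ps hp p {e})
    (h : CX p l f a) : XX D l (KK p) a ≤ Cc p {e, f} := fun x hx => by
  have := finW hp
  have h0 : RT hp a := ha.1
  have h1 : a = ac hp v a := Al.Gp.X_inj (p := p) h0 (rt_ac h0 v) fun y hy => by
    have k := conj_X hv h0 hy
    rwa [h y hy, mul_inv_cancel_right] at k
  refine hC D l M hp p P.tp (ell _ _ h0) {a} _ _ ?_ (RGD.le_Sup (S := {a}) rfl hx) ?_ (tor he hv fun y => ?_)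
  · rintro _ rfl
    exact ⟨h0, by rw [ell_apply, cpr_self _ _ h0]; decide⟩
  · rintro z (rfl | rfl)
    · exact (Mz_comm (Set.singleton_subset_iff.2 he) (X_le_Mz ha hx) rfl).symm
    · exact h x hx
  · have k := cp_ac v y h0
    rwa [← h1] at k

end Tw

open Tw

/-- **[Tw]** -/
theorem boxTw : BoxTw := fun hC D l M hp p _ _ r e f v a P he hv ha => by
  have h0 : RT hp a := ha.1
  refine ⟨fun h => ?_, fun h1 h2 => Al.Gp.exists_refl h0 (X_le hC P he hv ha h1) (X_le hC P he hv (neg_Ps he ha) h2)⟩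
  let N : Subgroup (YY D p) :=
    { carrier := {x | x ∈ _root_.Cfsg.Agent.N2.Ex.CC.Tw.JJ D p a ∧ nm f r x ∈ Cc p {e, f}}
      one_mem' := ⟨one_mem _, (nm_one (f := f) r).symm ▸ one_mem _⟩
      mul_mem' := fun {x y} hx hy => ⟨mul_mem hx.1 hy.1, (nm_mul (comm_cj P hv h0 h hx.1 hy.1)).symm ▸ mul_mem hx.2 hy.2⟩
      inv_mem' := fun {x} hx => ⟨inv_mem hx.1, by
        have k := nm_mul (comm_cj P hv h0 h hx.1 (inv_mem hx.1))
        rw [mul_inv_cancel, nm_one] at k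
        exact (eq_inv_of_mul_eq_one_right (k.symm :)).symm ▸ inv_mem hx.2⟩ }
  obtain ⟨m, hm, w, h1, h2⟩ := Al.Gp.exists_refl (N := N) h0
    (fun x hx => ⟨Subgroup.mem_sup_left hx, nm_X hC P he hv ha h hx⟩)
    fun x hx => ⟨Subgroup.mem_sup_right hx, nm_X hC P he hv (neg_Ps he ha) (ort_neg h0 h) hx⟩
  exact ⟨_, hm.2, nm_rp hv h0 h h1 h2 r le_rfl⟩

end Cfsg.Agent.N2.Ex.CC
end

-- part: N2/Ex/CC/Lt79
section
/-!
# N2 (S3519), `E₇`: the lattice boxes for `r = 2` (helper97)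

The short reflections of the folded system are transitive on the pairs of short roots at `120°` (checked on the tables).
-/

set_option autoImplicit false
set_option linter.unusedSectionVars false
set_option maxRecDepth 100000

namespace Cfsg.Agent.N2.Ex.CC

open CoxeterSystem Cfsg Cfsg.Lie Cfsg.Lie.ChevalleyDatum
open Cfsg.Agent.ChevalleyStructure Cfsg.Agent.ChevalleyStructure.CoxeterGeom Cfsg.Agent.Tits.Roots Cfsg.Agent.Nodes
  Cfsg.Agent.Nodes.BNOf Cfsg.Agent.Nodes.RGDChev Cfsg.Agent.Nodes.Coroot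
open Cfsg.Agent.DS.Ex Cfsg.Agent.DS.Nt
open Cfsg.Agent.DS.Ex.Tor (RT)
open Cfsg.Agent.N2.Ex.Al (LL cp ac GW Ch)
open Cfsg.Agent.N2.Ex.Al.Ck
open Cfsg.Agent.H931.KC (psi)

namespace Lt79

/-- the symmetry on the indices -/
noncomputable def vi (r : ℕ) : ℕ := tbE7.aw [46, 47, 48] r

/-- the coordinate `j` is even -/
def pc (j r : ℕ) : Bool := Nat.beq (Nat.mod (tbE7.u r j) 2) 0

/-- and the orbit is orthogonal -/
noncomputable def ok (j r : ℕ) : Bool := and (pc j r) (Nat.beq (tbE7.c (vi r) r) 2)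

/-- the word in the reflections -/
noncomputable def ex (w : List ℕ) : List ℕ := List.rec (motive := fun _ => List ℕ) [] (fun s _ ih => s :: vi s :: ih) w

/-- `w` maps the orbit of `s` onto the orbit of `b` -/
noncomputable def inb (w : List ℕ) (s b : ℕ) : Bool :=
  or (and (Nat.beq (tbE7.aw w s) b) (Nat.beq (tbE7.aw w (vi s)) (vi b)))
    (and (Nat.beq (tbE7.aw w s) (vi b)) (Nat.beq (tbE7.aw w (vi s)) b))

/-- the letters are allowed -/
noncomputable def gen (j : ℕ) (L : List (List ℕ)) : Bool := lA (lA fun s => and (Nat.blt s 126) (ok j s)) L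

/-- transitivity -/
noncomputable def tr (j a b d : ℕ) (L₁ L₂ : List (List ℕ)) : Bool :=
  aL (fun s => or (not (ok j s)) (lE (fun w₁ => and (inb (ex w₁) s b) (aL (fun t => or (not (and (ok j t)
    (and (Nat.beq (tbE7.c s t) (tbE7.c a b)) (Nat.beq (tbE7.c (vi s) t) (tbE7.c (vi a) b)))))
    (lE (fun w₂ => and (inb (ex (w₂ ++ w₁)) s b) (inb (ex (w₂ ++ w₁)) t d)) L₂)) 126)) L₁)) 126

/-- the value of the functional of the orbit of `a` -/
noncomputable def val (a r : ℕ) : ℤ := (tbE7.c r a : ℤ) - 2 + ((tbE7.c r (vi a) : ℤ) - 2)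

/-- the norm -/
noncomputable def nm (a b r : ℕ) : ℤ := val a r ^ 2 + val a r * val b r + val b r ^ 2

/-- the other checks -/
noncomputable def bs (j a b d k : ℕ) : Bool :=
  decide (a < 126 ∧ b < 126 ∧ d < 126 ∧ vi (vi a) = a ∧ vi (vi b) = b) && ok j a && ok j b &&
    aL (fun i => decide (val d i = -val a i - val b i)) 7 &&
    aL (fun r => or (not (pc j r)) (decide (0 ≤ nm a b r ∧ nm a b r ≤ 4))) 126 &&
    Nat.ble (cL (fun r => and (pc j r) (decide (nm a b r = 0))) 126) k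

theorem vi_sr : ∀ i : Fin 7, lv 7 (V7.getD i []) = tbE7.vec 7 (vi i) := by decide +kernel

variable {M : CoxeterMatrix (Fin 7)} (hp : IsType chevE7 7 M)

/-- the functional of the orbit -/
noncomputable def fA (r : ℕ) (x : LL 7) : ℤ := cp hp x (tbE7.vec 7 r) + cp hp x (tbE7.vec 7 (vi r))

variable {hp} {v : M.Group} (hv : ∀ i : Fin 7, ac hp v (sr i) = lv 7 (V7.getD i []))
include hv

theorem vv {r : ℕ} (hr : r < 126) : vi r < 126 ∧ tbE7.vec 7 (vi r) = ac hp v (tbE7.vec 7 r) := by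
  have G := (gsE7 hp).toGt
  have hw : tbE7.lt [46, 47, 48] = true := by decide +kernel
  have e : v = wd hp tbE7 [46, 47, 48] := W_ext hp fun i => by
    rw [hv i, vi_sr i, ← G.sim i]
    exact (G.aw hw (G.lt_n i)).2
  rw [e]
  exact G.aw hw hr

theorem fA_add {r : ℕ} (hr : r < 126) (x y : LL 7) : fA hp r (x + y) = fA hp r x + fA hp r y := by
  have G := (gsE7 hp).toGt
  rw [fA, fA, fA, cp_add hp _ _ (G.root r hr), cp_add hp _ _ (G.root _ (vv hv hr).1)]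
  ring

theorem fA_vec {a r : ℕ} (ha : a < 126) (hr : r < 126) : fA hp a (tbE7.vec 7 r) = val a r := by
  have G := (gsE7 hp).toGt
  rw [fA, G.cpe r hr a ha, G.cpe r hr _ (vv hv ha).1, val]

theorem fA_v {a : ℕ} (ha : a < 126) (h : vi (vi a) = a) (x : LL 7) : fA hp a (ac hp v x) = fA hp a x := by
  have G := (gsE7 hp).toGt
  have h1 := vv hv ha
  have h2 := (vv hv h1.1).2
  rw [h] at h2
  rw [fA, fA, add_comm]
  refine congrArg₂ (· + ·) ?_ ?_
  · rw [h1.2, cp_ac hp v x (G.root a ha)]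
  · rw [← cp_ac hp v x (G.root _ h1.1), ← h2]

theorem fA_inb {w : List ℕ} (hw : tbE7.lt w = true) {s b : ℕ} (hs : s < 126) (h : inb w s b = true) (x : LL 7) :
    fA hp b (ac hp (wd hp tbE7 w) x) = fA hp s x := by
  have G := (gsE7 hp).toGt
  have h1 := (G.aw hw hs).2
  have h2 := (G.aw hw (vv hv hs).1).2
  simp only [inb, Bool.or_eq_true, Bool.and_eq_true, Nat.beq_eq] at h
  rcases h with ⟨e1, e2⟩ | ⟨e1, e2⟩
  · rw [e1] at h1
    rw [e2] at h2
    rw [fA, fA, h1, h2, cp_ac hp _ x (G.root s hs), cp_ac hp _ x (G.root _ (vv hv hs).1)]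
  · rw [e1] at h1
    rw [e2] at h2
    rw [fA, fA, h1, h2, cp_ac hp _ x (G.root s hs), cp_ac hp _ x (G.root _ (vv hv hs).1), add_comm]

variable {j : Fin 7} {c : List ℤ} (hc : ∀ x, psi (lv 7 c) x = x j)
include hc

omit hv in
theorem pc_iff {r : ℕ} (hr : r < 126) : tbE7.vec 7 r ∈ Pc hp 2 c ↔ pc j r = true := by
  have G := (gsE7 hp).toGt
  rw [Pc, Set.mem_ofPred_eq, hc, pc, Nat.beq_eq, and_iff_right (G.root r hr)]
  show ((2 : ℕ) : ℤ) ∣ (tbE7.u r j : ℤ) - 8 ↔ tbE7.u r j % 2 = 0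
  omega

theorem ok_iff {r : ℕ} (hr : r < 126) :
    ok j r = true ↔ tbE7.vec 7 r ∈ Pc hp 2 c ∧ cp hp (tbE7.vec 7 (vi r)) (tbE7.vec 7 r) = 0 := by
  have G := (gsE7 hp).toGt
  rw [ok, Bool.and_eq_true, pc_iff hc hr, G.cpe _ (vv hv hr).1 r hr, Nat.beq_eq]
  refine and_congr_right fun _ => ?_
  omega

theorem ex_mem {W : Subgroup M.Group} (hW : ∀ a ∈ Pc hp 2 c, Ort hp 2 v a → ∃ w ∈ W, Ro hp 2 v a w) {w : List ℕ}
    (hw : ∀ s ∈ w, s < 126 ∧ ok j s = true) : tbE7.lt (ex w) = true ∧ wd hp tbE7 (ex w) ∈ W := by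
  have G := (gsE7 hp).toGt
  induction w with
  | nil => exact ⟨rfl, one_mem _⟩
  | cons s w ih =>
    obtain ⟨h1, h2⟩ := ih fun x hx => hw x (List.mem_cons_of_mem _ hx)
    obtain ⟨h3, h4⟩ := hw s List.mem_cons_self
    obtain ⟨h5, h6⟩ := (ok_iff hv hc h3).1 h4
    have h7 := vv hv h3
    refine ⟨lt_iff.2 (List.forall_mem_cons.2 ⟨h3, List.forall_mem_cons.2 ⟨h7.1, lt_iff.1 h1⟩⟩), ?_⟩
    obtain ⟨u, hu, h8⟩ := hW _ h5 fun i i0 i2 => by
      rw [show i = 1 by omega, pow_one, ← h7.2, h6]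
    have e : u = rw' hp (tbE7.vec 7 s) * rw' hp (tbE7.vec 7 (vi s)) := W_ext hp fun i => by
      rw [h8, Finset.sum_range_succ, Finset.sum_range_one, pow_zero, pow_one, ac_one, ← h7.2, ac_mul,
        ac_rw hp (G.root _ h7.1), ac_rw hp (G.root _ h3), sub_eq_add_neg (sr i) (_ • tbE7.vec 7 (vi s)), ← neg_smul,
        cp_add hp _ _ (G.root _ h3), cp_smul hp _ _ (G.root _ h3), h6]
      module
    show wd hp tbE7 (s :: vi s :: ex w) ∈ W
    rw [wd_cons, wd_cons, ← mul_assoc, ← e]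
    exact mul_mem hu h2

theorem img {g : LL 7 ≃+ LL 7} (hg : GW hp g) (h1 : ∀ x, g (ac hp v x) = ac hp v (g x))
    (h2 : ∀ a ∈ Pc hp 2 c, g a ∈ Pc hp 2 c) {a : ℕ} (ha : a < 126) (h : ok j a = true) :
    ∃ s < 126, ok j s = true ∧ tbE7.vec 7 s = g (tbE7.vec 7 a) ∧ tbE7.vec 7 (vi s) = g (tbE7.vec 7 (vi a)) ∧
      ∀ x, fA hp s (g x) = fA hp a x := by
  have G := (gsE7 hp).toGt
  obtain ⟨s, hs, e⟩ := G.surj _ (gw_rt hg (G.root a ha))
  obtain ⟨h3, h4⟩ := (ok_iff hv hc ha).1 h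
  have e' : tbE7.vec 7 (vi s) = g (tbE7.vec 7 (vi a)) := by rw [(vv hv hs).2, (vv hv ha).2, h1, e]
  refine ⟨s, hs, (ok_iff hv hc hs).2 ⟨e ▸ h2 _ h3, ?_⟩, e, e', fun x => ?_⟩
  · rw [e, e', gw_cp hg _ (G.root a ha), h4]
  · rw [fA, fA, e, e', gw_cp hg _ (G.root a ha), gw_cp hg _ (G.root _ (vv hv ha).1)]

theorem lt_of {a b d k : ℕ} {L₁ L₂ : List (List ℕ)} (c0 : bs j a b d k = true) (c1 : gen j L₁ = true)
    (c2 : gen j L₂ = true) (c3 : tr j a b d L₁ L₂ = true) {W : Subgroup M.Group} {g : LL 7 ≃+ LL 7} {q m : ℕ}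
    (hW : ∀ a ∈ Pc hp 2 c, Ort hp 2 v a → ∃ w ∈ W, Ro hp 2 v a w) (hg : GW hp g)
    (h1 : ∀ x, g (ac hp v x) = ac hp v (g x)) (h2 : ∀ a ∈ Pc hp 2 c, g a ∈ Pc hp 2 c) (hm : 5 ≤ m)
    (hq : m ∣ q ^ 2 + q + 1) :
    ∃ w ∈ W, ∃ φ : LL 7 →+ ℤ, Ch q (g.trans (ac hp w)) m φ ∧ (∀ x, φ (ac hp v x) = φ x) ∧
      {a ∈ Pc hp 2 c | (m : ℤ) ∣ φ a}.ncard ≤ k := by
  have G := (gsE7 hp).toGt
  simp only [bs, Bool.and_eq_true, decide_eq_true_eq, aL_iff, Bool.or_eq_true, Bool.not_eq_true', Nat.ble_eq] at c0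
  obtain ⟨⟨⟨⟨⟨⟨ha, hb, hd, va, vb⟩, oa⟩, ob⟩, ed⟩, en⟩, ek⟩ := c0
  simp only [gen, lA_iff, Bool.and_eq_true, Nat.blt_eq] at c1 c2
  obtain ⟨s, hs, os, s1, s2, s3⟩ := img hv hc hg h1 h2 ha oa
  obtain ⟨t, ht, ot, t1, -, t3⟩ := img hv hc hg h1 h2 hb ob
  simp only [tr, aL_iff, Bool.or_eq_true, Bool.not_eq_true', lE_iff, Bool.and_eq_true] at c3
  obtain ⟨w₁, m1, -, k1⟩ := (c3 s hs).resolve_left (by rw [os]; exact Bool.noConfusion)
  have a1 : tbE7.c s t = tbE7.c a b := by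
    have := G.cpe s hs t ht
    rw [s1, t1, gw_cp hg _ (G.root b hb), G.cpe a ha b hb] at this
    omega
  have a2 : tbE7.c (vi s) t = tbE7.c (vi a) b := by
    have := G.cpe _ (vv hv hs).1 t ht
    rw [s2, t1, gw_cp hg _ (G.root b hb), G.cpe _ (vv hv ha).1 b hb] at this
    omega
  obtain ⟨w₂, m2, k2, k3⟩ := (k1 t ht).resolve_left (by
    rw [ot, a1, a2, Nat.beq_refl, Nat.beq_refl]; exact Bool.noConfusion)
  obtain ⟨k4, k5⟩ := ex_mem hv hc hW (w := w₂ ++ w₁) fun x hx =>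
    (List.mem_append.1 hx).elim (c2 w₂ m2 x) (c1 w₁ m1 x)
  have hq' : (m : ℤ) ∣ (q : ℤ) ^ 2 + q + 1 := by exact_mod_cast hq
  have eD : ∀ x, fA hp d x = -fA hp a x - fA hp b x := fun x => by
    have := hom_ext (f := AddMonoidHom.mk' (fA hp d) (fA_add hv hd))
      (g := -AddMonoidHom.mk' (fA hp a) (fA_add hv ha) - AddMonoidHom.mk' (fA hp b) (fA_add hv hb)) fun i => by
        show fA hp d (sr i) = -fA hp a (sr i) - fA hp b (sr i)
        rw [← G.sim i, fA_vec hv ha (G.lt_n i), fA_vec hv hb (G.lt_n i), fA_vec hv hd (G.lt_n i)]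
        exact ed i i.2
    exact DFunLike.congr_fun this x
  refine ⟨_, k5, AddMonoidHom.mk' (fun x => fA hp a x + (q + 1) * fA hp b x) fun x y => by
    rw [fA_add hv ha, fA_add hv hb]; ring, fun x => ?_, fun x => ?_, ?_⟩
  · have e1 := (fA_inb hv k4 hs k2 (g x)).trans (s3 x)
    have e2 := (fA_inb hv k4 ht k3 (g x)).trans (t3 x)
    rw [eD, e1] at e2
    show (m : ℤ) ∣ fA hp a (ac hp _ (g x)) + (q + 1) * fA hp b (ac hp _ (g x)) - q * (fA hp a x + (q + 1) * fA hp b x)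
    rw [e1, show fA hp a (ac hp (wd hp tbE7 (ex (w₂ ++ w₁))) (g x)) = -fA hp a x - fA hp b x by linarith only [hp, e2]]
    exact (hq'.mul_right (-fA hp b x)).trans (dvd_of_eq (by ring))
  · show fA hp a (ac hp v x) + (q + 1) * fA hp b (ac hp v x) = fA hp a x + (q + 1) * fA hp b x
    rw [fA_v hv ha va, fA_v hv hb vb]
  · refine le_trans ?_ ek
    rw [show (126 : ℕ) = tbE7.n from rfl, ← G.ncard_eq (P := fun x => x ∈ Pc hp 2 c ∧
      fA hp a x ^ 2 + fA hp a x * fA hp b x + fA hp b x ^ 2 = 0) fun r hr => by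
        rw [pc_iff hc hr, fA_vec hv ha hr, fA_vec hv hb hr, Bool.and_eq_true, decide_eq_true_eq, nm]]
    refine Set.ncard_le_ncard ?_ ((gsE7 hp).fin_rt.subset fun x hx => hx.1)
    rintro x ⟨x1, x2⟩
    obtain ⟨r, hr, rfl⟩ := G.surj x x1.1
    refine ⟨x1.1, x1, ?_⟩
    have x3 : (m : ℤ) ∣ val a r + (q + 1) * val b r := by
      rw [← fA_vec hv ha hr, ← fA_vec hv hb hr]
      exact x2
    have x4 := (en r hr).resolve_left (by rw [(pc_iff hc hr).1 x1]; exact Bool.noConfusion)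
    rw [fA_vec hv ha hr, fA_vec hv hb hr]
    have x5 : (m : ℤ) ∣ nm a b r := by
      have := (x3.mul_right (val a r - q * val b r)).add (hq'.mul_right (val b r ^ 2))
      exact this.trans (dvd_of_eq (by rw [nm]; ring))
    exact Int.eq_zero_of_dvd_of_nonneg_of_lt (m := nm a b r) x4.1 (by omega) x5

end Lt79

/-- **the row `E₆ T₁`** -/
theorem boxLt79 : BoxLt 79 := by
  intro D l M hp r k c V v W g q m hR hv hW _ hg h1 h2 _ hm hq
  rcases hR with ⟨-, -, -, -, h, -⟩ | ⟨rfl, rfl, rfl, rfl, -, rfl⟩ | ⟨-, -, -, -, h, -⟩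
  · omega
  · obtain rfl := (typ_l hp).2.2.1 rfl
    exact Lt79.lt_of hv (j := 6) (fun x => by simp [psi, lv, Fin.sum_univ_seven]) (a := 5) (b := 4) (d := 74)
      (L₁ := [[0, 2], [], [0], [7, 13], [2, 20], [7, 19], [2, 25], [13], [19], [2, 36], [31], [0, 31], [7], [2], [0, 7],
        [0, 20], [20], [0, 25], [25], [2, 13], [2, 19], [36], [2, 31], [7, 36]])
      (L₂ := [[], [14, 41], [9, 41], [41], [9, 14, 41], [9], [14], [9, 14]])
      (by decide +kernel) (by decide +kernel) (by decide +kernel) (by decide +kernel) hW hg h1 h2 hm hq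
  · omega

/-- **the row `A₇`** -/
theorem Lt79.boxLt63 : BoxLt 63 := by
  intro D l M hp r k c V v W g q m hR hv hW _ hg h1 h2 _ hm hq
  rcases hR with ⟨rfl, rfl, rfl, rfl, -, rfl⟩ | ⟨-, -, -, -, h, -⟩ | ⟨-, -, -, -, h, -⟩
  · obtain rfl := (typ_l hp).2.2.1 rfl
    exact Lt79.lt_of hv (j := 1) (fun x => by simp [psi, lv, Fin.sum_univ_seven]) (a := 6) (b := 5) (d := 75)
      (L₁ := [[], [0, 7], [0, 12], [2], [0, 13], [6], [9], [2, 6], [2, 9], [6, 9], [0, 33], [30], [0, 30], [33], [2, 33],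
        [7, 12], [0, 6], [12], [0], [7], [0, 2], [13], [0, 9], [6, 33]])
      (L₂ := [[18], [18, 20, 24], [24], [18, 24], [20], [], [20, 24], [18, 20]])
      (by decide +kernel) (by decide +kernel) (by decide +kernel) (by decide +kernel) hW hg h1 h2 hm hq
  · omega
  · omega

end Cfsg.Agent.N2.Ex.CC
end

-- part: N2/Ex/CC/Lt30
section
/-!
# N2 (S3519): the lattice box for the row `D₄ T₂` of `E₆` (helper15)

The fixed roots of `v` form a system `A₂` with base `x₁, x₂`; `W` induces on it the dihedral group of order `12`.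
-/

set_option autoImplicit false
set_option linter.unusedSectionVars false
set_option maxRecDepth 100000
set_option synthInstance.maxSize 2000

namespace Cfsg.Agent.N2.Ex.CC

open CoxeterSystem Cfsg Cfsg.Lie Cfsg.Lie.ChevalleyDatum
open Cfsg.Agent.ChevalleyStructure Cfsg.Agent.ChevalleyStructure.CoxeterGeom Cfsg.Agent.Tits.Roots Cfsg.Agent.Nodes
  Cfsg.Agent.Nodes.BNOf Cfsg.Agent.Nodes.RGDChev Cfsg.Agent.Nodes.Coroot
open Cfsg.Agent.DS.Ex Cfsg.Agent.DS.Nt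
open Cfsg.Agent.DS.Ex.Tor (RT FR MS)
open Cfsg.Agent.N2.Ex.Al (LL cp ac GW Ch)
open Cfsg.Agent.H931.KC (psi)
open Cfsg.Agent.N2.Ex.Al.Ck

namespace L30

/-- the root with the index `r` -/
abbrev vc (r : ℕ) : LL 6 := tbE6.vec 6 r

/-- the Cartan integer -/
abbrev ci (r s : ℕ) : ℤ := (tbE6.c r s : ℤ) - 2

/-- the linear map with the rows `V` -/
def vm (V : List (List ℤ)) (x : LL 6) : LL 6 := fun j => ∑ i : Fin 6, x i * (V.getD i []).getD j 0

/-- a combination of the two fixed roots -/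
def cb (a b : ℤ) : LL 6 := a • vc 3 + b • vc 18

/-- the dihedral group -/
def L12 : List (ℤ × ℤ × ℤ × ℤ) := [(1, 0, 0, 1), (0, 1, 1, 0), (-1, -1, 0, 1), (1, 0, -1, -1), (0, 1, -1, -1), (-1, -1, 1, 0),
  (-1, 0, 0, -1), (0, -1, -1, 0), (1, 1, 0, -1), (-1, 0, 1, 1), (0, -1, 1, 1), (1, 1, -1, 0)]

/-- the long reflections -/
def L3 : List (ℤ × ℤ × ℤ × ℤ) := [(0, -1, -1, 0), (1, 1, 0, -1), (-1, 0, 1, 1)]

/-- an orthogonal orbit in `D₄` -/
def Ob (V : List (List ℤ)) (a b c : ℕ) (f : ℤ × ℤ × ℤ × ℤ) : Prop :=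
  a < 72 ∧ b < 72 ∧ c < 72 ∧ vm V (vc a) = vc b ∧ vm V (vc b) = vc c ∧ ci b a = 0 ∧ ci c a = 0 ∧
    vc a 0 = 0 ∧ vc a 5 = 0 ∧ vc 3 - (ci 3 a • vc a + ci 3 b • vc b + ci 3 c • vc c) = cb f.1 f.2.1 ∧
    vc 18 - (ci 18 a • vc a + ci 18 b • vc b + ci 18 c • vc c) = cb f.2.2.1 f.2.2.2

instance (V : List (List ℤ)) (a b c : ℕ) (f : ℤ × ℤ × ℤ × ℤ) : Decidable (Ob V a b c f) := by
  unfold Ob; infer_instance

/-- the facts on `V` -/
structure Fc (V : List (List ℤ)) : Prop where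
  f1 : vm V (vc 3) = vc 3
  f2 : vm V (vc 18) = vc 18
  pr : ∀ r < 72, vm V (vc r) = vc r → ∀ s < 72, vm V (vc s) = vc s → ci r s = -1 →
    ∃ f ∈ L12, vc r = cb f.1 f.2.1 ∧ vc s = cb f.2.2.1 f.2.2.2
  lg : ∀ r < 72, vm V (vc r) = vc r →
    ∃ f ∈ L3, vc 3 - ci 3 r • vc r = cb f.1 f.2.1 ∧ vc 18 - ci 18 r • vc r = cb f.2.2.1 f.2.2.2
  o1 : ∃ b c, Ob V 4 b c (0, 1, 1, 0)
  o2 : ∃ b c, Ob V 9 b c (-1, -1, 0, 1)

theorem fc_V6 : Fc V6 := ⟨by decide +kernel, by decide +kernel, by decide +kernel, by decide +kernel,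
  ⟨1, 2, by decide +kernel⟩, ⟨7, 8, by decide +kernel⟩⟩

theorem fc_W6 : Fc W6 := ⟨by decide +kernel, by decide +kernel, by decide +kernel, by decide +kernel,
  ⟨2, 1, by decide +kernel⟩, ⟨8, 7, by decide +kernel⟩⟩

theorem nrm : ∀ r < 72, (3 : ℤ) ∣ vc r 0 + vc r 5 →
    ci r 3 ^ 2 + ci r 3 * ci r 18 + ci r 18 ^ 2 = 1 ∨ ci r 3 ^ 2 + ci r 3 * ci r 18 + ci r 18 ^ 2 = 3 := by decide +kernel

theorem thr : (∀ i : Fin 6, ci i 59 = -ci i 3 - ci i 18) ∧ vc 59 = cb (-1) (-1) ∧ ci 3 18 = -1 := by decide +kernel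

theorem cb_01 : cb 0 1 = vc 18 := by rw [cb, one_smul, zero_smul, zero_add]

theorem psi_eq (x : LL 6) : psi (lv 6 [1, 0, 0, 0, 0, 1]) x = x 0 + x 5 := by
  rw [H931.KC.psi_apply]
  simp [Fin.sum_univ_six, lv]

variable {M : CoxeterMatrix (Fin 6)} (hp : IsType chevE6 6 M)

theorem ac_vm {V : List (List ℤ)} {v : M.Group} (h : ∀ i : Fin 6, ac hp v (sr i) = lv 6 (V.getD i [])) (x : LL 6) :
    ac hp v x = vm V x := by
  conv_lhs => rw [← Finset.univ_sum_single x]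
  rw [map_sum]
  funext j
  rw [Finset.sum_apply]
  refine Finset.sum_congr rfl fun i _ => ?_
  have e : (Pi.single i (x i) : LL 6) = x i • sr i := by rw [sr, ← Pi.single_smul, smul_eq_mul, mul_one]
  rw [e, map_zsmul, h]
  rfl

/-- some element of `W` has the matrix `f` on the fixed roots -/
def Mx (W : Subgroup M.Group) (f : ℤ × ℤ × ℤ × ℤ) : Prop :=
  ∃ w ∈ W, ac hp w (vc 3) = cb f.1 f.2.1 ∧ ac hp w (vc 18) = cb f.2.2.1 f.2.2.2

variable {hp} {W : Subgroup M.Group}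

theorem Mx.mul {a b c d a' b' c' d' : ℤ} (h : Mx hp W (a, b, c, d)) (h' : Mx hp W (a', b', c', d')) :
    Mx hp W (a' * a + b' * c, a' * b + b' * d, c' * a + d' * c, c' * b + d' * d) := by
  obtain ⟨w, hw, h1, h2⟩ := h
  obtain ⟨w', hw', h1', h2'⟩ := h'
  refine ⟨w * w', mul_mem hw hw', ?_, ?_⟩
  · rw [ac_mul, h1', cb, map_add, map_zsmul, map_zsmul, h1, h2]
    simp only [cb]
    module
  · rw [ac_mul, h2', cb, map_add, map_zsmul, map_zsmul, h1, h2]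
    simp only [cb]
    module

theorem all12 (h1 : Mx hp W (0, 1, 1, 0)) (h2 : Mx hp W (-1, -1, 0, 1)) {f : ℤ × ℤ × ℤ × ℤ} (hf : f ∈ L3) (h3 : Mx hp W f) :
    ∀ f ∈ L12, Mx hp W f := by
  have a1 : Mx hp W (1, 0, 0, 1) := h1.mul h1
  have a2 : Mx hp W (-1, -1, 1, 0) := h1.mul h2
  have a3 : Mx hp W (0, 1, -1, -1) := a2.mul a2
  have a4 : Mx hp W (1, 0, -1, -1) := h2.mul a2
  have a5 : Mx hp W (-1, 0, 0, -1) := by
    simp only [L3, List.mem_cons, List.not_mem_nil, or_false] at hf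
    rcases hf with rfl | rfl | rfl
    · exact h3.mul h1
    · exact h3.mul h2
    · exact h3.mul a4
  simp only [L12, List.forall_mem_cons]
  exact ⟨a1, h1, h2, a4, a3, a2, a5, a5.mul h1, a5.mul h2, a5.mul a4, a5.mul a3, a5.mul a2, fun _ h => absurd h
    List.not_mem_nil⟩

theorem mx_ob {V : List (List ℤ)} {v : M.Group} (hv : ∀ x, ac hp v x = vm V x) {a b c : ℕ} {f : ℤ × ℤ × ℤ × ℤ}
    (h : Ob V a b c f) (hO : ∀ a ∈ Pc hp 3 [1, 0, 0, 0, 0, 1], Ort hp 3 v a → ∃ w ∈ W, Ro hp 3 v a w) : Mx hp W f := by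
  have G := (gsE6 hp).toGt
  obtain ⟨ha, hb, hc, e1, e2, c1, c2, z1, z2, k1, k2⟩ := h
  have p0 : ac hp (v ^ 0) (vc a) = vc a := by rw [pow_zero, ac_one]
  have p1 : ac hp (v ^ 1) (vc a) = vc b := by rw [pow_one, hv, e1]
  have p2 : ac hp (v ^ 2) (vc a) = vc c := by rw [pow_two, ac_mul, hv (vc a), e1, hv, e2]
  obtain ⟨w, hw, hR⟩ := hO (vc a) ⟨G.root a ha, by rw [psi_eq, z1, z2]; exact dvd_zero _⟩ fun i h0 h3 => by
    obtain rfl | rfl : i = 1 ∨ i = 2 := by omega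
    · rw [p1, G.cpe b hb a ha]; exact c1
    · rw [p2, G.cpe c hc a ha]; exact c2
  have k : ∀ s < 72, ac hp w (vc s) = vc s - (ci s a • vc a + ci s b • vc b + ci s c • vc c) := fun s hs => by
    rw [hR, Finset.sum_range_succ, Finset.sum_range_succ, Finset.sum_range_one, p0, p1, p2, G.cpe s hs a ha,
      G.cpe s hs b hb, G.cpe s hs c hc]
  exact ⟨w, hw, (k 3 (by decide)).trans k1, (k 18 (by decide)).trans k2⟩

/-- the pairing with a root as a homomorphism -/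
noncomputable def cpH {a : LL 6} (ha : RT hp a) : LL 6 →+ ℤ := AddMonoidHom.mk' (fun x => cp hp x a) fun x y =>
  cp_add hp x y ha

theorem main {V : List (List ℤ)} (F : Fc V) {v : M.Group} {g : LL 6 ≃+ LL 6} {q m : ℕ}
    (hv : ∀ x, ac hp v x = vm V x) (hO : ∀ a ∈ Pc hp 3 [1, 0, 0, 0, 0, 1], Ort hp 3 v a → ∃ w ∈ W, Ro hp 3 v a w)
    (hb : ∃ b ∈ Pc hp 3 [1, 0, 0, 0, 0, 1], ac hp v b = b ∧ ∃ w ∈ W, Rl hp b w) (hg : GW hp g)
    (hc : ∀ x, g (ac hp v x) = ac hp v (g x)) (h5 : 5 ≤ m) (hd : m ∣ q ^ 2 + q + 1) :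
    ∃ w ∈ W, ∃ φ : LL 6 →+ ℤ, Ch q (g.trans (ac hp w)) m φ ∧ (∀ x, φ (ac hp v x) = φ x) ∧
      {a ∈ Pc hp 3 [1, 0, 0, 0, 0, 1] | (m : ℤ) ∣ φ a}.ncard ≤ 0 := by
  have G := (gsE6 hp).toGt
  have r1 : RT hp (vc 3) := G.root 3 (by decide)
  have r2 : RT hp (vc 18) := G.root 18 (by decide)
  have r3 : RT hp (vc 59) := G.root 59 (by decide)
  have v1 : ac hp v (vc 3) = vc 3 := (hv _).trans F.f1
  have v2 : ac hp v (vc 18) = vc 18 := (hv _).trans F.f2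
  have hd' : (m : ℤ) ∣ (q : ℤ) ^ 2 + q + 1 := by exact_mod_cast hd
  have hA : ∀ f ∈ L12, Mx hp W f := by
    obtain ⟨b1, c1, o1⟩ := F.o1
    obtain ⟨b2, c2, o2⟩ := F.o2
    obtain ⟨b, ⟨hb, -⟩, e, w, hw, hR⟩ := hb
    obtain ⟨r, hr, rfl⟩ := G.surj b hb
    obtain ⟨f, hf, k1, k2⟩ := F.lg r hr ((hv _).symm.trans e)
    exact all12 (mx_ob hv o1 hO) (mx_ob hv o2 hO) hf ⟨w, hw, by rw [hR, G.cpe 3 (by decide) r hr]; exact k1,
      by rw [hR, G.cpe 18 (by decide) r hr]; exact k2⟩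
  obtain ⟨r, hr, er⟩ := G.surj _ (gw_rt hg r1)
  obtain ⟨s, hs, es⟩ := G.surj _ (gw_rt hg r2)
  obtain ⟨f, hf, k1, k2⟩ := F.pr r hr (by rw [← hv]; show ac hp v (tbE6.vec 6 r) = tbE6.vec 6 r; rw [er, ← hc, v1]) s hs
    (by rw [← hv]; show ac hp v (tbE6.vec 6 s) = tbE6.vec 6 s; rw [es, ← hc, v2])
    (by
      have := G.cpe r hr s hs
      rw [er, es, gw_cp hg _ r2, G.cpe 3 (by decide) 18 (by decide)] at this
      exact this.symm.trans thr.2.2)
  obtain ⟨w0, hw0, a1, a2⟩ := hA f hf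
  obtain ⟨w1, hw1, b1, b2⟩ := hA (0, 1, -1, -1) (by decide)
  have g1 : ac hp (w1 * w0⁻¹) (g (vc 3)) = vc 18 := by rw [ac_mul, ← er, show tbE6.vec 6 r = _ from k1, ← a1, ac_inv, b1, cb_01]
  have g2 : ac hp (w1 * w0⁻¹) (g (vc 18)) = cb (-1) (-1) := by
    rw [ac_mul, ← es, show tbE6.vec 6 s = _ from k2, ← a2, ac_inv, b2]
  have g3 : ac hp (w1 * w0⁻¹) (g (vc 59)) = vc 3 := by
    rw [thr.2.1, cb, map_add, map_add, map_zsmul, map_zsmul, map_zsmul, map_zsmul, g1, g2, cb]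
    module
  have c3 : ∀ x, cp hp x (vc 59) = -cp hp x (vc 3) - cp hp x (vc 18) := fun x =>
    DFunLike.congr_fun (hom_ext (f := cpH r3) (g := -cpH r1 - cpH r2) fun i => by
      show cp hp (sr i) (vc 59) = -cp hp (sr i) (vc 3) - cp hp (sr i) (vc 18)
      rw [← G.sim i, G.cpe i (G.lt_n i) 59 (by decide), G.cpe i (G.lt_n i) 3 (by decide),
        G.cpe i (G.lt_n i) 18 (by decide)]
      exact thr.1 i) x
  refine ⟨w1 * w0⁻¹, mul_mem hw1 (inv_mem hw0), cpH r1 + ((q : ℤ) + 1) • cpH r2, fun x => ?_, fun x => ?_, ?_⟩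
  · show (m : ℤ) ∣ cp hp (ac hp (w1 * w0⁻¹) (g x)) (vc 3) + ((q : ℤ) + 1) * cp hp (ac hp (w1 * w0⁻¹) (g x)) (vc 18) -
      q * (cp hp x (vc 3) + ((q : ℤ) + 1) * cp hp x (vc 18))
    have e1 := cp_ac hp (w1 * w0⁻¹) (g x) (gw_rt hg r1)
    have e3 := cp_ac hp (w1 * w0⁻¹) (g x) (gw_rt hg r3)
    rw [g1, gw_cp hg _ r1] at e1
    rw [g3, gw_cp hg _ r3, c3] at e3
    rw [e1, e3]
    exact (hd'.mul_right (-cp hp x (vc 18))).trans (dvd_of_eq (by ring))
  · show cp hp (ac hp v x) (vc 3) + ((q : ℤ) + 1) * cp hp (ac hp v x) (vc 18) =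
      cp hp x (vc 3) + ((q : ℤ) + 1) * cp hp x (vc 18)
    rw [← cp_ac hp v x r1, ← cp_ac hp v x r2, v1, v2]
  · rw [Nat.le_zero, Set.eq_empty_of_forall_notMem (s := {a ∈ Pc hp 3 [1, 0, 0, 0, 0, 1] | _}), Set.ncard_empty]
    rintro a ⟨⟨ha, h3⟩, h⟩
    obtain ⟨t, ht, rfl⟩ := G.surj a ha
    have h' : (m : ℤ) ∣ ci t 3 + ((q : ℤ) + 1) * ci t 18 := by
      rw [ci, ci, ← G.cpe t ht 3 (by decide), ← G.cpe t ht 18 (by decide)]
      exact h
    have k : (m : ℤ) ∣ ci t 3 ^ 2 + ci t 3 * ci t 18 + ci t 18 ^ 2 :=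
      (dvd_add (h'.mul_right (ci t 3 - q * ci t 18)) (hd'.mul_right (ci t 18 ^ 2))).trans (dvd_of_eq (by ring))
    rw [psi_eq] at h3
    rcases nrm t ht h3 with e | e <;> rw [e] at k <;> have := Int.le_of_dvd (by decide) k <;> omega

end L30

/-- **the lattice, row `D₄ T₂`** -/
theorem boxLt30 : BoxLt 30 := by
  intro D l M hp r k c V v W g q m hR hv hO hb hg hc _ _ h5 hd
  rcases hR with ⟨-, -, -, -, h, -⟩ | ⟨-, -, -, -, h, -⟩ | ⟨rfl, rfl, hV, rfl, -, rfl⟩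
  · omega
  · omega
  · obtain rfl := (typ_l hp).2.1 rfl
    exact L30.main (hV.elim (fun h => h ▸ L30.fc_V6) fun h => h ▸ L30.fc_W6) (L30.ac_vm hp hv) hO (hb rfl) hg hc h5 hd

end Cfsg.Agent.N2.Ex.CC
end

-- part: N2/Ex/CC/Fin
section
/-!
# N2 (S3519), `E₆`, `E₇`, the groups that are not toral: the finite group, `boxFin : BoxFin` (helper12)
-/

set_option autoImplicit false
set_option linter.unusedSectionVars false
set_option maxHeartbeats 400000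

namespace Cfsg.Agent.N2.Ex.CC

open CoxeterSystem Cfsg Cfsg.Lie Cfsg.Lie.ChevalleyDatum
open Cfsg.Agent.ChevalleyStructure Cfsg.Agent.ChevalleyStructure.CoxeterGeom Cfsg.Agent.Tits.Roots Cfsg.Agent.Nodes
  Cfsg.Agent.Nodes.BNOf Cfsg.Agent.Nodes.RGDChev
open Cfsg.Agent.KFacts.RgdChevCoord Cfsg.Agent.BpExc.Fr Cfsg.Agent.BpExc.LangFr
open Cfsg.Agent.H469.Exc Cfsg.Agent.H316.U6 Cfsg.Agent.H129.TorusChar Cfsg.Agent.DS.Ex Cfsg.Agent.DS.Nt
open Cfsg.Agent.H931.KC (nmk nmk_E6 nmk_E7)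
open Cfsg.Agent.SB.Exc (XF nP dM ordU degs)

namespace Fi

section Grp

variable {X : Type*} [Group X]

theorem card_le_orb [Finite X] (A : Subgroup X) (x : X) (S : Set X) (h : ∀ a ∈ A, a * x * a⁻¹ ∈ S) :
    Nat.card A ≤ S.ncard * Nat.card (Subgroup.centralizer ({x} : Set X)) := by
  classical
  let φ : A → S := fun a => ⟨a * x * a⁻¹, h a a.2⟩
  have h1 : ∀ a : A, ((Function.invFun φ (φ a) : A) : X)⁻¹ * a ∈ Subgroup.centralizer ({x} : Set X) := fun a => by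
    have e : ((Function.invFun φ (φ a) : A) : X) * x * ((Function.invFun φ (φ a) : A) : X)⁻¹ = a * x * (a : X)⁻¹ :=
      congrArg Subtype.val (Function.invFun_eq (f := φ) ⟨a, rfl⟩)
    generalize ((Function.invFun φ (φ a) : A) : X) = g at e
    rw [Subgroup.mem_centralizer_singleton_iff]
    calc g⁻¹ * a * x = g⁻¹ * (a * x * (a : X)⁻¹) * a := by group
      _ = _ := by rw [← e]; group
  rw [← Nat.card_coe_set_eq, ← Nat.card_prod]
  refine Nat.card_le_card_of_injective (fun a => (φ a, ⟨_, h1 a⟩)) fun a b e => ?_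
  obtain ⟨e1, e2⟩ := Prod.mk.inj e
  have e3 := Subtype.mk.inj e2
  rw [e1] at e3
  exact Subtype.ext (mul_left_cancel e3)

variable {E : Subgroup X} [Finite E] {r : ℕ} (hr : r.Prime) (hc : Nat.card E = r ^ 2) {e f : X}
include hr hc

theorem exists_out (h1 : e ≠ 1) (h2 : e ^ r = 1) : ∃ f ∈ E, f ∉ Subgroup.zpowers e := by
  have := Fact.mk hr
  by_contra h3
  have h4 := Subgroup.card_dvd_of_le (show E ≤ Subgroup.zpowers e from fun f hf => not_not.1 fun k => h3 ⟨f, hf, k⟩)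
  rw [hc, Nat.card_zpowers, orderOf_eq_prime h2 h1] at h4
  have h5 := Nat.le_of_dvd hr.pos h4
  have h6 := hr.one_lt
  nlinarith only [h5, h6]

theorem exists_ne : ∃ e ∈ E, e ≠ 1 := by
  by_contra h
  have h1 : E = ⊥ := eq_bot_iff.2 fun e he => not_not.1 fun k => h ⟨e, he, k⟩
  rw [h1, Subgroup.card_bot] at hc
  have h6 := hr.one_lt
  nlinarith

theorem le_of_two (he : e ∈ E) (h1 : e ≠ 1) (h2 : e ^ r = 1) (hf : f ∈ E) (h3 : f ∉ Subgroup.zpowers e) {K : Subgroup X}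
    (k1 : e ∈ K) (k2 : f ∈ K) : E ≤ K := by
  have := Fact.mk hr
  have : Finite ↥(E ⊓ K) := Finite.of_injective _ (Subgroup.inclusion_injective inf_le_left)
  obtain ⟨j, h4, h5⟩ := (Nat.dvd_prime_pow hr).1 (hc ▸ Subgroup.card_dvd_of_le (inf_le_left : E ⊓ K ≤ E))
  have h6 : Subgroup.zpowers e ≤ E ⊓ K := Subgroup.zpowers_le.2 ⟨he, k1⟩
  have h7 : ¬ j ≤ 1 := fun k => h3 ((Subgroup.eq_of_le_of_card_ge h6 (by
    rw [h5, Nat.card_zpowers, orderOf_eq_prime h2 h1]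
    exact (Nat.pow_le_pow_right hr.pos k).trans (pow_one r).le)).ge ⟨hf, k2⟩)
  exact (Subgroup.eq_of_le_of_card_ge (inf_le_left : E ⊓ K ≤ E) (by rw [h5, hc, show j = 2 by omega])).ge.trans inf_le_right

end Grp

theorem num {l K a c q₀ q n k d : ℕ} (N : ℕ) (h0 : 0 < q₀) (h : q₀ ≤ q) (ha : a = 3 * k + d) (hc : c = 4 * l)
    (hK : K = dM l * N ^ 4 * n) (hd : a + c ≤ nP l + (degs l).sum) (h1 : K * (q₀ ^ a * (q₀ + 1) ^ c) ≤ ordU l q₀) :
    dM l * ((N * (q ^ k * (q + 1) ^ l)) ^ 3 * (n * (N * (q ^ d * (q + 1) ^ l)))) ≤ ordU l q := by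
  refine le_of_eq_of_le ?_ (SB.Exc.NT.scale h0 h hd h1)
  rw [ha, hc, hK]
  ring

variable {D : ChevalleyDatum} {l : ℕ} {M : CoxeterMatrix (Fin l)} {hp : IsType D l M} {p : ℕ} [Fact p.Prime] {r : ℕ}

theorem not_tp {E : Subgroup (YY D p)} (h : EL p r E) (hc : Nat.card E = r ^ 2) (hT : ¬ _root_.Cfsg.Agent.DS.Ex.Toral p E) {e f : YY D p}
    (he : e ∈ E) (h1 : e ≠ 1) (hf : f ∈ E) (h3 : f ∉ Subgroup.zpowers e) : ¬ Tp p e f := fun ⟨g, k1, k2⟩ =>
  have := h.fin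
  hT ⟨g, le_of_two h.prime hc he h1 (h.pow e he) hf h3 (K := (TT D (KK p)).comap (MulAut.conj g).toMonoidHom) k1 k2⟩

/-- the stabiliser of a vector -/
def Sv (v : D.Idx → KK p) : Subgroup (YY D p) where
  carrier := {y | ad D p y v = v}
  one_mem' := ad_one v
  mul_mem' := fun {a b} ha hb => by
    show ad D p (a * b) v = v
    rw [ad_mul, hb, ha]
  inv_mem' := fun {a} ha => by
    show ad D p a⁻¹ v = v
    have h1 := ad_mul a⁻¹ a v
    rw [inv_mul_cancel, ad_one, ha] at h1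
    exact h1.symm

variable {q : ℕ} {G : Type} [Group G] [Finite G] {T H R : Subgroup G}

/-- the criterion -/
theorem gd_tg (F : XF hp p q T) (S : DS.Setup T H) (hRT : R ≤ T) (hH : H ≤ Subgroup.normalizer (R : Set G))
    (hE : EL p r (im F.L R)) (hc : Nat.card R = r ^ 2) {e f : YY D p} (he : e ∈ im F.L R) (h1 : e ≠ 1) (hf : f ∈ im F.L R)
    (h3 : f ∉ Subgroup.zpowers e) {k d : ℕ} (hT : Tg p l F.L.σ e f k) (hd : dd p e ≤ l + d)
    (h : dM l * ((nmk D l * (q ^ k * (q + 1) ^ l)) ^ 3 * ((r ^ 2 - 1) * (nmk D l * (q ^ d * (q + 1) ^ l)))) ≤ ordU l q) :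
    Gd T H := by
  obtain ⟨s, m, a1, a2, a3, h88⟩ := hT
  revert h88; rintro ⟨a4, a5, a6, a7, a8⟩
  have := hE.fin
  have := S.normal
  obtain ⟨x, hx, rfl⟩ := he
  obtain ⟨t, rfl⟩ : s ∈ F.L.ι.range := mem_of_pow_coprime (a7 ▸ one_mem _) (F.L.pow_dd s a1) (by
    refine a4.coprime_iff_not_dvd.2 fun k => ?_
    rcases F.L.hdd with e | ⟨-, e⟩ | ⟨-, e⟩ <;>
    · have := Nat.le_of_dvd (by omega) k
      omega)
  have b1 : T ⊓ Subgroup.centralizer (R : Set G) ≤ H := le_of_inv S inf_le_left (fun e => h1 (F.L.cent _ fun y => by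
      rw [← map_mul, ← map_mul]
      exact congrArg _ (Subtype.ext (Subgroup.mem_centralizer_iff.1 (e.ge y.2).2 x hx))))
    fun a ha y hy => ⟨S.normal.conj_mem y hy.1 a, Subgroup.mem_centralizer_iff.2 fun z hz => by
      have h4 := Subgroup.mem_centralizer_iff.1 hy.2 _ ((Subgroup.mem_normalizer_iff.1 (hH (inv_mem ha)) z).1 hz)
      calc z * (a * y * a⁻¹) = a * (a⁻¹ * z * a⁻¹⁻¹ * y) * a⁻¹ := by group
        _ = _ := by rw [h4]; group⟩
  have b2 : ∀ y : T, (∀ z ∈ im F.L R, z * F.L.ι y = F.L.ι y * z) → (y : G) ∈ H := fun y hy =>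
    b1 ⟨y.2, Subgroup.mem_centralizer_iff.2 fun z hz => by
      have h4 := hy (F.L.ι ⟨z, hRT hz⟩) (ι_mem_im.2 hz)
      rw [← map_mul, ← map_mul] at h4
      exact congrArg Subtype.val (F.L.inj h4)⟩
  have b3 : (t : G) ∈ H := b2 t fun z hz => Subgroup.mem_centralizer_singleton_iff.1
    (le_of_two hE.prime ((card_im hRT).trans hc) ⟨x, hx, rfl⟩ h1 (hE.pow _ ⟨x, hx, rfl⟩) hf h3
      (K := Subgroup.centralizer {F.L.ι t}) (Subgroup.mem_centralizer_singleton_iff.2 a2.symm)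
      (Subgroup.mem_centralizer_singleton_iff.2 a3.symm) hz)
  have b4 : (x : G) ∈ H := b2 x fun z hz => hE.comm z hz _ ⟨x, hx, rfl⟩
  have b5 : x ^ r = 1 := F.L.inj (by rw [map_pow, map_one, hE.pow _ ⟨x, hx, rfl⟩])
  have b6 : t ^ m = 1 := F.L.inj (by rw [map_pow, map_one, a7])
  have b7 : Commute x t := F.L.inj (by rw [map_mul, map_mul, a2])
  have b8 : r.Coprime p := (Nat.coprime_primes hE.prime Fact.out).2 hE.ne
  have b9 : Nat.card ↥(H ⊓ T) ≤ (r ^ 2 - 1) * cn x := by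
    have h4 := card_le_orb (H.subgroupOf T) x ((R.subgroupOf T : Set T) \ {1}) fun a ha =>
      ⟨(Subgroup.mem_normalizer_iff.1 (hH ha) x).1 hx, fun e => h1 (by rw [conj_eq_one_iff.1 e, map_one])⟩
    rwa [card_A, Set.ncard_sdiff_singleton_of_mem (one_mem _), ← Nat.card_coe_set_eq,
      show Nat.card ↥(R.subgroupOf T : Set T) = r ^ 2 from
        (Nat.card_congr (Subgroup.subgroupOfEquivOfLe hRT).toEquiv).trans hc] at h4
  refine gd_of_dd F (a := x * t) (mul_mem b4 b3) ?_ (by rwa [map_mul]) (b9.trans (Nat.mul_le_mul_left _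
    (Cb.cn_le' F.m (b8.coprime_dvd_left (orderOf_dvd_of_pow_eq_one b5)) (F.hι ▸ hd)))) h
  refine (Nat.Coprime.mul_left b8 ((Nat.coprime_primes a4 Fact.out).2 a6)).coprime_dvd_left (orderOf_dvd_of_pow_eq_one ?_)
  rw [b7.mul_pow, pow_mul, b5, one_pow, one_mul, mul_comm, pow_mul, b6, one_pow]

theorem fb (F : XF hp p q T) : Fb hp p F.L.e F.L.σ :=
  ⟨F.L.he, F.L.frob, 1, F.m.g, by
    rw [map_one, one_mul, F.hσ]
    exact F.m.fr, F.gW⟩

theorem le_q (F : XF hp p q T) : p ≤ q := F.m.hq ▸ Nat.le_self_pow F.m.he.ne' p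

end Fi

open Fi in
/-- **the finite group** -/
theorem boxFin : BoxFin := by
  intro hY _ _ D l M hp p _ tw f G _ _ T H F C R r hRT hH c
  have hr : r.Prime := c.typ.elim (fun h => h.2 ▸ Nat.prime_three) fun h => h.2 ▸ Nat.prime_two
  have hrp : r ≠ p := by
    rintro rfl
    have h1 := c.card
    rw [C.nt.noP R hRT (fun x => ⟨1, Subtype.ext (by rw [pow_one]; exact c.pow x x.2)⟩) hH, Subgroup.card_bot] at h1
    have h2 := hr.one_lt
    nlinarith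
  have hE : EL p r (im F.L R) := ⟨hr, hrp, finite_im _ _, by
    rintro _ ⟨x, hx, rfl⟩ _ ⟨y, hy, rfl⟩
    rw [← map_mul, ← map_mul, show x * y = y * x from Subtype.ext (c.comm x hx y hy)], by
    rintro _ ⟨x, hx, rfl⟩
    rw [← map_pow, show x ^ r = 1 from Subtype.ext (c.pow x hx), map_one]⟩
  have hc := (card_im (L := F.L) hRT).trans c.card
  have := hE.fin
  have hP : ∀ e ∈ im F.L R, ∀ f ∈ im F.L R, P2 p r e f := fun e he f hf =>
    ⟨c.typ, hrp, hE.pow e he, hE.pow f hf, hE.comm f hf e he⟩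
  have hσ : ∀ e ∈ im F.L R, F.L.σ e = e := by
    rintro _ ⟨x, -, rfl⟩
    exact F.L.fix x
  have hq := le_q F
  have hp2 := (Fact.out : p.Prime).two_le
  have n67 : chevE6 ≠ chevE7 := fun e => absurd (congrArg ChevalleyDatum.rank e) (by decide)
  rcases c.typ with ⟨rfl, rfl⟩ | ⟨rfl, rfl⟩
  · obtain rfl := (typ_l hp).2.1 rfl
    have hdd : ∀ e ∈ im F.L R, e ≠ 1 → dd p e = 24 ∨ dd p e = 30 := fun e he h1 => by
      obtain ⟨g, hg, h2⟩ := exists_out hr hc h1 (hE.pow e he)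
      obtain ⟨K, k1, -, k2 | k2 | k2⟩ := exists_DD hp C.typ hr hrp (hE.pow e he)
      · exact absurd ((k1 g (hE.comm g hg e he) ⟨1, by rw [pow_one, hE.pow g hg]⟩).2 (k2 g (hE.comm g hg e he)))
          (not_tp hE hc c.ntor he h1 hg h2)
      · exact k2.2.2
      · exact absurd k2.1 n67
    by_cases h30 : ∃ e ∈ im F.L R, e ≠ 1 ∧ dd p e = 30
    · obtain ⟨e, he, h1, h2⟩ := h30
      obtain ⟨g, hg, h3, h4⟩ : ∃ g ∈ im F.L R, g ∉ Subgroup.zpowers e ∧ dd p g = 30 := by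
        by_contra h3
        obtain ⟨z, hz⟩ := exists_conj_T hp hr hrp (n := 1) (by rw [pow_one, hE.pow e he])
        refine h1 (Subgroup.zpowers_eq_bot.1 (C.nt.noT _ ⟨z, Subgroup.zpowers_le
          (H := (TT chevE6 (KK p)).comap (MulAut.conj z).toMonoidHom).2 hz⟩ fun φ hφ => Subgroup.zpowers_le
            (H := (Subgroup.zpowers e).comap (φ : MulAut (YY chevE6 p)).toMonoidHom).2 ?_))
        by_contra h4
        exact h3 ⟨_, inv_im C.cx.setup.normal hH φ hφ e he, h4, (dd_sfr (F.L.sfr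
          (fun k => absurd (congrArg ChevalleyDatum.rank k) (by decide)) φ φ.2) hz).trans h2⟩
      obtain ⟨k, h5, h6 | h6 | ⟨-, rfl⟩⟩ := (hY _ _ _ hp p C.typ _ e g (hP e he g hg) (not_tp hE hc c.ntor he h1 hg h3)).2 _ _
        (fb F) (hσ e he) (hσ g hg) fun _ => ⟨h2, h4⟩
      · exact absurd h6.1 n67
      · exact absurd h6.1 n67
      refine gd_tg F C.cx.setup hRT hH hE c.card he h1 hg h3 h5 (d := 24) h2.le ?_
      rw [nmk_E6]
      exact num 3 two_pos (hp2.trans hq) rfl rfl rfl (by decide) (by decide +kernel)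
    · have h24 : ∀ e ∈ im F.L R, e ≠ 1 → dd p e = 24 := fun e he h1 => (hdd e he h1).resolve_right fun k => h30 ⟨e, he, h1, k⟩
      obtain ⟨e, he, h1⟩ := exists_ne hr hc
      obtain ⟨g, hg, h2⟩ := exists_out hr hc h1 (hE.pow e he)
      have h3 := (hY _ _ _ hp p C.typ _ e g (hP e he g hg) (not_tp hE hc c.ntor he h1 hg h2)).1 rfl (h24 e he h1)
      have h4 := pure_eq hp hE h24
      have h5 : Fx p ({e, g} : Set (YY chevE6 p)) ≤ Fx p (im F.L R : Set (YY chevE6 p)) := fun v hv y hy =>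
        le_of_two hr hc he h1 (hE.pow e he) hg h2 (K := Sv v) (hv e (.inl rfl)) (hv g (.inr rfl)) hy
      have h6 := Submodule.finrank_mono h5
      rw [hc, show 6 + chevE6.nroots = 78 by rw [nrE6]] at h4
      push_cast at h4
      omega
  · obtain rfl := (typ_l hp).2.2.1 rfl
    obtain ⟨e, he, h1⟩ := exists_ne hr hc
    obtain ⟨g, hg, h2⟩ := exists_out hr hc h1 (hE.pow e he)
    have h3 : 3 ≤ p ^ f := le_trans (by omega) hq
    obtain ⟨k, h5, ⟨-, h6, rfl⟩ | ⟨-, h6, rfl⟩ | h6⟩ := (hY _ _ _ hp p C.typ _ e g (hP e he g hg)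
      (not_tp hE hc c.ntor he h1 hg h2)).2 _ _ (fb F) (hσ e he) (hσ g hg) fun k => absurd k.symm n67
    · refine gd_tg F C.cx.setup hRT hH hE c.card he h1 hg h2 h5 (d := 56) h6.le ?_
      rw [nmk_E7]
      exact num 2 three_pos h3 rfl rfl rfl (by decide) (by decide +kernel)
    · refine gd_tg F C.cx.setup hRT hH hE c.card he h1 hg h2 h5 (d := 72) h6.le ?_
      rw [nmk_E7]
      exact num 2 three_pos h3 rfl rfl rfl (by decide) (by decide +kernel)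
    · exact absurd h6.1.symm n67

end Cfsg.Agent.N2.Ex.CC
end

private theorem dce_cccda348fd4e : _root_.True := by
  try have : _root_.True := by simp only [_root_.Cfsg.Agent.N2.Ex.CC.Lt79.tr.eq_1]
  try have : _root_.True := by simp only [_root_.Cfsg.Agent.N2.Ex.CC.lv.eq_1]
  try have : _root_.True := by simp only [_root_.Cfsg.Agent.N2.Ex.CC.Lt79.fA.eq_1]
  try have : _root_.True := by simp only [_root_.Cfsg.Agent.N2.Ex.CC.L30.L3.eq_1]
  try have : _root_.True := by simp only [_root_.Cfsg.Agent.N2.Ex.CC.Lt79.bs.eq_1]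
  try have : _root_.True := by simp only [_root_.Cfsg.Agent.N2.Ex.CC.Lt79.val.eq_1]
  try have : _root_.True := by simp only [_root_.Cfsg.Agent.N2.Ex.CC.Asm.cs.eq_1]
  try have : _root_.True := by simp only [_root_.Cfsg.Agent.N2.Ex.CC.L30.L12.eq_1]
  try have : _root_.True := by simp only [_root_.Cfsg.Agent.N2.Ex.CC.Nw.eq_1]
  try have : _root_.True := by simp only [_root_.Cfsg.Agent.N2.Ex.CC.Lt79.ok.eq_1]
  try have : _root_.True := by simp only [_root_.Cfsg.Agent.N2.Ex.CC.L30.cb.eq_1]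
  try have : _root_.True := by simp only [_root_.Cfsg.Agent.N2.Ex.CC.L30.ci.eq_1]
  try have : _root_.True := by simp only [_root_.Cfsg.Agent.N2.Ex.CC.Lt79.inb.eq_1]
  try have : _root_.True := by simp only [_root_.Cfsg.Agent.BpExc.TowChev.Xj.congr_simp]
  try have : _root_.True := by simp only [_root_.Cfsg.Agent.N2.Ex.CC.Tw.nm.eq_1]
  try have : _root_.True := by simp only [_root_.Cfsg.Agent.N2.Ex.CC.Pc.eq_1]
  try have : _root_.True := by simp only [_root_.Cfsg.Agent.N2.Ex.CC.Lt79.nm.eq_1]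
  try have : _root_.True := by simp only [_root_.Cfsg.Agent.Nodes.NormalForm.NW.congr_simp]
  try have : _root_.True := by simp only [_root_.Cfsg.Agent.N2.Ex.CC.L30.Mx.congr_simp]
  try have : _root_.True := by simp only [_root_.Cfsg.Agent.H931.KC.psi.eq_1]
  try have : _root_.True := by simp only [_root_.Cfsg.Agent.N2.Ex.CC.Lt79.gen.eq_1]
  try have : _root_.True := by simp only [_root_.Cfsg.Agent.N2.Ex.CC.Lt79.pc.eq_1]
  try have : _root_.True := by simp only [_root_.Cfsg.Agent.N2.Ex.CC.Nw.congr_simp]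
  exact _root_.True.intro
end

-- part: N2/Ex/Al/RwF4_mg
section
prune_inst 0x10105540148002000018001070001c2232000490000b8000b180074607861e00a0400e2144000d001038804c0830000000440010400000000a000400411c00a0808046047281a10ce6000f001003580c00000000000000000000000000041000000000000
set_option linter.all false
open scoped Cfsg.Agent.FastGrp

/-- decoders of the packed data (elaboration time only) -/
private noncomputable def pk61d (b S i : Nat) : Nat := Nat.mod (Nat.shiftRight S (Nat.mul b i)) (Nat.shiftLeft (nat_lit 1) b)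
private noncomputable def pk61f {α : Type} (t : Nat) (f : Nat → α) : α := Nat.rec (f Nat.zero) (fun k _ => f (Nat.succ k)) t
private noncomputable def pk61l {α : Type} (f : Nat → α) (s e : Nat) (tl : List α) : List α :=
  pk61f e fun e => Nat.rec tl (fun k ih => List.cons (pk61f (Nat.sub e (Nat.succ k)) f) ih) (Nat.sub e s)

-- part: N2/Ex/Al/Crt
section
/-!
# N2, subgroups of maximal rank: checkers for the certificates (helper40)

`Tb.chkT`, `Tb.chkA`, `Tb.chkU` give `ElT`, `ElA`, `ElU` for `g = gE T G`; `Tb.tk` bounds `tord`; `Tb.chk` gives `Fin'`.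
-/

set_option autoImplicit false
set_option linter.unusedSectionVars false

namespace Cfsg.Agent.N2.Ex.Al.Ck

open CoxeterSystem Cfsg Cfsg.Lie Cfsg.Lie.ChevalleyDatum
open Cfsg.Agent.ChevalleyStructure Cfsg.Agent.ChevalleyStructure.CoxeterGeom Cfsg.Agent.ChevalleyStructure.CoxeterGeomTypes
  Cfsg.Agent.Tits.Roots Cfsg.Agent.Nodes Cfsg.Agent.Nodes.BNOf Cfsg.Agent.Nodes.RGDChev Cfsg.Agent.Nodes.Coroot
  Cfsg.Agent.Nodes.SubComb
open Cfsg.Agent.BpExc.Fr Cfsg.Agent.DS.Ex Cfsg.Agent.DS.Nt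
open Cfsg.Agent.DS.Ex.Tor (RT)
open Cfsg.Agent.H931.KC (nmk)
open Cfsg.Agent.SB.Exc (nP dM ordU degs)
open Cfsg.Agent.N2.Ex.Cb (tord mat)

/-- bounded sum -/
noncomputable def sL (f : ℕ → ℕ) (n : ℕ) : ℕ := Nat.rec (motive := fun _ => ℕ) 0 (fun k ih => Nat.add (f k) ih) n

theorem sL_eq (f : ℕ → ℕ) (n : ℕ) : sL f n = ∑ i ∈ Finset.range n, f i := by
  induction n with
  | zero => rfl
  | succ n ih =>
    show f n + sL f n = _
    rw [Finset.sum_range_succ, ih, add_comm]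

/-- bounded existential quantifier -/
noncomputable def eL (f : ℕ → Bool) (n : ℕ) : Bool :=
  Nat.rec (motive := fun _ => Bool) false (fun k ih => or (f k) ih) n

theorem eL_iff {f : ℕ → Bool} {n : ℕ} : eL f n = true ↔ ∃ i < n, f i = true := by
  induction n with
  | zero => exact ⟨fun h => absurd h Bool.false_ne_true, fun ⟨_, h, _⟩ => absurd h (Nat.not_lt_zero _)⟩
  | succ n ih =>
    show or (f n) (eL f n) = true ↔ _
    rw [Bool.or_eq_true, ih, Nat.exists_lt_succ_right, or_comm]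

/-- an element of the torus -/
structure CT where
  N : ℕ
  f : List ℕ
  f₀ : List ℕ
  f₁ : List ℕ
  u : List ℕ
  md : ℕ
  B : ℕ
  L : List (List ℕ × List (List ℤ))

/-- the weight of an orbit -/
structure En where
  b : ℕ
  a : ℕ
  m : ℕ
  K : ℕ
  N : ℕ
  f : List ℕ

/-- averaging over a coset -/
structure CA where
  u : List ℕ
  fl : Bool
  n : ℕ
  L : ℕ
  k : ℕ
  J : List En

/-- a lift -/
structure CU where
  u : List ℕ
  r : ℕ
  e : ℕ × ℕ

/-- a certificate -/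
structure Ce where
  c : ℕ
  w : List ℕ
  B : ℕ
  P : List (List ℤ)
  x : CT ⊕ CA ⊕ CU

/-- a lower triangular matrix -/
def lo (l : ℕ) (P : List (List ℤ)) : Matrix (Fin l) (Fin l) ℤ := fun i j => if j ≤ i then (P.getD i []).getD j 0 else 0

/-- an upper unitriangular matrix -/
def up (l : ℕ) (P : List (List ℤ)) : Matrix (Fin l) (Fin l) ℤ :=
  fun i j => if i < j then (P.getD i []).getD j 0 else if i = j then 1 else 0

namespace Tb

variable (T : Tb) (l q : ℕ)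

/-- iteration of a word -/
noncomputable def it (v : List ℕ) (r i : ℕ) : ℕ := Nat.rec (motive := fun _ => ℕ) r (fun _ ih => T.aw v ih) i

/-- `u` commutes with `G` -/
noncomputable def com (u : List ℕ) (G : Bool × List ℕ) : Bool :=
  aL (fun i => Nat.beq (T.aw u (T.ag G i)) (T.ag G (T.aw u i))) l

/-- `u` stabilises the mask -/
noncomputable def sb (u : List ℕ) (m : ℕ) : Bool := aL (fun r => or (not (m.testBit r)) (m.testBit (T.aw u r))) T.n

/-- a rational character -/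
noncomputable def ch (G : Bool × List ℕ) (N : ℕ) (f : List ℕ) : Bool :=
  and (Nat.beq f.length l) (aL (fun i => Nat.beq (T.ev N f (T.ag G i)) (Nat.mod (Nat.mul q (f.getD i 0)) N)) l)

/-- `q - G` -/
noncomputable def am (G : Bool × List ℕ) : Matrix (Fin l) (Fin l) ℤ :=
  fun i j => (if i = j then (q : ℤ) else 0) - T.vec l (T.ag G i) j

/-- `tord ≤ B` -/
noncomputable def tk (G : Bool × List ℕ) (P : List (List ℤ)) (B : ℕ) : Bool :=
  decide ((∀ i j : Fin l, j < i → ∑ k, lo l P i k * ∑ r, up l P k r * T.am l q G r j = 0) ∧ (∏ i, lo l P i i).natAbs ≠ 0 ∧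
    (∏ i, ∑ k, lo l P i k * ∑ r, up l P k r * T.am l q G r i).natAbs ≤ B * (∏ i, lo l P i i).natAbs)

/-- the list contains the Weyl group of the roots killed by `f` -/
noncomputable def cls (N : ℕ) (f : List ℕ) (L : List (List ℕ × List (List ℤ))) : Bool :=
  and (lE (fun y => aL (fun i => Nat.beq (T.aw y.1 i) i) l) L)
    (aL (fun r => or (Nat.blt 0 (T.ev N f r))
      (lA (fun y => lE (fun z => aL (fun i => Nat.beq (T.aw z.1 i) (T.f r (T.aw y.1 i))) l) L) L)) T.n)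

/-- the check of `ElT` -/
noncomputable def chkT (G : Bool × List ℕ) (c : ℕ) (x : CT) : Bool :=
  decide (x.N ≠ 0 ∧ Nat.gcd x.N q = 1 ∧ x.f.length = l) && T.ch l q G x.N x.f₀ && T.ch l q G x.N x.f₁ && T.lt x.u &&
    T.com l x.u G &&
    aL (fun i => Nat.beq ((x.f.getD i 0 + x.f₁.getD i 0) % x.N) ((dM l * x.f₀.getD i 0 + T.ev x.N x.f₁ (T.aw x.u i)) % x.N)) l &&
    ((Nat.beq x.md 0 && Nat.ble ((if Nat.gcd x.N (dM l) = 1 then 1 else dM l) *
        (q ^ cL (fun r => Nat.beq (T.ev x.N x.f r) 0) T.n * (q + 1) ^ l)) c) ||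
      (Nat.beq x.md 1 && Nat.ble ((if Nat.gcd x.N (dM l) = 1 then 1 else dM l) *
        (q ^ cL (fun r => Nat.beq (T.ev x.N x.f r) 0) T.n * x.B)) c && T.cls l x.N x.f x.L &&
        lA (fun y => T.lt y.1 && T.tk l q (G.1, y.1 ++ G.2) y.2 x.B) x.L) ||
      (decide (l = 4 ∧ q = 2 ∧ ∃ e ∈ tab42, e.1 ∣ x.N ∧ e.2 ≤ c) && eL (fun r => Nat.beq (Nat.gcd (T.ev x.N x.f r) x.N) 1) T.n))

/-- the check of one orbit -/
noncomputable def en (G : Bool × List ℕ) (v : List ℕ) (L : ℕ) (e : En) : Bool :=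
  Nat.blt e.b T.n && (Nat.ble L e.a || (Nat.beq (T.it v e.b e.m) e.b && Nat.ble (L * dM l) (e.a * e.K) && Nat.blt 0 e.N &&
    T.ch l q G e.N e.f &&
    aL (fun j => Nat.beq j 0 || Nat.blt 0 (j * sL (fun i => T.ev e.N e.f (T.it v e.b i)) e.m % e.N)) e.K))

/-- the check of `ElA` for the word `v` -/
noncomputable def chkV (G : Bool × List ℕ) (c : ℕ) (x : CA) (v : List ℕ) : Bool :=
  aL (fun i => Nat.beq (T.it v i x.n) i) l && lA (T.en l q G v x.L) x.J &&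
    aL (fun r => eL (fun i => lE (fun e => Nat.beq e.b (T.it v r i)) x.J) x.n) T.n &&
    decide (Nat.gcd x.n q = 1 ∧ (x.J.map En.a).sum < (x.k + 1) * x.L ∧ dM l * (q ^ x.k * (q + 1) ^ l) ≤ c)

/-- the check of `ElA` -/
noncomputable def chkA (G : Bool × List ℕ) (m c : ℕ) (x : CA) : Bool :=
  T.lt x.u && T.sb x.u m && T.com l x.u G &&
    cond x.fl (Nat.beq (Nat.gcd (dM l) q) 1 && T.chkV l q G c x x.u) (T.chkV l q G c x (List.replicate (dM l) x.u).flatten)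

/-- the check of `ElU` -/
noncomputable def chkU (G : Bool × List ℕ) (m c : ℕ) (x : CU) : Bool :=
  decide (l = 4 ∧ q = 2 ∧ x.e ∈ tab42 ∧ x.e.2 ≤ c ∧ x.r < T.n ∧ 0 < x.e.1) && T.lt x.u && T.sb x.u m && T.com l x.u G &&
    Nat.beq (T.it x.u x.r x.e.1) x.r && aL (fun i => Nat.beq i 0 || !Nat.beq (T.it x.u x.r i) x.r) x.e.1

/-- the check of a certificate -/
noncomputable def chk (m s ω : ℕ) (G : Bool × List ℕ) (e : Ce) : Bool :=
  lA (fun a => Nat.blt a T.n && m.testBit a) e.w &&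
    Sum.elim (T.chkT l q (G.1, e.w ++ G.2) e.c)
      (Sum.elim (T.chkA l q (G.1, e.w ++ G.2) m e.c) (T.chkU l q (G.1, e.w ++ G.2) m e.c)) e.x && Nat.ble 2 e.c &&
    (Nat.ble (dM l * (e.c ^ 3 * (ω * (q ^ s * (q + 1) ^ l)))) (ordU l q) ||
      (Nat.beq m 0 && T.tk l q (G.1, e.w ++ G.2) e.P e.B && Nat.ble (dM l * (e.c ^ 3 * (ω * e.B))) (ordU l q)))

end Tb

variable {D : ChevalleyDatum} {l : ℕ} {M : CoxeterMatrix (Fin l)} {hp : IsType D l M} {T : Tb} {q : ℕ}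

theorem mv_refl (g : LL l ≃+ LL l) (R : Set (LL l)) : Mv hp g R g R :=
  ⟨1, 1, by simp only [ac_one, Set.image_id'], one_mem _, fun x => by simp only [ac_one]⟩

theorem mv_trans {g g₁ g₂ : LL l ≃+ LL l} {R R₁ R₂ : Set (LL l)} (h₁ : Mv hp g R g₁ R₁) (h₂ : Mv hp g₁ R₁ g₂ R₂) :
    Mv hp g R g₂ R₂ := by
  obtain ⟨v₁, w₁, a1, a2, a3⟩ := h₁
  obtain ⟨v₂, w₂, b1, b2, b3⟩ := h₂
  refine ⟨v₂ * v₁, w₂ * (v₂ * w₁ * v₂⁻¹), by rw [b1, a1, Set.image_image]; simp only [ac_mul],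
    mul_mem b2 (b1 ▸ conj_mem_WR hp v₂ a2), fun x => ?_⟩
  simp only [ac_mul, b3, a3, ac_inv]

theorem fin_of_mv {g g₁ : LL l ≃+ LL l} {R R₁ : Set (LL l)} (h₁ : Mv hp g R g₁ R₁) (h : Fin' hp q g₁ R₁) :
    Fin' hp q g R := by
  obtain ⟨g₂, R₂, h₂, h⟩ := h
  exact ⟨g₂, R₂, mv_trans h₁ h₂, h⟩

theorem gE_append (G : Bool × List ℕ) (w : List ℕ) (x : LL l) :
    gE hp T (G.1, w ++ G.2) x = ac hp (wd hp T w) (gE hp T G x) := by
  obtain ⟨b, v⟩ := G
  cases b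
  · exact (congrArg (ac hp · x) (wd_append w v)).trans (ac_mul hp _ _ x)
  · show -ac hp (wd hp T (w ++ v)) x = ac hp (wd hp T w) (-ac hp (wd hp T v) x)
    rw [wd_append, ac_mul, map_neg]

theorem lt_append {v w : List ℕ} (hv : T.lt v = true) (hw : T.lt w = true) : T.lt (v ++ w) = true :=
  lt_iff.2 fun s hs => (List.mem_append.1 hs).elim (lt_iff.1 hv s) (lt_iff.1 hw s)

theorem wd_rep (u : List ℕ) (d : ℕ) : wd hp T (List.replicate d u).flatten = wd hp T u ^ d := by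
  induction d with
  | zero => exact (pow_zero _).symm
  | succ d ih => rw [List.replicate_succ, List.flatten_cons, wd_append, ih, pow_succ']

theorem lt_rep {u : List ℕ} (hu : T.lt u = true) (d : ℕ) : T.lt (List.replicate d u).flatten = true := by
  induction d with
  | zero => rfl
  | succ d ih => rw [List.replicate_succ, List.flatten_cons]; exact lt_append hu ih

theorem equiv_ext {f g : LL l ≃+ LL l} (h : ∀ i, f (sr i) = g (sr i)) (x : LL l) : f x = g x :=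
  DFunLike.congr_fun (hom_ext (f := f.toAddMonoidHom) (g := g.toAddMonoidHom) h) x

namespace Gt

variable (G : Gt hp T)
include G

theorem it {v : List ℕ} (hv : T.lt v = true) {r : ℕ} (hr : r < T.n) (i : ℕ) :
    T.it v r i < T.n ∧ T.vec l (T.it v r i) = ac hp (wd hp T v ^ i) (T.vec l r) := by
  induction i with
  | zero => exact ⟨hr, by rw [pow_zero, ac_one]; rfl⟩
  | succ i ih => exact ⟨(G.aw hv ih.1).1, by rw [pow_succ', ac_mul, ← ih.2]; exact (G.aw hv ih.1).2⟩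

theorem com {u : List ℕ} {g : Bool × List ℕ} (hu : T.lt u = true) (hg : T.lt g.2 = true) (h : T.com l u g = true)
    (x : LL l) : ac hp (wd hp T u) (gE hp T g x) = gE hp T g (ac hp (wd hp T u) x) :=
  equiv_ext (f := (gE hp T g).trans (ac hp (wd hp T u))) (g := (ac hp (wd hp T u)).trans (gE hp T g)) (fun i => by
    have h1 := Nat.eq_of_beq_eq_true (aL_iff.1 h i i.2)
    rw [AddEquiv.trans_apply, AddEquiv.trans_apply, ← G.sim, ← (G.ag hg (G.lt_n i)).2, ← (G.aw hu (G.lt_n i)).2,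
      ← (G.aw hu (G.ag hg (G.lt_n i)).1).2, ← (G.ag hg (G.aw hu (G.lt_n i)).1).2, h1]) x

theorem sb {u : List ℕ} {m : ℕ} (hu : T.lt u = true) (h : T.sb u m = true) :
    ∀ b ∈ St T l m, ac hp (wd hp T u) b ∈ St T l m := by
  rintro _ ⟨r, hr, h1, rfl⟩
  have h2 := aL_iff.1 h r hr
  rw [h1] at h2
  exact ⟨_, (G.aw hu hr).1, h2, (G.aw hu hr).2⟩

theorem ch {g : Bool × List ℕ} (hg : T.lt g.2 = true) {N : ℕ} (hN : N ≠ 0) {f : List ℕ} (h : T.ch l q g N f = true) :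
    f.length = l ∧ Ch q (gE hp T g) N (fn l f) := by
  simp only [Tb.ch, Bool.and_eq_true, Nat.beq_eq, aL_iff] at h
  refine ⟨h.1, dvd_of_sr (f := (fn l f).comp (gE hp T g).toAddMonoidHom - (q : ℤ) • fn l f) fun i => ?_⟩
  have h1 := ev_modEq (T := T) hN h.1 (T.ag g i)
  rw [h.2 i i.2, (G.ag hg (G.lt_n i)).2, G.sim] at h1
  show (N : ℤ) ∣ fn l f (gE hp T g (sr i)) - q * fn l f (sr i)
  rw [fn_sr]
  exact ((Int.mod_modEq ((q : ℤ) * (f.getD i 0 : ℕ)) N).symm.trans (by exact_mod_cast h1)).dvd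

theorem tk {g : Bool × List ℕ} (hg : T.lt g.2 = true) {P : List (List ℤ)} {B : ℕ} (h : T.tk l q g P B = true) :
    tord q (gE hp T g) ≤ B := by
  obtain ⟨h1, h2, h3⟩ := of_decide_eq_true h
  have e : (q : ℤ) • (1 : Matrix (Fin l) (Fin l) ℤ) - mat (gE hp T g) = T.am l q g := by
    ext i j
    show (q : ℤ) * (1 : Matrix (Fin l) (Fin l) ℤ) i j - gE hp T g (sr i) j = (if i = j then (q : ℤ) else 0) - T.vec l (T.ag g i) j
    rw [(G.ag hg (G.lt_n i)).2, G.sim, Matrix.one_apply, mul_ite, mul_one, mul_zero]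
  have a1 : (lo l P).det = ∏ i, lo l P i i := Matrix.det_of_isLowerTriangular _ fun i j h => if_neg (not_le.2 h)
  have a2 : (lo l P * (up l P * T.am l q g)).det = ∏ i, ∑ k, lo l P i k * ∑ r, up l P k r * T.am l q g r i :=
    Matrix.det_of_isUpperTriangular fun i j h => h1 i j h
  have a3 : (up l P).det = 1 := (Matrix.det_of_isUpperTriangular fun i j (h : j < i) =>
    (if_neg h.not_gt).trans (if_neg h.ne')).trans (Finset.prod_eq_one fun i _ => (if_neg (lt_irrefl i)).trans (if_pos rfl))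
  rw [← a2, Matrix.det_mul, Matrix.det_mul, a3, one_mul, Int.natAbs_mul, a1, mul_comm] at h3
  rw [tord, e]
  exact Nat.le_of_mul_le_mul_right h3 (Nat.pos_of_ne_zero h2)

theorem wd_ext {v w : List ℕ} (hv : T.lt v = true) (hw : T.lt w = true) (h : ∀ i < l, T.aw v i = T.aw w i) :
    wd hp T v = wd hp T w :=
  W_ext hp fun i => by rw [← G.sim, ← (G.aw hv (G.lt_n i)).2, ← (G.aw hw (G.lt_n i)).2, h i i.2]

theorem cls {N : ℕ} (hN : N ≠ 0) {f : List ℕ} (hf : f.length = l) {L : List (List ℕ × List (List ℤ))}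
    (hL : ∀ y ∈ L, T.lt y.1 = true) (h : T.cls l N f L = true) {w : M.Group} (hw : w ∈ WR hp (Kl hp N (fn l f))) :
    ∃ y ∈ L, w = wd hp T y.1 := by
  simp only [Tb.cls, Bool.and_eq_true, Bool.or_eq_true, lE_iff, lA_iff, aL_iff, Nat.beq_eq, Nat.blt_eq] at h
  refine WR_ind hp (P := fun w => ∃ y ∈ L, w = wd hp T y.1) ?_ ?_ hw
  · obtain ⟨y, hy, h1⟩ := h.1
    exact ⟨y, hy, G.wd_ext (v := []) rfl (hL y hy) fun i hi => (h1 i hi).symm⟩
  · rintro a ha hr _ ⟨y, hy, rfl⟩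
    obtain ⟨r, hr', rfl⟩ := G.surj a hr
    obtain ⟨z, hz, h1⟩ := (h.2 r hr').resolve_left (by rw [(dvd_iff_ev hN hf r).1 ha.2]; exact lt_irrefl 0) y hy
    exact ⟨z, hz, G.wd_ext (v := r :: y.1) (lt_iff.2 (List.forall_mem_cons.2 ⟨hr', lt_iff.1 (hL y hy)⟩)) (hL z hz)
      fun i hi => (h1 i hi).symm⟩

theorem chkU (hF : l = 4 → D = chevF4) {g : Bool × List ℕ} (hg : T.lt g.2 = true) {m c : ℕ} {x : CU}
    (h : T.chkU l q g m c x = true) : ElU hp q (gE hp T g) (St T l m) c := by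
  simp only [Tb.chkU, Bool.and_eq_true, Bool.or_eq_true, decide_eq_true_eq, aL_iff, Nat.beq_eq, Bool.not_eq_true',
    ← Bool.not_eq_true] at h
  obtain ⟨⟨⟨⟨⟨⟨a1, a2, a3, a4, a5, a6⟩, b1⟩, b2⟩, b3⟩, b4⟩, b5⟩ := h
  refine ⟨hF a1, a2, wd hp T x.u, G.sb b1 b2, G.com b1 hg b3, x.e, a3, ?_, a4⟩
  have h1 : ac hp (wd hp T x.u ^ x.e.1) (T.vec l x.r) = T.vec l x.r := by rw [← (G.it b1 a5 _).2, b4]
  have h2 : ∀ k, ac hp (wd hp T x.u ^ (x.e.1 * k)) (T.vec l x.r) = T.vec l x.r := fun k => by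
    induction k with
    | zero => rw [mul_zero, pow_zero, ac_one]
    | succ k ih => rw [Nat.mul_succ, pow_add, ac_mul, h1, ih]
  have h3 := ac_one hp (T.vec l x.r)
  rw [← pow_orderOf_eq_one (wd hp T x.u), ← Nat.mod_add_div (orderOf _) x.e.1, pow_add, ac_mul, h2,
    ← (G.it b1 a5 _).2] at h3
  exact Nat.dvd_of_mod_eq_zero ((b5 _ (Nat.mod_lt _ a6)).resolve_right
    (not_not.2 (G.inj _ (G.it b1 a5 _).1 _ a5 h3)))

theorem en {g : Bool × List ℕ} (hg : T.lt g.2 = true) {v : List ℕ} (hv : T.lt v = true) {L : ℕ} {e : En}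
    (h : T.en l q g v L e = true) : e.b < T.n ∧ (L ≤ e.a ∨ (ac hp (wd hp T v ^ e.m) (T.vec l e.b) = T.vec l e.b ∧
      L * dM l ≤ e.a * e.K ∧ OrdGe q (gE hp T g) (∑ i ∈ Finset.range e.m, ac hp (wd hp T v ^ i) (T.vec l e.b)) e.K)) := by
  simp only [Tb.en, Bool.and_eq_true, Bool.or_eq_true, aL_iff, Nat.beq_eq, Nat.blt_eq, Nat.ble_eq] at h
  refine ⟨h.1, h.2.imp_right fun ⟨⟨⟨⟨a1, a2⟩, a3⟩, a4⟩, a5⟩ => ⟨by rw [← (G.it hv h.1 _).2, a1], a2, fun j y hj e1 => ?_⟩⟩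
  obtain ⟨b1, b2⟩ := G.ch hg a3.ne' a4
  by_contra hc
  have h1 := (a5 j (not_le.1 hc)).resolve_left hj.ne'
  have h2 := congrArg (fn l e.f) e1
  have h3 := (b2 y).neg_right
  rw [map_sub, map_nsmul, map_nsmul, map_sum, nsmul_eq_mul, nsmul_eq_mul] at h2
  rw [neg_sub, ← h2] at h3
  have h4 : ((sL (fun i => T.ev e.N e.f (T.it v e.b i)) e.m : ℕ) : ℤ) ≡
      ∑ i ∈ Finset.range e.m, fn l e.f (ac hp (wd hp T v ^ i) (T.vec l e.b)) [ZMOD e.N] := by
    rw [sL_eq, Nat.cast_sum]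
    exact Int.ModEq.sum fun i _ => (G.it hv h.1 i).2 ▸ ev_modEq a3.ne' b1 _
  have h5 := (h4.mul_left j).dvd_iff.2 h3
  rw [Nat.mod_eq_zero_of_dvd (by exact_mod_cast h5)] at h1
  exact lt_irrefl 0 h1

end Gt

namespace Gs

variable (G : Gs hp T)
include G

theorem chkT (hF : l = 4 → D = chevF4) {g : Bool × List ℕ} (hg : T.lt g.2 = true) {c : ℕ} {x : CT}
    (h : T.chkT l q g c x = true) : ElT hp q (gE hp T g) c := by
  simp only [Tb.chkT, Bool.and_eq_true, Bool.or_eq_true, decide_eq_true_eq, aL_iff, lA_iff, eL_iff, Nat.beq_eq,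
    Nat.ble_eq] at h
  obtain ⟨⟨⟨⟨⟨⟨⟨a1, a2, a3⟩, b1⟩, b2⟩, b3⟩, b4⟩, b5⟩, b6⟩ := h
  obtain ⟨c1, c2⟩ := G.ch hg a1 b1
  obtain ⟨c3, c4⟩ := G.ch hg a1 b2
  let F : LL l →+ ℤ := (dM l : ℤ) • fn l x.f₀ + (fn l x.f₁).comp (ac hp (wd hp T x.u)).toAddMonoidHom - fn l x.f₁
  have k1 : ∀ y, F y ≡ fn l x.f y [ZMOD x.N] := fun y => (Int.modEq_iff_dvd.2 (dvd_of_sr (f := fn l x.f - F) (fun i => by
    have h1 := ev_modEq (T := T) a1 c3 (T.aw x.u i)
    rw [(G.aw b3 (G.lt_n i)).2, G.sim] at h1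
    have h2 : ((x.f.getD i 0 + x.f₁.getD i 0 : ℕ) : ℤ) ≡ (dM l * x.f₀.getD i 0 + T.ev x.N x.f₁ (T.aw x.u i) : ℕ) [ZMOD x.N] :=
      Int.natCast_modEq_iff.2 (b5 i i.2)
    show (x.N : ℤ) ∣ fn l x.f (sr i) - (dM l * fn l x.f₀ (sr i) + fn l x.f₁ (ac hp (wd hp T x.u) (sr i)) - fn l x.f₁ (sr i))
    rw [fn_sr, fn_sr, fn_sr]
    push_cast at h2
    convert (h2.trans (h1.add_left _)).symm.dvd using 1
    ring) y))
  have k2 : Kl hp x.N F = Kl hp x.N (fn l x.f) := Set.ext fun a => and_congr_right' (k1 a).dvd_iff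
  have k3 : (Kl hp x.N F).ncard = cL (fun r => Nat.beq (T.ev x.N x.f r) 0) T.n := by
    rw [k2]
    exact G.ncard_eq fun r _ => by rw [dvd_iff_ev a1 a3, Nat.beq_eq]
  have k4 : nk D l x.N = if Nat.gcd x.N (dM l) = 1 then 1 else dM l := by rw [nk, G.nm]
  refine ⟨x.N, F, _, _, _, a2, c2, c4, G.com b3 hg b4, fun _ => rfl, ?_⟩
  rw [k3, k4]
  rcases b6 with (b6 | ⟨⟨⟨-, d1⟩, d2⟩, d3⟩) | ⟨⟨d1, d2, d3⟩, r, -, d4⟩
  · exact Or.inl b6.2
  · refine Or.inr (Or.inl ⟨x.B, fun w hw => ?_, d1⟩)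
    obtain ⟨y, hy, rfl⟩ := G.cls a1 a3 (fun y hy => (d3 y hy).1) d2 (k2 ▸ hw)
    exact le_of_eq_of_le (congrArg (tord q) (funext fun z => (gE_append g y.1 z).symm))
      (G.tk (lt_append (d3 y hy).1 hg) (d3 y hy).2)
  · refine Or.inr (Or.inr ⟨hF d1, d2, ⟨T.vec l r, ?_⟩, d3⟩)
    obtain ⟨t, ht⟩ := ((ev_modEq (T := T) a1 a3 r).trans (k1 _).symm).dvd
    rw [eq_add_of_sub_eq' ht]
    exact (Nat.isCoprime_iff_coprime.2 d4).add_mul_left_left t

theorem chkV {g : Bool × List ℕ} (hg : T.lt g.2 = true) {c : ℕ} {x : CA} {v : List ℕ} (hv : T.lt v = true)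
    (h : T.chkV l q g c x v = true) {R : Set (LL l)} {u : M.Group} (h1 : ∀ b ∈ R, ac hp u b ∈ R)
    (h2 : ∀ y, ac hp u (gE hp T g y) = gE hp T g (ac hp u y))
    (h3 : wd hp T v = u ^ dM l ∨ ((dM l).Coprime q ∧ wd hp T v = u)) : ElA hp q (gE hp T g) R c := by
  classical
  simp only [Tb.chkV, Bool.and_eq_true, decide_eq_true_eq, aL_iff, lA_iff, eL_iff, lE_iff, Nat.beq_eq] at h
  obtain ⟨⟨⟨a1, a2⟩, a3⟩, a4, a5, a6⟩ := h
  have k1 : wd hp T v ^ x.n = 1 := W_ext hp fun i => by rw [← G.sim, ← (G.it hv (G.lt_n i) _).2, a1 i i.2, ac_one]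
  have k2 : ∀ b : LL l, ∃ e : En, (∃ e ∈ x.J, T.vec l e.b = b) → e ∈ x.J ∧ T.vec l e.b = b := fun b => by
    by_cases h : ∃ e ∈ x.J, T.vec l e.b = b
    · exact ⟨h.choose, fun _ => h.choose_spec⟩
    · exact ⟨⟨0, 0, 0, 0, 0, []⟩, fun h' => absurd h' h⟩
  choose E hE using k2
  have k3 : ∀ b ∈ x.J.toFinset.image fun e => T.vec l e.b, E b ∈ x.J ∧ T.vec l (E b).b = b := fun b hb => hE b (by
    simpa using hb)
  refine ⟨u, wd hp T v, x.n, x.L, x.k, x.J.toFinset.image fun e => T.vec l e.b, fun b => (E b).m, fun b => (E b).K,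
    fun b => (E b).a, h1, h2, h3, k1, a4, fun b hb => (k3 b hb).2 ▸ G.root _ (G.en hg hv (a2 _ (k3 b hb).1)).1,
    fun y hy => ?_, fun b hb => ?_, lt_of_le_of_lt ?_ a5, Or.inl (G.nm ▸ a6)⟩
  · obtain ⟨r, hr, rfl⟩ := G.surj y hy
    obtain ⟨i, hi, e, he, h4⟩ := a3 r hr
    refine ⟨_, Finset.mem_image_of_mem _ (List.mem_toFinset.2 he), x.n - i, ?_⟩
    rw [h4, (G.it hv hr i).2, ← ac_mul, ← pow_add, Nat.sub_add_cancel hi.le, k1, ac_one]
  · have h4 := (G.en hg hv (a2 _ (k3 b hb).1)).2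
    rwa [(k3 b hb).2] at h4
  · rw [← Finset.sum_image (g := E) (f := En.a) fun b hb b' hb' e => by rw [← (k3 b hb).2, e, (k3 b' hb').2]]
    refine (Finset.sum_le_sum_of_subset (t := x.J.toFinset) fun e he => ?_).trans ?_
    · obtain ⟨b, hb, rfl⟩ := Finset.mem_image.1 he
      exact List.mem_toFinset.2 (k3 b hb).1
    · rw [show x.J.toFinset = x.J.dedup.toFinset from by ext; simp, List.sum_toFinset _ (List.nodup_dedup _)]
      exact ((List.dedup_sublist _).map _).sum_le_sum fun _ _ => Nat.zero_le _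

theorem chkA {g : Bool × List ℕ} (hg : T.lt g.2 = true) {m c : ℕ} {x : CA} (h : T.chkA l q g m c x = true) :
    ElA hp q (gE hp T g) (St T l m) c := by
  simp only [Tb.chkA, Bool.and_eq_true] at h
  obtain ⟨⟨⟨a1, a2⟩, a3⟩, a4⟩ := h
  cases hx : x.fl <;> rw [hx] at a4
  · exact G.chkV hg (lt_rep a1 _) a4 (G.sb a1 a2) (G.com a1 hg a3) (Or.inl (wd_rep _ _))
  · simp only [cond_true, Bool.and_eq_true, Nat.beq_eq] at a4
    exact G.chkV hg a1 a4.2 (G.sb a1 a2) (G.com a1 hg a3) (Or.inr ⟨a4.1, rfl⟩)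

/-- **the certificates** -/
theorem chk (hF : l = 4 → D = chevF4) {g : Bool × List ℕ} (hg : T.lt g.2 = true) {m s ω : ℕ} {e : Ce}
    (hω : Om hp (St T l m) ω) (hs : (St T l m).ncard = s) (h : T.chk l q m s ω g e = true) :
    Fin' hp q (gE hp T g) (St T l m) := by
  simp only [Tb.chk, Bool.and_eq_true, Bool.or_eq_true, lA_iff, Nat.blt_eq, Nat.ble_eq, Nat.beq_eq] at h
  obtain ⟨⟨⟨a1, a2⟩, a3⟩, a4⟩ := h
  have hg' : T.lt (g.1, e.w ++ g.2).2 = true := lt_append (lt_iff.2 fun s hs => (a1 s hs).1) hg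
  have k : ElT hp q (gE hp T (g.1, e.w ++ g.2)) e.c ∨ ElA hp q (gE hp T (g.1, e.w ++ g.2)) (St T l m) e.c ∨
      ElU hp q (gE hp T (g.1, e.w ++ g.2)) (St T l m) e.c := by
    rcases hx : e.x with x | x | x <;> rw [hx] at a2
    exacts [Or.inl (G.chkT hF hg' a2), Or.inr (Or.inl (G.chkA hg' a2)), Or.inr (Or.inr (G.chkU hF hg' a2))]
  refine ⟨gE hp T (g.1, e.w ++ g.2), St T l m, ⟨1, wd hp T e.w, by simp only [ac_one, Set.image_id'],
    G.wd_mem fun s hs => ⟨(a1 s hs).1, (G.mem_St (a1 s hs).1).2 (a1 s hs).2⟩, fun x => by rw [ac_one, ac_one, gE_append]⟩, ?_⟩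
  rcases a4 with a4 | ⟨⟨rfl, a4⟩, a5⟩
  · exact ⟨_, _, ⟨ω, hω, Or.inl (hs ▸ le_rfl)⟩, k, a3, a4⟩
  · exact ⟨_, _, ⟨ω, hω, Or.inr ⟨St_zero, Nat.mul_le_mul_left _ (G.tk hg' a4)⟩⟩, k, a3, a5⟩

end Gs

end Cfsg.Agent.N2.Ex.Al.Ck
end

-- part: N2/Ex/Al/Cls
section
/-!
# N2, subgroups of maximal rank: classification of the sets of roots closed under reflections (helper40)

* `Gt.cls_of` : every such set is conjugate to a row of a checked table;
* `lm_move` : transport of `LM`;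
* `Gs.kil`, `Gs.lng`, `Gt.spn` : rows which do not occur.
-/

set_option autoImplicit false
set_option linter.unusedSectionVars false

namespace Cfsg.Agent.N2.Ex.Al.Ck

open CoxeterSystem Cfsg Cfsg.Lie Cfsg.Lie.ChevalleyDatum
open Cfsg.Agent.ChevalleyStructure Cfsg.Agent.ChevalleyStructure.CoxeterGeom Cfsg.Agent.ChevalleyStructure.CoxeterGeomTypes
  Cfsg.Agent.Tits.Roots Cfsg.Agent.Nodes Cfsg.Agent.Nodes.BNOf Cfsg.Agent.Nodes.RGDChev Cfsg.Agent.Nodes.Coroot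
  Cfsg.Agent.Nodes.SubComb
open Cfsg.Agent.BpExc.Fr Cfsg.Agent.DS.Ex Cfsg.Agent.DS.Nt
open Cfsg.Agent.DS.Ex.Tor (RT)

/-- a row: the mask, the base, the extensions -/
structure Rw where
  m : ℕ
  Δ : List ℕ
  X : List (ℕ × ℕ × List ℕ)

/-- the row number `j` -/
def rw0 (L : List Rw) (j : ℕ) : Rw := L.getD j ⟨0, [], []⟩

/-- a larger invariant set of roots -/
structure Ki where
  qm : ℕ
  n₁ : ℕ
  n₂ : ℕ
  N : ℕ
  f : List ℕ
  β : ℕ

namespace Tb

variable (T : Tb) (l : ℕ)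

/-- refines the height -/
def key (r : ℕ) : ℕ := cond (Nat.blt (Nat.mul 2 r) T.n) (Nat.add T.n r) (Nat.sub T.n r)

/-- the mask is generated by `Δ` -/
noncomputable def rch (m : ℕ) (Δ : List ℕ) : Bool :=
  and (lA (fun d => and (Nat.blt d T.n) (m.testBit d)) Δ)
    (aL (fun r => or (not (m.testBit r)) (or (and (Nat.blt (T.ng r) r) (m.testBit (T.ng r)))
      (lE (fun d => or (Nat.beq d r) (and (Nat.blt (T.f d r) r) (m.testBit (T.f d r)))) Δ))) T.n)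

/-- the check of a row -/
noncomputable def row (L : List Rw) (j : ℕ) : Bool :=
  and (T.rch (rw0 L j).m (rw0 L j).Δ)
    (aL (fun b => or ((rw0 L j).m.testBit b) (or
      (lE (fun d => and (Nat.blt (T.key (T.f d b)) (T.key b)) (not ((rw0 L j).m.testBit (T.f d b)))) (rw0 L j).Δ)
      (lE (fun e => and (Nat.beq e.1 b) (and (Nat.blt j e.2.1) (and (Nat.blt e.2.1 L.length) (and (T.lt e.2.2)
        (lA (fun d => or ((rw0 L j).m.testBit (T.aw e.2.2 d)) (Nat.beq (T.aw e.2.2 d) b)) (rw0 L e.2.1).Δ)))))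
        (rw0 L j).X))) T.n)

/-- the number of roots of the mask orthogonal to `b` -/
noncomputable def cnt (m b : ℕ) : ℕ := cL (fun a => and (m.testBit a) (Nat.beq (T.c a b) 2)) T.n

/-- a functional which does not vanish modulo `N` -/
noncomputable def nz (N : ℕ) (f : List ℕ) : Bool :=
  and (Nat.blt 0 N) (and (Nat.beq f.length l) (eL (fun i => Nat.blt 0 (T.ev N f i)) l))

/-- the check of a larger invariant set -/
noncomputable def kil (m : ℕ) (k : Ki) : Bool :=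
  T.nz l k.N k.f && Nat.blt k.β T.n && !m.testBit k.β && Nat.beq (T.cnt k.qm k.β) k.n₂ &&
    (Nat.beq k.qm m || aL (fun a => k.qm.testBit a == (m.testBit a && Nat.beq (T.cnt m a) k.n₁)) T.n) &&
    aL (fun b => Nat.beq (T.ev k.N k.f b) 0 || (!m.testBit b && !Nat.beq (T.cnt k.qm b) k.n₂)) T.n

/-- the long roots enlarge the mask -/
noncomputable def lng (m N : ℕ) (f : List ℕ) (β : ℕ) : Bool :=
  T.nz l N f && Nat.blt β T.n && !m.testBit β && aL (fun b => Nat.beq b β || Nat.ble (T.c b β) 3) T.n &&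
    aL (fun a => Nat.beq (T.ev N f a) 0 || (!m.testBit a && eL (fun b => !Nat.beq b a && Nat.beq (T.c b a) 4) T.n)) T.n

/-- the mask spans the lattice -/
noncomputable def spn (m : ℕ) (L : List (ℕ × ℕ)) : Bool :=
  aL (fun i => m.testBit i || lE (fun e => Nat.blt e.1 T.n && Nat.blt e.2 T.n && m.testBit e.1 && m.testBit e.2 &&
    decide (T.vec l i = T.vec l e.1 + T.vec l e.2)) L) l

/-- the mask does not span the lattice, or contains the short roots -/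
noncomputable def shs (m : ℕ) (e : ℕ × List ℕ) : Bool :=
  (T.nz l e.1 e.2 && aL (fun a => !m.testBit a || Nat.beq (T.ev e.1 e.2 a) 0) T.n) ||
    aL (fun a => m.testBit a || aL (fun b => Nat.beq b a || !Nat.beq (T.c b a) 4) T.n) T.n

end Tb

variable {D : ChevalleyDatum} {l : ℕ} {M : CoxeterMatrix (Fin l)} {hp : IsType D l M} {T : Tb}

theorem sy_image {R : Set (LL l)} (h : Sy hp R) (v : M.Group) : Sy hp (ac hp v '' R) :=
  ⟨by rintro _ ⟨a, ha, rfl⟩; exact rt_ac hp v (h.root a ha), by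
    rintro _ ⟨a, ha, rfl⟩; exact ⟨-a, h.neg a ha, map_neg _ _⟩⟩

theorem rc_image {R : Set (LL l)} (h : Sy hp R) (h' : Rc hp R) (v : M.Group) : Rc hp (ac hp v '' R) := by
  rintro _ ⟨a, ha, rfl⟩ _ ⟨b, hb, rfl⟩
  exact ⟨_, h' a ha b hb, by rw [cp_ac hp v b (h.root a ha), map_sub, map_zsmul]⟩

theorem pp_image {R : Set (LL l)} (h : Pp hp R) (v : M.Group) : Pp hp (ac hp v '' R) := by
  obtain ⟨a, h1, h2⟩ := h
  refine ⟨ac hp v a, rt_ac hp v h1, fun k => h2 ?_⟩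
  have := (AddSubgroup.closure_le ((AddSubgroup.closure R).comap (ac hp v⁻¹).toAddMonoidHom)).2 (by
    rintro _ ⟨x, hx, rfl⟩
    show ac hp v⁻¹ (ac hp v x) ∈ AddSubgroup.closure R
    rw [ac_inv]
    exact AddSubgroup.subset_closure hx : ac hp v '' R ⊆ _) k
  exact ac_inv hp v a ▸ this

theorem image_inv (v : M.Group) (R : Set (LL l)) : ac hp v⁻¹ '' (ac hp v '' R) = R := by
  simp only [Set.image_image, ac_inv, Set.image_id']

theorem image_inv' (v : M.Group) (R : Set (LL l)) : ac hp v '' (ac hp v⁻¹ '' R) = R := by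
  simp only [Set.image_image, ac_inv', Set.image_id']

variable (hp) in
/-- conjugation -/
noncomputable def cj (v : M.Group) (g : LL l ≃+ LL l) : LL l ≃+ LL l := (ac hp v⁻¹).trans (g.trans (ac hp v))

theorem cj_apply (v : M.Group) (g : LL l ≃+ LL l) (x : LL l) : cj hp v g x = ac hp v (g (ac hp v⁻¹ x)) := rfl

theorem mv_cj (v : M.Group) (g : LL l ≃+ LL l) (R : Set (LL l)) : Mv hp g R (cj hp v g) (ac hp v '' R) :=
  ⟨v, 1, rfl, one_mem _, fun x => by rw [cj_apply, ac_inv, ac_one]⟩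

theorem ok_cj {o : Prop} {h : LL l → LL l} (k : Ok hp o h) (v : M.Group) : Ok hp o fun x => ac hp v (h (ac hp v⁻¹ x)) := by
  have b : ∀ w : M.Group, Set.BijOn (ac hp w) {a | RT hp a} {a | RT hp a} := fun w =>
    ⟨fun a ha => rt_ac hp w ha, (ac hp w).injective.injOn, fun a ha => ⟨_, rt_ac hp w⁻¹ ha, ac_inv' hp w a⟩⟩
  refine ⟨(b v).comp (k.bij.comp (b v⁻¹)), fun a ha => by rw [map_neg, k.neg _ (rt_ac hp _ ha), map_neg],
    fun a c ha hc => ?_, k.lin.imp_right fun ⟨θ, hθ⟩ => ⟨cj hp v θ, fun a ha => by rw [hθ _ (rt_ac hp _ ha), cj_apply]⟩⟩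
  rw [cp_ac hp v _ (k.bij.mapsTo (rt_ac hp _ hc)), k.ort _ _ (rt_ac hp _ ha) (rt_ac hp _ hc), cp_ac hp _ _ hc]

/-- **transport of `LM`** -/
theorem lm_move {o : Prop} {g : LL l ≃+ LL l} {R : Set (LL l)} (h : LM hp o g R) (v : M.Group) :
    LM hp o (cj hp v g) (ac hp v '' R) := by
  refine ⟨gw_mul h.gw v v⁻¹ fun _ => rfl, sy_image h.sy v, pp_image h.pp v, rc_image h.sy h.rc v, ?_,
    fun R' a1 a2 a3 a4 => ?_⟩
  · rintro _ ⟨a, ha, rfl⟩
    exact ⟨_, h.inv a ha, by rw [cj_apply, ac_inv]⟩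
  · rw [← image_inv' (hp := hp) v R']
    refine Set.image_mono (h.kill _ (image_inv (hp := hp) v R ▸ Set.image_mono a1) (sy_image a2 _) (pp_image a3 _)
      fun k b1 b2 b3 => ?_)
    rintro _ ⟨x, hx, rfl⟩
    refine ⟨_, a4 _ (ok_cj b1 v) ?_ (fun e a ha => ?_) hx, ac_inv hp v _⟩
    · rintro _ ⟨y, hy, rfl⟩
      exact ⟨_, b2 hy, by simp only [ac_inv]⟩
    · rw [cj_apply, cj_apply, ac_inv, ac_inv, b3 (Set.image_eq_empty.1 e) _ (rt_ac hp _ ha)]

variable (hp) in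
/-- the number of roots of `R` orthogonal to `b` -/
noncomputable def ct (R : Set (LL l)) (b : LL l) : ℕ := {a | RT hp a ∧ a ∈ R ∧ cp hp a b = 0}.ncard

theorem ct_neg (R : Set (LL l)) {b : LL l} (hb : RT hp b) : ct hp R (-b) = ct hp R b := by
  simp only [ct, cp_neg' hp _ hb, neg_eq_zero]

theorem ct_map {o : Prop} {h : LL l → LL l} (k : Ok hp o h) {R : Set (LL l)} (hR : ∀ a ∈ R, RT hp a) (hf : R.Finite)
    (hm : Set.MapsTo h R R) {b : LL l} (hb : RT hp b) : ct hp R (h b) = ct hp R b := by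
  have h1 := (hf.injOn_iff_bijOn_of_mapsTo hm).1 (k.bij.injOn.mono hR)
  rw [ct, ct, ← Set.InjOn.ncard_image (s := {a | RT hp a ∧ a ∈ R ∧ cp hp a b = 0}) (k.bij.injOn.mono fun a ha => ha.1)]
  refine congrArg Set.ncard (Set.ext fun x => ⟨fun ⟨_, h2, h3⟩ => ?_, ?_⟩)
  · obtain ⟨y, hy, rfl⟩ := h1.surjOn h2
    exact ⟨y, ⟨hR y hy, hy, (k.ort _ _ (hR y hy) hb).1 h3⟩, rfl⟩
  · rintro ⟨y, ⟨h2, h3, h4⟩, rfl⟩
    exact ⟨k.bij.mapsTo h2, hm h3, (k.ort _ _ h2 hb).2 h4⟩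

namespace Gt

variable (G : Gt hp T)
include G

theorem ff {s r : ℕ} (hs : s < T.n) (hr : r < T.n) :
    T.vec l r = T.vec l (T.f s r) - cp hp (T.vec l (T.f s r)) (T.vec l s) • T.vec l s := by
  rw [← ac_rw hp (G.root s hs), G.fe s hs r hr, rw_rw hp (G.root s hs)]

theorem rch_lt {m : ℕ} {Δ : List ℕ} (h : T.rch m Δ = true) : ∀ d ∈ Δ, d < T.n ∧ m.testBit d = true := by
  simp only [Tb.rch, Bool.and_eq_true, lA_iff, Nat.blt_eq] at h
  exact h.1

/-- the base generates the mask -/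
theorem rch {m : ℕ} {Δ : List ℕ} (h : T.rch m Δ = true) {S : Set (LL l)} (h1 : Sy hp S) (h2 : Rc hp S) (v : M.Group)
    (hv : ∀ d ∈ Δ, ac hp v (T.vec l d) ∈ S) : ac hp v '' St T l m ⊆ S := by
  simp only [Tb.rch, Bool.and_eq_true, Bool.or_eq_true, lA_iff, lE_iff, aL_iff, Nat.blt_eq, Nat.beq_eq, Bool.not_eq_true',
    ← Bool.not_eq_true] at h
  rintro _ ⟨_, ⟨r, hr, hm, rfl⟩, rfl⟩
  induction r using Nat.strong_induction_on with
  | _ r ih =>
    rcases (h.2 r hr).resolve_left (not_not.2 hm) with ⟨a1, a2⟩ | ⟨d, hd, rfl | ⟨a1, a2⟩⟩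
    · have := h1.neg _ (ih _ a1 (a1.trans hr) a2)
      rwa [(G.ng hr).2, map_neg, neg_neg] at this
    · exact hv d hd
    · rw [G.ff (h.1 d hd).1 hr, map_sub, map_zsmul, ← cp_ac hp v _ (G.root d (h.1 d hd).1)]
      exact h2 _ (hv d hd) _ (ih _ a1 (a1.trans hr) a2)

/-- **the classification** -/
theorem cls_of {L : List Rw} (hL : ∀ j < L.length, T.row L j = true) (h0 : 0 < L.length) (h0' : (rw0 L 0).m = 0)
    {S : Set (LL l)} (h1 : Sy hp S) (h2 : Rc hp S) : ∃ j < L.length, ∃ v : M.Group, ac hp v '' S = St T l (rw0 L j).m := by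
  classical
  obtain ⟨j, ⟨hj, v, hv⟩, hmax⟩ := Set.exists_max_image {j | j < L.length ∧ ∃ v : M.Group, ac hp v '' St T l (rw0 L j).m ⊆ S}
    id ((Set.finite_lt_nat _).subset fun _ h => h.1) ⟨0, h0, 1, by rw [h0', St_zero, Set.image_empty]; exact Set.empty_subset _⟩
  have s1 := sy_image h1 v⁻¹
  have s2 := rc_image h1 h2 v⁻¹
  have s3 : St T l (rw0 L j).m ⊆ ac hp v⁻¹ '' S := image_inv (hp := hp) v (St T l (rw0 L j).m) ▸ Set.image_mono hv
  refine ⟨j, hj, v⁻¹, Set.Subset.antisymm (fun a ha => ?_) s3⟩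
  obtain ⟨b, hb, rfl⟩ := G.surj a (s1.root a ha)
  have h := hL j hj
  simp only [Tb.row, Bool.and_eq_true, Bool.or_eq_true, lA_iff, lE_iff, aL_iff, Nat.blt_eq, Nat.beq_eq, Bool.not_eq_true',
    ← Bool.not_eq_true] at h
  have hΔ := G.rch_lt h.1
  rw [G.mem_St hb]
  induction hk : T.key b using Nat.strong_induction_on generalizing b with
  | _ k ih =>
    rcases h.2 b hb with a1 | ⟨d, hd, a1, a2⟩ | ⟨e, -, rfl, a1, a2, a3, a4⟩
    · exact a1
    · refine absurd (ih _ (hk ▸ a1) _ (G.flt d (hΔ d hd).1 b hb) ?_ rfl) a2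
      rw [G.fe d (hΔ d hd).1 b hb, ac_rw hp (G.root d (hΔ d hd).1)]
      exact s2 _ (s3 ⟨d, (hΔ d hd).1, (hΔ d hd).2, rfl⟩) _ ha
    · have h' := hL _ a2
      rw [Tb.row, Bool.and_eq_true] at h'
      have k1 := G.rch h'.1 s1 s2 (wd hp T e.2.2) fun d hd => by
        have k2 := G.aw a3 (G.rch_lt h'.1 d hd).1
        rw [← k2.2]
        rcases a4 d hd with k3 | k3
        · exact s3 ⟨_, k2.1, k3, rfl⟩
        · rwa [k3]
      refine absurd (hmax e.2.1 ⟨a2, v * wd hp T e.2.2, ?_⟩) (not_le.2 a1)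
      rw [← image_inv' (hp := hp) v S]
      rintro _ ⟨x, hx, rfl⟩
      exact ⟨_, k1 ⟨x, hx, rfl⟩, (ac_mul hp _ _ _).symm⟩

theorem cnt (m : ℕ) {b : ℕ} (hb : b < T.n) : ct hp (St T l m) (T.vec l b) = T.cnt m b :=
  G.ncard_eq fun r hr => by
    rw [G.mem_St hr, G.cpe r hr b hb, Bool.and_eq_true, Nat.beq_eq]
    exact and_congr_right' (by omega)

theorem pp_nz {N : ℕ} {f : List ℕ} (h : T.nz l N f = true) {R : Set (LL l)} (hR : ∀ a ∈ R, RT hp a)
    (h1 : ∀ r < T.n, T.vec l r ∈ R → T.ev N f r = 0) : Pp hp R := by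
  simp only [Tb.nz, Bool.and_eq_true, eL_iff, Nat.blt_eq, Nat.beq_eq] at h
  obtain ⟨a1, a2, i, hi, a3⟩ := h
  refine pp_of (N := N) (f := fn l f) (i := ⟨i, hi⟩) (fun a ha => ?_) ?_
  · obtain ⟨r, hr, rfl⟩ := G.surj a (hR a ha)
    exact (dvd_iff_ev a1.ne' a2 r).2 (h1 r hr ha)
  · rw [← G.sim, dvd_iff_ev a1.ne' a2]
    exact a3.ne'

theorem fin_St (m : ℕ) : (St T l m).Finite :=
  ((Set.finite_lt_nat T.n).image (T.vec l)).subset fun _ ⟨r, h, _, e⟩ => ⟨r, h, e⟩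

/-- **rows with a larger invariant set** -/
theorem kil {m : ℕ} {k : Ki} (h : T.kil l m k = true) {o : Prop} {g : LL l ≃+ LL l} : ¬ LM hp o g (St T l m) := fun H => by
  simp only [Tb.kil, Bool.and_eq_true, Bool.or_eq_true, aL_iff, Nat.blt_eq, Nat.beq_eq, Bool.not_eq_true', beq_iff_eq,
    ← Bool.not_eq_true] at h
  obtain ⟨⟨⟨⟨⟨a1, a2⟩, a3⟩, a4⟩, a5⟩, a6⟩ := h
  have k1 : ∀ a ∈ St T l m ∪ {b | RT hp b ∧ ct hp (St T l k.qm) b = k.n₂}, RT hp a := fun a ha =>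
    ha.elim (G.St_root a) fun h => h.1
  refine a3 ((G.mem_St a2).1 (H.kill _ Set.subset_union_left ⟨k1, fun a ha => ?_⟩ (G.pp_nz a1 k1 fun r hr h => ?_)
    (fun h b1 b2 _ => ?_) (Or.inr ⟨G.root _ a2, (G.cnt _ a2).trans a4⟩)))
  · exact ha.imp (H.sy.neg a) fun h => ⟨h.1.neg, (ct_neg _ h.1).trans h.2⟩
  · exact (a6 r hr).resolve_right fun h' => h.elim (fun h => h'.1 ((G.mem_St hr).1 h))
      fun h => h'.2 ((G.cnt _ hr).symm.trans h.2)
  · have k2 : Set.MapsTo h (St T l k.qm) (St T l k.qm) := by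
      rcases a5 with a5 | a5
      · rwa [a5]
      have k3 : ∀ a, RT hp a → (a ∈ St T l k.qm ↔ a ∈ St T l m ∧ ct hp (St T l m) a = k.n₁) := fun a ha => by
        obtain ⟨r, hr, rfl⟩ := G.surj a ha
        rw [G.mem_St hr, G.mem_St hr, a5 r hr, G.cnt m hr, Bool.and_eq_true, Nat.beq_eq]
      intro a ha
      have k4 := G.St_root a ha
      rw [k3 a k4] at ha
      exact (k3 _ (b1.bij.mapsTo k4)).2 ⟨b2 ha.1, (ct_map b1 G.St_root (G.fin_St _) b2 k4).trans ha.2⟩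
    exact fun a ha => ha.imp (fun ha => b2 ha) fun ha =>
      ⟨b1.bij.mapsTo ha.1, (ct_map b1 G.St_root (G.fin_St _) k2 ha.1).trans ha.2⟩

/-- **rows which span the lattice** -/
theorem spn {m : ℕ} {L : List (ℕ × ℕ)} (h : T.spn l m L = true) : ¬ Pp hp (St T l m) := by
  simp only [Tb.spn, Bool.and_eq_true, Bool.or_eq_true, aL_iff, lE_iff, Nat.blt_eq, decide_eq_true_eq] at h
  rintro ⟨a, -, ha⟩
  refine ha ?_
  rw [← Finset.univ_sum_single a]
  refine sum_mem fun i _ => ?_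
  rw [show (Pi.single i (a i) : LL l) = a i • sr i by rw [sr, ← Pi.single_smul, smul_eq_mul, mul_one], ← G.sim]
  refine zsmul_mem ?_ _
  rcases h i i.2 with h | ⟨e, -, ⟨⟨⟨a1, a2⟩, a3⟩, a4⟩, a5⟩
  · exact AddSubgroup.subset_closure ⟨i, G.lt_n i, h, rfl⟩
  · rw [a5]
    exact add_mem (AddSubgroup.subset_closure ⟨_, a1, a3, rfl⟩) (AddSubgroup.subset_closure ⟨_, a2, a4, rfl⟩)

theorem shs {m : ℕ} {e : ℕ × List ℕ} (h : T.shs l m e = true) (h1 : ¬ Pp hp (St T l m)) {a : LL l} (ha : RT hp a)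
    (h2 : ∃ b, RT hp b ∧ b ≠ a ∧ cp hp b a = 2) : a ∈ St T l m := by
  simp only [Tb.shs, Bool.and_eq_true, Bool.or_eq_true, aL_iff, Nat.beq_eq, Bool.not_eq_true', ← Bool.not_eq_true] at h
  rcases h with ⟨a1, a2⟩ | h
  · exact absurd (G.pp_nz a1 G.St_root fun r hr h => (a2 r hr).resolve_left (not_not.2 ((G.mem_St hr).1 h))) h1
  obtain ⟨b, b1, b2, b3⟩ := h2
  obtain ⟨r, hr, rfl⟩ := G.surj a ha
  obtain ⟨s, hs, rfl⟩ := G.surj b b1
  rw [G.cpe s hs r hr] at b3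
  exact (G.mem_St hr).2 ((h r hr).resolve_right fun h => (h s hs).elim (fun e => b2 (e ▸ rfl)) fun e => e (by omega))

end Gt

/-- **rows enlarged by the long roots** -/
theorem Gs.lng (G : Gs hp T) {m N : ℕ} {f : List ℕ} {β : ℕ} (h : T.lng l m N f β = true) {o : Prop} {g : LL l ≃+ LL l}
    (H : LM hp o g (St T l m)) : o := by
  by_contra ho
  simp only [Tb.lng, Bool.and_eq_true, Bool.or_eq_true, aL_iff, eL_iff, Nat.blt_eq, Nat.ble_eq, Nat.beq_eq,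
    Bool.not_eq_true', ← Bool.not_eq_true] at h
  obtain ⟨⟨⟨⟨a1, a2⟩, a3⟩, a4⟩, a5⟩ := h
  have k1 : ∀ a ∈ St T l m ∪ {a | RT hp a ∧ ∀ b, RT hp b → RT hp (a + a - b) → b = a}, RT hp a := fun a ha =>
    ha.elim (G.St_root a) fun h => h.1
  refine a3 ((G.mem_St a2).1 (H.kill _ Set.subset_union_left ⟨k1, fun a ha => ?_⟩ (G.pp_nz a1 k1 fun r hr h => ?_)
    (fun h b1 b2 _ a ha => ?_) (Or.inr ⟨G.root _ a2, fun b b1 b2 => ?_⟩)))
  · refine ha.imp (H.sy.neg a) fun h => ⟨h.1.neg, fun b b1 b2 => neg_eq_iff_eq_neg.1 (h.2 _ b1.neg ?_)⟩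
    exact (show -(-a + -a - b) = a + a - -b by abel) ▸ b2.neg
  · refine (a5 r hr).resolve_right fun ⟨c1, s, hs, c2, c3⟩ => h.elim (fun h => c1 ((G.mem_St hr).1 h)) fun h => ?_
    refine c2 (G.inj s hs r hr (h.2 _ (G.root s hs) ?_))
    have c4 := (rt_ac hp (rw' hp (T.vec l r)) (G.root s hs)).neg
    rw [ac_rw hp h.1, G.cpe s hs r hr, c3] at c4
    exact (show -(T.vec l s - (((4 : ℕ) : ℤ) - 2) • T.vec l r) = T.vec l r + T.vec l r - T.vec l s by
      push_cast; module) ▸ c4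
  · refine ha.imp (fun ha => b2 ha) fun ha => ⟨b1.bij.mapsTo ha.1, fun b c1 c2 => ?_⟩
    obtain ⟨θ, hθ⟩ := b1.lin.resolve_left ho
    obtain ⟨b', d1, rfl⟩ := b1.bij.surjOn c1
    obtain ⟨c, d2, d3⟩ := b1.bij.surjOn c2
    rw [hθ a ha.1, hθ b' d1, hθ c d2, ← map_add, ← map_sub] at d3
    rw [ha.2 b' d1 (θ.injective d3 ▸ d2)]
  · obtain ⟨s, hs, rfl⟩ := G.surj b b1
    have c1 := G.cp_le b2 (G.root _ a2)
    rw [sub_eq_add_neg, cp_add hp _ _ (G.root _ a2), cp_add hp _ _ (G.root _ a2), cp_neg hp _ (G.root _ a2),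
      cp_self hp (G.root _ a2), G.cpe s hs β a2] at c1
    rw [(a4 s hs).resolve_right (by omega)]

end Cfsg.Agent.N2.Ex.Al.Ck
end

-- part: N2/Ex/Al/Srv
section
/-!
# N2, subgroups of maximal rank: the stabilisers of the surviving rows (helper40)

* `adjust` : an automorphism `± w` stabilising `R` permutes the base modulo `W(R)`;
* `Tb.dfs` : enumeration of the images of a generating sequence of roots;
* `Good`, `Gs.good_sv`, `Gs.lat_of`.
-/

set_option autoImplicit false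
set_option linter.unusedSectionVars false

namespace Cfsg.Agent.N2.Ex.Al.Ck

open CoxeterSystem Cfsg Cfsg.Lie Cfsg.Lie.ChevalleyDatum
open Cfsg.Agent.ChevalleyStructure Cfsg.Agent.ChevalleyStructure.CoxeterGeom Cfsg.Agent.ChevalleyStructure.CoxeterGeomTypes
  Cfsg.Agent.Tits.Roots Cfsg.Agent.Nodes Cfsg.Agent.Nodes.BNOf Cfsg.Agent.Nodes.RGDChev Cfsg.Agent.Nodes.Coroot
  Cfsg.Agent.Nodes.SubComb
open Cfsg.Agent.BpExc.Fr Cfsg.Agent.DS.Ex Cfsg.Agent.DS.Nt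
open Cfsg.Agent.DS.Ex.Tor (RT)

/-- sum over a list -/
noncomputable def lS (f : ℕ → ℕ) (L : List ℕ) : ℕ := List.rec (motive := fun _ => ℕ) 0 (fun a _ ih => Nat.add (f a) ih) L

theorem lS_eq (f : ℕ → ℕ) (L : List ℕ) : lS f L = (L.map f).sum := by
  induction L with
  | nil => rfl
  | cons a L ih =>
    show f a + lS f L = _
    rw [ih, List.map_cons, List.sum_cons]

/-- the key of a leaf -/
noncomputable def enc (d : List (ℕ × ℕ)) : ℕ :=
  List.rec (motive := fun _ => ℕ) 0 (fun e _ ih => Nat.add e.2 (Nat.mul 256 ih)) d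

/-- the leaf of a map -/
noncomputable def path (φ : ℕ → ℕ) (t : List (ℕ × Bool)) : List (ℕ × ℕ) → List (ℕ × ℕ) :=
  List.rec (motive := fun _ => List (ℕ × ℕ) → List (ℕ × ℕ)) (fun d => d) (fun x _ ih d => ih ((x.1, φ x.1) :: d)) t

theorem path_val (φ : ℕ → ℕ) {P : ℕ → Prop} (t : List (ℕ × Bool)) (d : List (ℕ × ℕ)) (ht : ∀ x ∈ t, P x.1)
    (hd : ∀ e ∈ d, P e.1 ∧ e.2 = φ e.1) : ∀ e ∈ path φ t d, P e.1 ∧ e.2 = φ e.1 := by
  induction t generalizing d with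
  | nil => exact hd
  | cons x t ih =>
    exact ih _ (fun y hy => ht y (List.mem_cons_of_mem _ hy)) (List.forall_mem_cons.2 ⟨⟨ht x List.mem_cons_self, rfl⟩, hd⟩)

theorem mem_path (φ : ℕ → ℕ) (t : List (ℕ × Bool)) (d : List (ℕ × ℕ)) :
    (∀ e ∈ d, e ∈ path φ t d) ∧ ∀ x ∈ t, (x.1, φ x.1) ∈ path φ t d := by
  induction t generalizing d with
  | nil => exact ⟨fun _ h => h, fun _ h => absurd h List.not_mem_nil⟩
  | cons x t ih =>
    obtain ⟨h1, h2⟩ := ih ((x.1, φ x.1) :: d)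
    exact ⟨fun e he => h1 e (List.mem_cons_of_mem _ he), List.forall_mem_cons.2 ⟨h1 _ List.mem_cons_self, h2⟩⟩

/-- not a power of a prime -/
noncomputable def npp (q : ℕ) : Bool :=
  Nat.blt q 2 || lE (fun a => lE (fun b => Nat.blt a b && Nat.beq (q % a) 0 && Nat.beq (q % b) 0)
    [2, 3, 5, 7, 11, 13, 17, 19, 23]) [2, 3, 5, 7, 11, 13, 17, 19, 23]

theorem not_npp {p e : ℕ} (h : p.Prime) (he : 0 < e) : ¬ npp (p ^ e) = true := by
  simp only [npp, Bool.or_eq_true, Bool.and_eq_true, lE_iff, Nat.blt_eq, Nat.beq_eq]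
  rintro (h1 | ⟨a, ha, b, hb, ⟨h1, h2⟩, h3⟩)
  · exact absurd (Nat.one_lt_pow he.ne' h.one_lt) (by omega)
  · have k : ∀ a ∈ [2, 3, 5, 7, 11, 13, 17, 19, 23], Nat.Prime a := by decide
    have k1 := (Nat.prime_dvd_prime_iff_eq (k a ha) h).1 ((k a ha).dvd_of_dvd_pow (Nat.dvd_of_mod_eq_zero h2))
    have k2 := (Nat.prime_dvd_prime_iff_eq (k b hb) h).1 ((k b hb).dvd_of_dvd_pow (Nat.dvd_of_mod_eq_zero h3))
    omega

/-- a surviving row -/
structure Sv where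
  m : ℕ
  Δ : List ℕ
  dm : List ℕ
  s : ℕ
  sq : List (ℕ × Bool)
  co : List (List ℤ)
  ω : ℕ
  cl : List (Bool × List ℕ)
  lf : List (ℕ × ℕ × List ℕ)
  q₁ : ℕ
  k₁ : ℕ
  ev : Bool
  lg : ℕ × List ℕ × ℕ

namespace Tb

variable (T : Tb) (l : ℕ)

/-- positive roots -/
def ps (r : ℕ) : Bool := Nat.blt (Nat.mul 2 r) T.n

/-- `Δ` is the base -/
noncomputable def bas (m : ℕ) (Δ : List ℕ) : Bool :=
  lA (fun d => T.ps d && aL (fun x => !m.testBit x || !T.ps x || Nat.beq x d || T.ps (T.f d x)) T.n) Δ &&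
    aL (fun r => !m.testBit r || !T.ps r || lE (fun d => Nat.beq d r) Δ || lE (fun d => !T.ps (T.f r d)) Δ) T.n

/-- compatibility of the Cartan integers -/
noncomputable def cmp (b r : ℕ) (d : List (ℕ × ℕ)) : Bool :=
  lA (fun e => and (Nat.beq (T.c r e.2) (T.c b e.1)) (Nat.beq (T.c e.2 r) (T.c e.1 b))) d

/-- the enumeration -/
noncomputable def dfs (Δ E : List ℕ) (leaf : List (ℕ × ℕ) → ℕ) (t : List (ℕ × Bool)) : List (ℕ × ℕ) → ℕ :=
  List.rec (motive := fun _ => List (ℕ × ℕ) → ℕ) leaf (fun x _ ih d =>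
    lS (fun r => cond (T.cmp x.1 r d) (ih ((x.1, r) :: d)) 0) (cond x.2 Δ E)) t

/-- the list of the leaves -/
noncomputable def lv (Δ E : List ℕ) (t : List (ℕ × Bool)) : List (ℕ × ℕ) → List (List (ℕ × ℕ)) :=
  List.rec (motive := fun _ => List (ℕ × ℕ) → List (List (ℕ × ℕ))) (fun d => [d]) (fun x _ ih d =>
    (cond x.2 Δ E).flatMap fun r => cond (T.cmp x.1 r d) (ih ((x.1, r) :: d)) []) t

/-- the check of a leaf -/
noncomputable def lfc (V : Sv) (d : List (ℕ × ℕ)) : Bool :=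
  lE (fun e => and (Nat.beq e.1 (enc d)) (and (T.lt e.2.2) (and (lA (fun x => V.m.testBit (T.aw e.2.2 x)) V.Δ)
    (and (Nat.blt e.2.1 V.cl.length)
      (lA (fun x => Nat.beq (T.ag (V.cl.getD e.2.1 (false, [])) (T.aw e.2.2 x.1)) (T.aw e.2.2 x.2)) d))))) V.lf

/-- the enumeration of a surviving row -/
noncomputable def svd (V : Sv) : Bool :=
  Nat.ble (T.dfs V.Δ V.dm (fun d => cond (T.lfc V d) 1 (Nat.succ V.ω)) V.sq []) V.ω

/-- the small checks of a surviving row -/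
noncomputable def svs (V : Sv) : Bool :=
  T.rch V.m V.Δ && T.bas V.m V.Δ && Nat.beq (cL V.m.testBit T.n) V.s &&
    lA (fun x => Nat.blt x.1 T.n && cond x.2 (lE (fun d => Nat.beq d x.1) V.Δ) (lA (fun d => Nat.ble 2 (T.c x.1 d)) V.Δ)) V.sq &&
    aL (fun r => lE (fun d => Nat.blt (T.c r d) 2) V.Δ || lE (fun d => Nat.beq d r) V.dm) T.n &&
    aL (fun i => decide (T.vec l i = (((V.co.getD i []).zip V.sq).map fun z => z.1 • T.vec l z.2.1).sum)) l &&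
    lA (fun g => T.lt g.2) V.cl && avg l T.n V.s V.ω V.k₁ V.q₁ && (!V.ev || T.lng l V.m V.lg.1 V.lg.2.1 V.lg.2.2)

/-- the roots inverted by `G` -/
noncomputable def inv (G : Bool × List ℕ) (e : ℕ × List ℕ × ℕ) : Bool :=
  T.nz l e.1 e.2.1 && Nat.blt e.2.2 T.n && Nat.beq (T.ag G e.2.2) (T.ng e.2.2) &&
    aL (fun r => Nat.beq (T.ev e.1 e.2.1 r) 0 || !Nat.beq (T.ag G r) (T.ng r)) T.n

/-- the certificates for the class `c` -/
noncomputable def svc (V : Sv) (K : List (ℕ × List ℕ × ℕ)) (C : List (List (ℕ × Ce))) (c : ℕ) : Bool :=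
  (Nat.beq V.m 0 && T.inv l (V.cl.getD c (false, [])) (K.getD c (0, [], 0))) ||
    aL (fun q => npp q || (V.ev && Nat.beq (q % 2) 1) ||
      lE (fun e => Nat.beq e.1 q && T.chk l q V.m V.s V.ω (V.cl.getD c (false, [])) e.2) (C.getD c [])) V.q₁

/-- the status of a row -/
noncomputable def sta (L : List Rw) (K : List Ki) (P : List (ℕ × ℕ)) (S : List ℕ) (j : ℕ) : Bool :=
  lE (fun m => Nat.beq m (rw0 L j).m) S || T.kil l (rw0 L j).m (K.getD j ⟨0, 0, 0, 0, [], 0⟩) || T.spn l (rw0 L j).m P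

theorem dfs_eq (Δ E : List ℕ) (leaf : List (ℕ × ℕ) → ℕ) (t : List (ℕ × Bool)) (d : List (ℕ × ℕ)) :
    T.dfs Δ E leaf t d = ((T.lv Δ E t d).map leaf).sum := by
  induction t generalizing d with
  | nil => exact (add_zero _).symm
  | cons x t ih =>
    have k : ∀ L : List ℕ, (L.map fun r => cond (T.cmp x.1 r d) (T.dfs Δ E leaf t ((x.1, r) :: d)) 0).sum =
        ((L.flatMap fun r => cond (T.cmp x.1 r d) (T.lv Δ E t ((x.1, r) :: d)) []).map leaf).sum := fun L => by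
      induction L with
      | nil => rfl
      | cons r L ih' =>
        rw [List.map_cons, List.sum_cons, List.flatMap_cons, List.map_append, List.sum_append, ih', ih]
        cases T.cmp x.1 r d <;> rfl
    exact (lS_eq _ _).trans (k _)

theorem path_mem (Δ E : List ℕ) {φ : ℕ → ℕ} (h : ∀ r < T.n, ∀ s < T.n, T.c (φ r) (φ s) = T.c r s) (t : List (ℕ × Bool))
    (d : List (ℕ × ℕ)) (ht : ∀ x ∈ t, x.1 < T.n ∧ φ x.1 ∈ cond x.2 Δ E)
    (hd : ∀ e ∈ d, e.1 < T.n ∧ e.2 = φ e.1) : path φ t d ∈ T.lv Δ E t d := by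
  induction t generalizing d with
  | nil => exact List.mem_singleton_self _
  | cons x t ih =>
    obtain ⟨h1, h2⟩ := ht x List.mem_cons_self
    refine List.mem_flatMap.2 ⟨φ x.1, h2, ?_⟩
    have k : T.cmp x.1 (φ x.1) d = true := lA_iff.2 fun e he => by
      rw [(hd e he).2, h _ h1 _ (hd e he).1, h _ (hd e he).1 _ h1, Bool.and_eq_true, Nat.beq_eq, Nat.beq_eq]
      exact ⟨rfl, rfl⟩
    rw [k]
    exact ih _ (fun y hy => ht y (List.mem_cons_of_mem _ hy)) (List.forall_mem_cons.2 ⟨⟨h1, rfl⟩, hd⟩)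

theorem svd_spec {V : Sv} (h : T.svd V = true) :
    (T.lv V.Δ V.dm V.sq []).length ≤ V.ω ∧ ∀ d ∈ T.lv V.Δ V.dm V.sq [], T.lfc V d = true := by
  rw [svd, Nat.ble_eq, dfs_eq] at h
  refine ⟨le_trans ?_ h, fun d hd => ?_⟩
  · have := List.card_nsmul_le_sum ((T.lv V.Δ V.dm V.sq []).map fun d => cond (T.lfc V d) 1 (Nat.succ V.ω)) 1 fun x hx => by
      obtain ⟨d, -, rfl⟩ := List.mem_map.1 hx
      cases T.lfc V d
      exacts [Nat.succ_pos _, le_rfl]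
    simpa using this
  · have := (List.single_le_sum (fun _ _ => Nat.zero_le _) _ (List.mem_map_of_mem hd)).trans h
    cases hx : T.lfc V d
    · rw [hx] at this
      exact absurd this (Nat.not_succ_le_self _)
    · rfl

end Tb

variable {D : ChevalleyDatum} {l : ℕ} {M : CoxeterMatrix (Fin l)} {hp : IsType D l M} {T : Tb}

theorem WR_mono {R S : Set (LL l)} (h : R ⊆ S) : WR hp R ≤ WR hp S :=
  Subgroup.closure_mono fun _ ⟨v, j, h1, h2⟩ => ⟨v, j, h h1, h2⟩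

theorem WR_empty {w : M.Group} (h : w ∈ WR hp (∅ : Set (LL l))) : w = 1 :=
  WR_ind hp (P := fun w => w = 1) rfl (fun _ h => absurd h (Set.notMem_empty _)) h

open Classical in
/-- the map induced on the indices -/
noncomputable def ix (T : Tb) (h : LL l ≃+ LL l) (r : ℕ) : ℕ :=
  if k : ∃ s < T.n, T.vec l s = h (T.vec l r) then k.choose else 0

variable (hp) in
/-- the conclusion for a row -/
def Good (T : Tb) (m : ℕ) : Prop := ∀ p e : ℕ, p.Prime → 0 < e → ∀ g : LL l ≃+ LL l,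
  LM hp (D = chevF4 ∧ p = 2) g (St T l m) → (St T l m = ∅ → D = chevF4) → Fin' hp (p ^ e) g (St T l m)

theorem good_zero (h : D ≠ chevF4) : Good hp T 0 := fun _ _ _ _ _ _ k => absurd (k St_zero) h

namespace Gt

variable (G : Gt hp T)
include G

theorem ix {h : LL l ≃+ LL l} (k : GW hp h) {r : ℕ} (hr : r < T.n) : ix T h r < T.n ∧ T.vec l (ix T h r) = h (T.vec l r) := by
  have k1 := G.surj _ (gw_rt k (G.root r hr))
  rw [Ck.ix, dif_pos k1]
  exact k1.choose_spec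

theorem ps {r : ℕ} (hr : r < T.n) : T.ps r = true ↔ 0 ≤ T.vec l r := by
  rw [G.pos r hr, Tb.ps, Nat.blt_eq]
  rfl

/-- **modulo `W(R)` the base is permuted** -/
theorem adjust {m : ℕ} {Δ : List ℕ} (h1 : T.rch m Δ = true) (h2 : T.bas m Δ = true) (s1 : Sy hp (St T l m))
    (s2 : Rc hp (St T l m)) {g : LL l ≃+ LL l} (k : GW hp g) (k1 : ∀ a ∈ St T l m, g a ∈ St T l m) :
    ∃ w ∈ WR hp (St T l m), ∀ d ∈ Δ, Ck.ix T (g.trans (ac hp w)) d ∈ Δ := by
  have := finW hp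
  obtain ⟨v, hv, h3⟩ := exists_adjust (cs := M.toCoxeterSystem) (h := hp.isCartan) (St T l m) (WR hp (St T l m))
    (fun a ha => by
      obtain ⟨w, i, e⟩ := s1.root a ha
      exact ⟨w, i, e, Subgroup.subset_closure ⟨w, i, e ▸ ha, rfl⟩⟩) g fun a ha => gw_rt k ha
  obtain ⟨w, hw, e⟩ : ∃ w ∈ WR hp (St T l m), ∀ x, ac hp w (g x) = g (ac hp v x) := by
    obtain ⟨u, hu | ⟨-, hu⟩⟩ := k
    · refine ⟨_, WR_mono ?_ (conj_mem_WR hp u hv), fun x => by rw [hu, hu, ac_mul, ac_mul, ac_inv]⟩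
      rintro _ ⟨a, ha, rfl⟩
      exact hu a ▸ k1 a ha
    · refine ⟨_, WR_mono ?_ (conj_mem_WR hp u hv), fun x => by rw [hu, hu, map_neg, ac_mul, ac_mul, ac_inv]⟩
      rintro _ ⟨a, ha, rfl⟩
      have := s1.neg _ (k1 a ha)
      rwa [hu, neg_neg] at this
  refine ⟨w, hw, fun d hd => ?_⟩
  have kh : GW hp (g.trans (ac hp w)) := gw_mul k w 1 fun x => by rw [ac_one]; rfl
  set h := g.trans (ac hp w)
  have b1 : Set.MapsTo h {a | a ∈ St T l m ∧ 0 ≤ a} {a | a ∈ St T l m ∧ 0 ≤ a} := fun a ha =>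
    ⟨ac_mem_of_WR hp s2 hw _ (k1 a ha.1), (e a).symm ▸ h3 a ha.1 ha.2⟩
  have b2 := ((((G.fin_St m).subset fun _ ha => ha.1).injOn_iff_bijOn_of_mapsTo b1).1 h.injective.injOn).surjOn
  have hΔ := G.rch_lt h1
  simp only [Tb.bas, Bool.and_eq_true, Bool.or_eq_true, lA_iff, lE_iff, aL_iff, Nat.beq_eq, Bool.not_eq_true',
    ← Bool.not_eq_true] at h2
  have c0 : ∀ d ∈ Δ, T.vec l d ∈ St T l m ∧ 0 ≤ T.vec l d := fun d hd =>
    ⟨(G.mem_St (hΔ d hd).1).2 (hΔ d hd).2, (G.ps (hΔ d hd).1).1 (h2.1 d hd).1⟩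
  obtain ⟨c1, c2⟩ := G.ix kh (hΔ d hd).1
  have c3 := b1 (c0 d hd)
  rw [← c2] at c3
  by_contra hc
  rcases h2.2 _ c1 with ((c4 | c4) | ⟨_, c4, rfl⟩) | ⟨d', c4, c5⟩
  · exact c4 ((G.mem_St c1).1 c3.1)
  · exact c4 ((G.ps c1).2 c3.2)
  · exact hc c4
  obtain ⟨y, ⟨⟨x, hx, c6, rfl⟩, c7⟩, c8⟩ := b2 (c0 d' c4)
  have c9 := G.root d (hΔ d hd).1
  refine c5 ((G.ps (G.flt _ c1 _ (hΔ d' c4).1)).2 ?_)
  rw [G.fe _ c1 _ (hΔ d' c4).1, ac_rw hp (G.root _ c1), ← c8, c2, gw_cp kh _ c9, ← map_zsmul, ← map_sub]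
  refine (b1 ⟨s2 _ (c0 d hd).1 _ ⟨x, hx, c6, rfl⟩, ?_⟩).2
  rw [← ac_rw hp c9, ← G.fe _ (hΔ d hd).1 _ hx, ← G.ps (G.flt _ (hΔ d hd).1 _ hx)]
  rcases (h2.1 d hd).2 x hx with ((c10 | c10) | rfl) | c10
  · exact absurd c6 c10
  · exact absurd ((G.ps hx).2 c7) c10
  · exact absurd (G.inj _ c1 _ (hΔ d' c4).1 (c2.trans c8) ▸ c4) hc
  · exact c10

theorem inv {g : Bool × List ℕ} (hg : T.lt g.2 = true) {e : ℕ × List ℕ × ℕ} (h : T.inv l g e = true) {o : Prop} :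
    ¬ LM hp o (gE hp T g) ∅ := fun H => by
  simp only [Tb.inv, Bool.and_eq_true, Bool.or_eq_true, aL_iff, Nat.blt_eq, Nat.beq_eq, Bool.not_eq_true',
    ← Bool.not_eq_true] at h
  obtain ⟨⟨⟨a1, a2⟩, a3⟩, a4⟩ := h
  refine H.kill {a | RT hp a ∧ gE hp T g a = -a} (Set.empty_subset _) ⟨fun a ha => ha.1, fun a ha => ⟨ha.1.neg, by
    rw [map_neg, ha.2]⟩⟩ (G.pp_nz a1 (fun a ha => ha.1) fun r hr h => (a4 r hr).resolve_right (not_not.2 ?_))
    (fun h b1 _ b2 a ha => ⟨b1.bij.mapsTo ha.1, by rw [← b2 rfl a ha.1, ha.2, b1.neg a ha.1]⟩)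
    (a := T.vec l e.2.2) ⟨G.root _ a2, by rw [← (G.ag hg a2).2, a3, (G.ng a2).2]⟩
  exact G.inj _ (G.ag hg hr).1 _ (G.ng hr).1 (by rw [(G.ag hg hr).2, (G.ng hr).2, h.2])

theorem good_kil {m : ℕ} {k : Ki} (h : T.kil l m k = true) : Good hp T m := fun _ _ _ _ _ H => absurd H (G.kil h)

theorem good_spn {m : ℕ} {L : List (ℕ × ℕ)} (h : T.spn l m L = true) : Good hp T m :=
  fun _ _ _ _ _ H => absurd H.pp (G.spn h)

end Gt

namespace Gs

variable (G : Gs hp T)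
include G

/-- **a surviving row** -/
theorem good_sv (hF : l = 4 → D = chevF4) {V : Sv} (h1 : T.svs l V = true) (h2 : T.svd V = true)
    {K : List (ℕ × List ℕ × ℕ)} {C : List (List (ℕ × Ce))} (h3 : ∀ c < V.cl.length, T.svc l V K C c = true) :
    Good hp T V.m := by
  classical
  intro p e hp' he g H _
  simp only [Tb.svs, Bool.and_eq_true, Bool.or_eq_true, lA_iff, lE_iff, aL_iff, Nat.beq_eq, Nat.blt_eq, Bool.not_eq_true',
    ← Bool.not_eq_true, decide_eq_true_eq] at h1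
  obtain ⟨⟨⟨⟨⟨⟨⟨⟨a1, a2⟩, a3⟩, a4⟩, a9⟩, a5⟩, a6⟩, a7⟩, a8⟩ := h1
  obtain ⟨b1, b2⟩ := T.svd_spec h2
  have ext : ∀ f f' : LL l ≃+ LL l, (∀ x ∈ V.sq, f (T.vec l x.1) = f' (T.vec l x.1)) → ∀ x, f x = f' x :=
    fun f f' h => equiv_ext fun i => by
      rw [← G.sim, a5 i i.2, map_list_sum, map_list_sum, List.map_map, List.map_map]
      exact congrArg List.sum (List.map_congr_left fun z hz => by
        simp only [Function.comp, map_zsmul, h _ (List.of_mem_zip hz).2])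
  have adj : ∀ g : LL l ≃+ LL l, GW hp g → (∀ a ∈ St T l V.m, g a ∈ St T l V.m) → ∃ w ∈ WR hp (St T l V.m),
      path (ix T (g.trans (ac hp w))) V.sq [] ∈ T.lv V.Δ V.dm V.sq [] := fun g k k1 => by
    obtain ⟨w, hw, k2⟩ := G.adjust a1 a2 H.sy H.rc k k1
    have kh : GW hp (g.trans (ac hp w)) := gw_mul k w 1 fun x => by rw [ac_one]; rfl
    have k3 : ∀ r < T.n, ∀ s < T.n, T.c (ix T (g.trans (ac hp w)) r) (ix T (g.trans (ac hp w)) s) = T.c r s :=
      fun r hr s hs => by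
        have k3 := G.cpe _ (G.ix kh hr).1 _ (G.ix kh hs).1
        rw [(G.ix kh hr).2, (G.ix kh hs).2, gw_cp kh _ (G.root s hs), G.cpe r hr s hs] at k3
        omega
    have hΔ := G.rch_lt a1
    refine ⟨w, hw, T.path_mem _ _ k3 _ _ (fun x hx => ⟨(a4 x hx).1, ?_⟩) fun _ h => absurd h List.not_mem_nil⟩
    have k4 := (a4 x hx).2
    cases hx2 : x.2 <;> rw [hx2] at k4
    · obtain ⟨d, hd, k5⟩ := (a9 _ (G.ix kh (a4 x hx).1).1).resolve_left fun ⟨d, hd, k5⟩ => by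
        obtain ⟨d', hd', rfl⟩ := ((((List.finite_toSet V.Δ).injOn_iff_bijOn_of_mapsTo k2).1 fun r hr s hs e =>
          G.inj r (hΔ r hr).1 s (hΔ s hs).1 ((g.trans (ac hp w)).injective (by
            rw [← (G.ix kh (hΔ r hr).1).2, ← (G.ix kh (hΔ s hs).1).2, e]))).surjOn hd)
        rw [k3 _ (a4 x hx).1 _ (hΔ d' hd').1] at k5
        exact absurd (Nat.le_of_ble_eq_true (lA_iff.1 k4 d' hd')) (not_le.2 k5)
      exact k5 ▸ hd
    · obtain ⟨d, hd, k5⟩ := lE_iff.1 k4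
      exact Nat.eq_of_beq_eq_true k5 ▸ k2 d hd
  have om : Om hp (St T l V.m) V.ω := by
    refine ⟨{u | path (ix T (ac hp u)) V.sq [] ∈ T.lv V.Δ V.dm V.sq []}, ?_, fun u hu => ?_⟩
    · refine (Set.ncard_le_ncard_of_injOn (t := (T.lv V.Δ V.dm V.sq []).toFinset) (fun u => path (ix T (ac hp u)) V.sq [])
        (fun u hu => by simpa using hu) (fun u _ u' _ e => W_ext hp fun i => ext _ _ (fun x hx => ?_) _)
        (Finset.finite_toSet _)).trans ?_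
      · have k1 := (mem_path (ix T (ac hp u)) V.sq []).2 x hx
        rw [show path (ix T (ac hp u)) V.sq [] = path (ix T (ac hp u')) V.sq [] from e] at k1
        have k2 := (path_val (P := fun _ => True) _ V.sq [] (fun _ _ => trivial) (fun _ h => absurd h List.not_mem_nil) _ k1).2
        rw [← (G.ix (gw_ac u) (a4 x hx).1).2, ← (G.ix (gw_ac u') (a4 x hx).1).2]
        exact congrArg _ k2
      · rw [Set.ncard_coe_finset]
        exact (List.toFinset_card_le _).trans b1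
    · obtain ⟨w, hw, k⟩ := adj _ (gw_ac u) hu
      exact ⟨w, hw, by
        rwa [show (ac hp u).trans (ac hp w) = ac hp (w * u) from AddEquiv.ext fun x => (ac_mul hp w u x).symm] at k⟩
  have hs : (St T l V.m).ncard = V.s := (G.ncard_St _).trans a3
  rcases le_or_gt V.q₁ (p ^ e) with hq | hq
  · exact ⟨g, _, mv_refl _ _, G.cert_avg H.gw om hs a7 hq⟩
  obtain ⟨w, hw, k⟩ := adj g H.gw H.inv
  have kh : GW hp (g.trans (ac hp w)) := gw_mul H.gw w 1 fun x => by rw [ac_one]; rfl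
  have k1 := b2 _ k
  simp only [Tb.lfc, Bool.and_eq_true, lA_iff, lE_iff, Nat.beq_eq, Nat.blt_eq] at k1
  obtain ⟨⟨_, c, v⟩, -, -, c1, c2, c3, c4⟩ := k1
  dsimp only at c1 c2 c3 c4
  have c5 : T.lt (V.cl.getD c (false, [])).2 = true := a6 _ (by rw [List.getD_eq_getElem _ _ c3]; exact List.getElem_mem _)
  have c6 : ac hp (wd hp T v) '' St T l V.m = St T l V.m := by
    have k2 := G.rch a1 H.sy H.rc (wd hp T v) fun d hd =>
      ⟨_, (G.aw c1 (G.rch_lt a1 d hd).1).1, c2 d hd, (G.aw c1 (G.rch_lt a1 d hd).1).2⟩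
    exact (((G.fin_St _).injOn_iff_bijOn_of_mapsTo (Set.mapsTo_iff_image_subset.2 k2)).1
      (ac hp _).injective.injOn).image_eq
  have c7 : ∀ x, gE hp T (V.cl.getD c (false, [])) (ac hp (wd hp T v) x) = ac hp (wd hp T v) (ac hp w (g x)) :=
    ext ((ac hp (wd hp T v)).trans (gE hp T _)) ((g.trans (ac hp w)).trans (ac hp (wd hp T v))) fun x hx => by
      have k2 := c4 _ ((mem_path _ V.sq []).2 x hx)
      have k3 := G.aw c1 (a4 x hx).1
      have k4 := G.ix kh (a4 x hx).1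
      rw [AddEquiv.trans_apply, AddEquiv.trans_apply, ← k4.2, ← k3.2, ← (G.aw c1 k4.1).2, ← (G.ag c5 k3.1).2, k2]
  have mv : Mv hp g (St T l V.m) (gE hp T (V.cl.getD c (false, []))) (St T l V.m) :=
    ⟨wd hp T v, wd hp T v * w * (wd hp T v)⁻¹, c6.symm, c6 ▸ conj_mem_WR hp _ hw, fun x => by
      rw [c7, ac_mul, ac_mul, ac_inv]⟩
  have k5 := h3 c c3
  simp only [Tb.svc, Bool.and_eq_true, Bool.or_eq_true, lE_iff, aL_iff, Nat.beq_eq] at k5
  rcases k5 with ⟨d1, d2⟩ | k5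
  · rw [d1, St_zero] at H hw
    have d3 := lm_move H (wd hp T v)
    rw [Set.image_empty, show cj hp (wd hp T v) g = gE hp T (V.cl.getD c (false, [])) from AddEquiv.ext fun x => by
      rw [cj_apply, ← ac_one hp (g _), ← WR_empty hw, ← c7, ac_inv']] at d3
    exact absurd d3 (G.inv c5 d2)
  rcases k5 _ hq with (d1 | ⟨d1, d2⟩) | ⟨x, -, -, d2⟩
  · exact absurd d1 (not_npp hp' he)
  · obtain ⟨-, rfl⟩ := G.lng (a8.resolve_left (not_not.2 d1)) H
    have := (dvd_pow_self 2 he.ne')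
    omega
  · exact fin_of_mv mv (G.chk hF c5 om hs d2)

theorem lat_of {L : List Rw} (hL : ∀ j < L.length, T.row L j = true) (h0 : 0 < L.length) (h0' : (rw0 L 0).m = 0)
    {K : List Ki} {P : List (ℕ × ℕ)} {S : List ℕ} (h1 : ∀ j < L.length, T.sta l L K P S j = true)
    (h2 : ∀ m ∈ S, Good hp T m) (p e : ℕ) (hp' : p.Prime) (he : 0 < e) (g : LL l ≃+ LL l) (R : Set (LL l))
    (H : LM hp (D = chevF4 ∧ p = 2) g R) (h : R = ∅ → D = chevF4) : Fin' hp (p ^ e) g R := by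
  obtain ⟨j, hj, v, hv⟩ := G.cls_of hL h0 h0' H.sy H.rc
  have k : Good hp T (rw0 L j).m := by
    have k := h1 j hj
    simp only [Tb.sta, Bool.or_eq_true, lE_iff, Nat.beq_eq] at k
    rcases k with (⟨m, k, e⟩ | k) | k
    exacts [e ▸ h2 m k, G.good_kil k, G.good_spn k]
  exact fin_of_mv (hv ▸ mv_cj v g R) (k p e hp' he _ (hv ▸ lm_move H v) fun e => h (Set.image_eq_empty.1 (hv.trans e)))

end Gs

theorem Gt.f4s_of (G : Gt hp T) {L : List Rw} (hL : ∀ j < L.length, T.row L j = true) (h0 : 0 < L.length)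
    (h0' : (rw0 L 0).m = 0) {P : List (ℕ × List ℕ)} (h1 : ∀ j < L.length, T.shs l (rw0 L j).m (P.getD j (0, [])) = true)
    {R : Set (LL l)} (s1 : Sy hp R) (s2 : Rc hp R) (s3 : ¬ Pp hp R) (a : LL l) (ha : RT hp a)
    (h : ∃ b, RT hp b ∧ b ≠ a ∧ cp hp b a = 2) : a ∈ R := by
  obtain ⟨j, hj, v, hv⟩ := G.cls_of hL h0 h0' s1 s2
  obtain ⟨b, b1, b2, b3⟩ := h
  obtain ⟨x, hx, e⟩ : ac hp v a ∈ ac hp v '' R := hv ▸ G.shs (h1 j hj)
    (fun k => s3 (image_inv (hp := hp) v R ▸ pp_image (hv ▸ k) v⁻¹)) (rt_ac hp v ha)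
    ⟨_, rt_ac hp v b1, fun e => b2 ((ac hp v).injective e), (cp_ac hp v b ha).trans b3⟩
  exact (ac hp v).injective e ▸ hx

private noncomputable def spK (f : ℕ → Bool) (n : ℕ) : ℕ :=
  Nat.rec (motive := fun _ => ℕ) 0 (fun k ih => cond (f k) (Nat.add (Nat.shiftLeft 1 (Nat.mul 8 k)) ih) ih) n

private theorem spK_succ (f : ℕ → Bool) (n : ℕ) : spK f (n + 1) = cond (f n) (2 ^ (8 * n) + spK f n) (spK f n) := by
  show cond (f n) (1 <<< (8 * n) + spK f n) (spK f n) = _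
  rw [Nat.one_shiftLeft]

private theorem spK_lt (f : ℕ → Bool) (n : ℕ) : spK f n < 2 ^ (8 * n) := by
  induction n with
  | zero => exact Nat.one_pos
  | succ n ih =>
    rw [spK_succ, Nat.mul_succ, Nat.pow_add]
    generalize 2 ^ (8 * n) = y at ih ⊢
    cases f n
    · show spK f n < y * 256
      omega
    · show y + spK f n < y * 256
      omega

private theorem spK_and (f g : ℕ → Bool) (n : ℕ) : spK f n &&& spK g n = spK (fun a => and (f a) (g a)) n := by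
  induction n with
  | zero => exact Nat.zero_and 0
  | succ n ih =>
    have k : ∀ h : ℕ → Bool, spK h (n + 1) = 2 ^ (8 * n) * cond (h n) 1 0 + spK h n := fun h => by
      rw [spK_succ]
      cases h n
      · exact (Nat.zero_add _).symm
      · show _ = 2 ^ (8 * n) * 1 + _
        rw [Nat.mul_one]
        rfl
    rw [k, k, k]
    refine Nat.eq_of_testBit_eq fun i => ?_
    rw [Nat.testBit_and, Nat.testBit_two_pow_mul_add _ (spK_lt _ _), Nat.testBit_two_pow_mul_add _ (spK_lt _ _),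
      Nat.testBit_two_pow_mul_add _ (spK_lt _ _), ← ih, Nat.testBit_and]
    split
    · rfl
    · rw [← Nat.testBit_and]
      cases f n <;> cases g n <;> rfl

private theorem spK_mod (f : ℕ → Bool) (n : ℕ) : spK f n % 255 = cL f n % 255 ∧ cL f n ≤ n := by
  induction n with
  | zero => exact ⟨rfl, le_rfl⟩
  | succ n ih =>
    have k : 2 ^ (8 * n) % 255 = 1 := by
      rw [Nat.pow_mul, Nat.pow_mod]
      show 1 ^ n % 255 = 1
      rw [Nat.one_pow]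
    rw [spK_succ]
    show _ = cond (f n) (Nat.succ (cL f n)) (cL f n) % 255 ∧ cond (f n) (Nat.succ (cL f n)) (cL f n) ≤ n + 1
    generalize 2 ^ (8 * n) = y at k
    cases f n
    · exact ⟨ih.1, Nat.le_succ_of_le ih.2⟩
    · show (y + spK f n) % 255 = (cL f n + 1) % 255 ∧ cL f n + 1 ≤ n + 1
      omega

private def tbK (m b : ℕ) : Bool := Nat.beq (Nat.mod (Nat.shiftRight m b) 2) 1

private theorem tbK_eq : tbK = Nat.testBit := by
  funext m b
  rw [Nat.testBit_eq_decide_div_mod_eq, ← Nat.shiftRight_eq_div_pow, Bool.eq_iff_iff, decide_eq_true_eq]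
  exact Iff.of_eq Nat.beq_eq

private noncomputable def cnK (T : Tb) (m b : ℕ) : ℕ :=
  Nat.mod (Nat.land (spK (tbK m) T.n) (spK (fun a => Nat.beq (T.c a b) 2) T.n)) 255

private theorem cnK_eq (T : Tb) (h : T.n < 255) : cnK T = T.cnt := by
  funext m b
  show (spK (tbK m) T.n &&& spK (fun a => Nat.beq (T.c a b) 2) T.n) % 255 = _
  rw [tbK_eq, spK_and, (spK_mod _ _).1]
  exact Nat.mod_eq_of_lt (lt_of_le_of_lt (spK_mod _ _).2 h)

private noncomputable def stK (T : Tb) (tb : ℕ → ℕ → Bool) (cn : ℕ → ℕ → ℕ) (l : ℕ) (L : List Rw) (K : List Ki) (P : List (ℕ × ℕ)) (S : List ℕ)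
    (j : ℕ) : Bool :=
  Rw.rec (motive := fun _ => Bool) (fun m _ _ =>
    lE (fun x => Nat.beq x m) S || Ki.rec (motive := fun _ => Bool) (fun qm n₁ n₂ N f β =>
      T.nz l N f && Nat.blt β T.n && !tb m β && Nat.beq (cn qm β) n₂ &&
        (Nat.beq qm m || aL (fun a => tb qm a == (tb m a && Nat.beq (cn m a) n₁)) T.n) &&
        aL (fun b => Nat.beq (T.ev N f b) 0 || (!tb m b && !Nat.beq (cn qm b) n₂)) T.n)
      (K.getD j ⟨0, 0, 0, 0, [], 0⟩) || T.spn l m P) (rw0 L j)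

private theorem sta_of_K (T : Tb) (l : ℕ) (L : List Rw) (K : List Ki) (P : List (ℕ × ℕ)) (S : List ℕ) (n : ℕ)
    (h : and (Nat.blt T.n 255) (aL (stK T tbK (cnK T) l L K P S) n) = true) : ∀ j < n, T.sta l L K P S j = true := by
  rw [Bool.and_eq_true, Nat.blt_eq] at h
  rw [cnK_eq T h.1, tbK_eq] at h
  exact aL_iff.1 h.2

private noncomputable def fcK {β : Type} (x : ℕ) (k : ℕ → β) : β :=
  Nat.rec (motive := fun _ => β) (k 0) (fun n _ => k (Nat.succ n)) x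

private theorem fcK_eq {β : Type} (x : ℕ) (k : ℕ → β) : fcK x k = k x := by cases x <;> rfl

private noncomputable def meK (f : ℕ → ℕ → ℕ) (s r : ℕ) : ℕ := fcK r fun r => Nat.add (f s r) 0

private theorem meK_eq (f : ℕ → ℕ → ℕ) : meK f = f := by
  funext r s
  delta meK
  rw [fcK_eq]
  rfl

private noncomputable def awK (f : ℕ → ℕ → ℕ) (w : List ℕ) (r : ℕ) : ℕ :=
  List.rec (motive := fun _ => ℕ) r (fun s _ ih => f s ih) w

private noncomputable def xmK (X : List (ℕ × ℕ × List ℕ)) : ℕ :=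
  List.rec (motive := fun _ => ℕ) 0 (fun e _ ih => Nat.lor (Nat.shiftLeft 1 e.1) ih) X

private theorem xmK_mem {b : ℕ} (X : List (ℕ × ℕ × List ℕ)) (h : (xmK X).testBit b = true) : ∃ e ∈ X, e.1 = b := by
  induction X with
  | nil => exact absurd ((Nat.zero_testBit b).symm.trans h) Bool.false_ne_true
  | cons e X ih =>
    have h' : (1 <<< e.1 ||| xmK X).testBit b = true := h
    rw [Nat.testBit_or, Bool.or_eq_true, Nat.one_shiftLeft, Nat.testBit_two_pow, decide_eq_true_eq] at h'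
    rcases h' with h' | h'
    · exact ⟨e, List.mem_cons_self, h'⟩
    · obtain ⟨x, hx, e⟩ := ih h'
      exact ⟨x, List.mem_cons_of_mem _ hx, e⟩

private noncomputable def roK (T : Tb) (tb : ℕ → ℕ → Bool) (f : ℕ → ℕ → ℕ) (L : List Rw) (j : ℕ) : Bool :=
  Rw.rec (motive := fun _ => Bool) (fun m Δ X => and (and (lA (fun d => and (Nat.blt d T.n) (tb m d)) Δ)
    (aL (fun r => or (not (tb m r)) (or (and (Nat.blt (T.ng r) r) (tb m (T.ng r)))
      (lE (fun d => or (Nat.beq d r) (and (Nat.blt (T.f d r) r) (tb m (T.f d r)))) Δ))) T.n)) (and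
    (lA (fun e => Prod.rec (motive := fun _ => Bool) (fun b z => Prod.rec (motive := fun _ => Bool) (fun i w =>
      and (Nat.blt j i) (and (Nat.blt i L.length) (and (T.lt w)
        (lA (fun d => or (tb m (awK f w d)) (Nat.beq (awK f w d) b)) (rw0 L i).Δ)))) z) e) X)
    (aL (fun b => or (tb (Nat.lor m (xmK X)) b)
      (lE (fun d => and (Nat.blt (T.key (T.f d b)) (T.key b)) (not (tb m (T.f d b)))) Δ)) T.n))) (rw0 L j)

private theorem row_of_K (T : Tb) (L : List Rw) (n : ℕ) (h : aL (roK T tbK (meK T.f) L) n = true) :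
    ∀ j < n, T.row L j = true := fun j hj => by
  rw [meK_eq, tbK_eq] at h
  have h1 : and (T.rch (rw0 L j).m (rw0 L j).Δ) (and (lA _ (rw0 L j).X) (aL _ T.n)) = true := aL_iff.1 h j hj
  rw [Bool.and_eq_true, Bool.and_eq_true, lA_iff, aL_iff] at h1
  refine Bool.and_eq_true_iff.2 ⟨h1.1, aL_iff.2 fun b hb => ?_⟩
  have h2 := h1.2.2 b hb
  rw [Bool.or_eq_true] at h2
  rw [Bool.or_eq_true, Bool.or_eq_true]
  rcases h2 with h2 | h2
  · have h3 : ((rw0 L j).m ||| xmK (rw0 L j).X).testBit b = true := h2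
    rw [Nat.testBit_or, Bool.or_eq_true] at h3
    refine h3.imp_right fun h3 => Or.inr ?_
    obtain ⟨e, he, rfl⟩ := xmK_mem _ h3
    exact lE_iff.2 ⟨e, he, Bool.and_eq_true_iff.2 ⟨Nat.beq_refl _, h1.2.1 e he⟩⟩
  · exact Or.inr (Or.inl h2)

end Cfsg.Agent.N2.Ex.Al.Ck
end

-- part: N2/Ex/Al/RwF4
section
/-!
# N2, subgroups of maximal rank: the rows of `F4` (helper40, generated data)
-/

set_option autoImplicit false
set_option maxRecDepth 100000

namespace Cfsg.Agent.N2.Ex.Al.Ck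

open Cfsg Cfsg.Lie Cfsg.Agent.Nodes.RGDChev

/-- T -/
noncomputable def rF4_0 : Rw :=
  (by
  refine (?fq9001 : ((_root_.Cfsg.Agent.N2.Ex.Al.Ck.Rw.mk (nat_lit 0) List.nil (pk61l (fun i1 => (_root_.Prod.mk i1 (_root_.Prod.mk (pk61d (nat_lit 2) 
    (nat_lit 0xa9669a5665a5a9669a5665a5) i1) ((fun g1 : Nat → Nat => pk61l (fun i2 => (pk61d (nat_lit 5) 
    (nat_lit 0x222ad813a06d2909903bc096aca0285e7004c2201d50c260a41e29318408d2802c25180e111804) i2)) (g1 i1) (g1 (Nat.succ i1)) List.nil) fun j => (pk61d (nat_lit 6) 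
    (nat_lit 0x3ef7beb8df5d33c70beeb2baa99e59228607de75c6995d655349140e34c289207144082000) j))))) (nat_lit 0) (nat_lit 48) List.nil)) : Rw)
    = ?xq9001 → (Rw)) ?hq9001; (case hq9001 => (set_option maxRecDepth 1000000 in conv => lhs; reduce)); intro _; exact ?xq9001 : Rw)

/-- A1~ -/
noncomputable def rF4_1 : Rw :=
  (by
  refine (?fq9002 : ((_root_.Cfsg.Agent.N2.Ex.Al.Ck.Rw.mk (nat_lit 16777217) (pk61l (fun i1 => (nat_lit 0)) (nat_lit 0) (nat_lit 1) List.nil) (pk61l (fun i1 => (_root_.Prod.mk (pk61d (nat_lit 6) 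
    (nat_lit 0xbeeb6caa9a2696389f79c6da5d655344f38c289206143081) i1) (_root_.Prod.mk (pk61d (nat_lit 4) 
    (nat_lit 0x3336c4c4c646363333364c4c46c36336) i1) ((fun g1 : Nat → Nat => pk61l (fun i2 => (pk61d (nat_lit 5) 
    (nat_lit 0x11156d5b5ab55394a10c4a309d515a2630c6618846) i2)) (g1 i1) (g1 (Nat.succ i1)) List.nil) fun j => (pk61d (nat_lit 6) 
    (nat_lit 0x2181e75c6da6585d65544903ce34c289207185144103080000) j))))) (nat_lit 0) (nat_lit 32) List.nil)) : Rw)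
    = ?xq9002 → (Rw)) ?hq9002; (case hq9002 => (set_option maxRecDepth 1000000 in conv => lhs; reduce)); intro _; exact ?xq9002 : Rw)

/-- A1 -/
noncomputable def rF4_2 : Rw :=
  (by
  refine (?fq9003 : ((_root_.Cfsg.Agent.N2.Ex.Al.Ck.Rw.mk (nat_lit 67108868) (pk61l (fun i1 => (nat_lit 2)) (nat_lit 0) (nat_lit 1) List.nil) (pk61l (fun i1 => (_root_.Prod.mk (pk61d (nat_lit 6) 
    (nat_lit 0xbeeb2baa99e58e28607de7585d551340e34c2ca248103040) i1) (_root_.Prod.mk (pk61d (nat_lit 4) 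
    (nat_lit 0x57337c753335c7c357337c573335c7c3) i1) ((fun g1 : Nat → Nat => pk61l (fun i2 => (pk61d (nat_lit 5) 
    (nat_lit 0x19dc13a2c34485404b561405a8485400ad53051a1484084a00b08420) i2)) (g1 i1) (g1 (Nat.succ i1)) List.nil) fun j => (pk61d (nat_lit 6) 
    (nat_lit 0x2daeaa279a48e17de75b65755449140e34b2481c6103082000) j))))) (nat_lit 0) (nat_lit 32) List.nil)) : Rw)
    = ?xq9003 → (Rw)) ?hq9003; (case hq9003 => (set_option maxRecDepth 1000000 in conv => lhs; reduce)); intro _; exact ?xq9003 : Rw)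

/-- A1~A1 -/
noncomputable def rF4_3 : Rw :=
  (by
  refine (?fq9004 : ((_root_.Cfsg.Agent.N2.Ex.Al.Ck.Rw.mk (nat_lit 83886085) (pk61l (fun i1 => (pk61d (nat_lit 2) 
    (nat_lit 0x8) i1)) (nat_lit 0) (nat_lit 2) List.nil) (pk61l (fun i1 => (_root_.Prod.mk (pk61d (nat_lit 6) 
    (nat_lit 0xbeeb2aa658e27de5d54ce30a2480c1) i1) (_root_.Prod.mk (pk61d (nat_lit 5) 
    (nat_lit 0x4b9bd9c9a8e392e6cfa86c9dc) i1) ((fun g1 : Nat → Nat => pk61l (fun i2 => (pk61d (nat_lit 5) 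
    (nat_lit 0x2f710ef7ba84355d4a55d421a843) i2)) (g1 i1) (g1 (Nat.succ i1)) List.nil) fun j => (pk61d (nat_lit 5) 
    (nat_lit 0x16ad2307b949418c51084200000) j))))) (nat_lit 0) (nat_lit 20) List.nil)) : Rw)
    = ?xq9004 → (Rw)) ?hq9004; (case hq9004 => (set_option maxRecDepth 1000000 in conv => lhs; reduce)); intro _; exact ?xq9004 : Rw)

/-- A1~A1~ -/
noncomputable def rF4_4 : Rw :=
  (by
  refine (?fq9005 : ((_root_.Cfsg.Agent.N2.Ex.Al.Ck.Rw.mk (nat_lit 17196647425) (pk61l (fun i1 => (pk61d (nat_lit 4) 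
    (nat_lit 0xa0) i1)) (nat_lit 0) (nat_lit 2) List.nil) (pk61l (fun i1 => (_root_.Prod.mk (pk61d (nat_lit 6) 
    (nat_lit 0x2fbadb2aa689a57dc69744f38c2460c2) i1) (_root_.Prod.mk (pk61d (nat_lit 5) 
    (nat_lit 0x89ce9354d4ca510854d53a4e68) i1) ((fun g1 : Nat → Nat => pk61l (fun i2 => (pk61d (nat_lit 5) 
    (nat_lit 0x88e23b803160e3760eee500220044e1306c1880170c62) i2)) (g1 i1) (g1 (Nat.succ i1)) List.nil) fun j => (pk61d (nat_lit 6) 
    (nat_lit 0x92385f71961551340e34c2c92460c2000) j))))) (nat_lit 0) (nat_lit 21) List.nil)) : Rw)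
    = ?xq9005 → (Rw)) ?hq9005; (case hq9005 => (set_option maxRecDepth 1000000 in conv => lhs; reduce)); intro _; exact ?xq9005 : Rw)

/-- A1A1 -/
noncomputable def rF4_5 : Rw :=
  (by
  refine (?fq9006 : ((_root_.Cfsg.Agent.N2.Ex.Al.Ck.Rw.mk (nat_lit 4362076420) (pk61l (fun i1 => (pk61d (nat_lit 4) 
    (nat_lit 0x28) i1)) (nat_lit 0) (nat_lit 2) List.nil) (pk61l (fun i1 => (_root_.Prod.mk (pk61d (nat_lit 6) 
    (nat_lit 0x2fbacae99e58a17dd5d440e34b2440c0) i1) (_root_.Prod.mk (pk61d (nat_lit 5) 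
    (nat_lit 0xbaa652aae4993169ac9724cab2) i1) ((fun g1 : Nat → Nat => pk61l (fun i2 => (pk61d (nat_lit 5) 
    (nat_lit 0xd0370b9b40d0290b5a1705a70a42eb85a14852172421) i2)) (g1 i1) (g1 (Nat.succ i1)) List.nil) fun j => (pk61d (nat_lit 6) 
    (nat_lit 0x92281d71a61655345038b247185081000) j))))) (nat_lit 0) (nat_lit 21) List.nil)) : Rw)
    = ?xq9006 → (Rw)) ?hq9006; (case hq9006 => (set_option maxRecDepth 1000000 in conv => lhs; reduce)); intro _; exact ?xq9006 : Rw)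

/-- A2~ -/
noncomputable def rF4_6 : Rw :=
  (by
  refine (?fq9007 : ((_root_.Cfsg.Agent.N2.Ex.Al.Ck.Rw.mk (nat_lit 318767123) (pk61l (fun i1 => i1) (nat_lit 0) (nat_lit 2) List.nil) (pk61l (fun i1 => (_root_.Prod.mk (pk61d (nat_lit 6) 
    (nat_lit 0xbeeb6ca269626d75913c91850c2) i1) (_root_.Prod.mk (pk61d (nat_lit 5) 
    (nat_lit 0x1ade5394e51ad6d394e51bc) i1) ((fun g1 : Nat → Nat => pk61l (fun i2 => (pk61d (nat_lit 5) 
    (nat_lit 0xed7b580112860089430044a0044a1d8770044ab002255863) i2)) (g1 i1) (g1 (Nat.succ i1)) List.nil) fun j => (pk61d (nat_lit 6) 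
    (nat_lit 0x279648e27585103ce307081000000) j))))) (nat_lit 0) (nat_lit 18) List.nil)) : Rw)
    = ?xq9007 → (Rw)) ?hq9007; (case hq9007 => (set_option maxRecDepth 1000000 in conv => lhs; reduce)); intro _; exact ?xq9007 : Rw)

/-- A2 -/
noncomputable def rF4_7 : Rw :=
  (by
  refine (?fq9008 : ((_root_.Cfsg.Agent.N2.Ex.Al.Ck.Rw.mk (nat_lit 1275068492) (pk61l (fun i1 => (pk61d (nat_lit 2) 
    (nat_lit 0xe) i1)) (nat_lit 0) (nat_lit 2) List.nil) (pk61l (fun i1 => (_root_.Prod.mk (pk61d (nat_lit 6) 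
    (nat_lit 0xbecaeaa678e161551334a204040) i1) (_root_.Prod.mk (pk61d (nat_lit 5) 
    (nat_lit 0x2ae757b5ef5d573abdaf7ae) i1) ((fun g1 : Nat → Nat => pk61l (fun i2 => (pk61d (nat_lit 5) 
    (nat_lit 0x4c13a086848023450434251444c021a133982804046808d00) i2)) (g1 i1) (g1 (Nat.succ i1)) List.nil) fun j => (pk61d (nat_lit 6) 
    (nat_lit 0x279a48de69651244c2c92071c4000) j))))) (nat_lit 0) (nat_lit 18) List.nil)) : Rw)
    = ?xq9008 → (Rw)) ?hq9008; (case hq9008 => (set_option maxRecDepth 1000000 in conv => lhs; reduce)); intro _; exact ?xq9008 : Rw)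

/-- A1~A1~A1 -/
def rF4_8 : Rw := (beta% (fun (vq0 : type_of% @_root_.List.nil.{0}) (vq1 : type_of% @_root_.List.cons.{0}) (vq2 : type_of% @_root_.Prod.mk.{0, 0}) => (
    ⟨17263756293, (vq1 0 (vq1 2 (vq1 10 vq0))), (vq1 (vq2 3 (vq2 31 vq0)) (vq1 (vq2 9 (vq2 25 (vq1 3 (vq1 2 vq0)))) (vq1 (vq2 12 (vq2 31 (vq1 8 vq0))) (vq1 (vq2 14 (vq2 24 vq0)) (vq1 (vq2 23 (vq2 15 vq0)) (vq1 (vq2 31 (vq2 28 (vq1 10 vq0))) (vq1 (vq2 37 (vq2 18 (vq1 10 vq0))) (vq1 (vq2 41 (vq2 24 (vq1 23 vq0))) (vq1 (vq2 42 (vq2 31 (vq1 23 (vq1 8 vq0)))) (vq1 (vq2 44 (vq2 25 (vq1 23 (vq1 3 (vq1 2 vq0))))) (vq1 (vq2 46 (vq2 31 (vq1 23 vq0))) (vq1 (vq2 47 (vq2 15 (vq1 23 vq0))) vq0))))))))))))⟩ :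
    Cfsg.Agent.N2.Ex.Al.Ck.Rw))
    (@_root_.List.nil.{0}) (@_root_.List.cons.{0}) (@_root_.Prod.mk.{0, 0}))

/-- A1~A1A1 -/
def rF4_9 : Rw := (beta% (fun (vq0 : type_of% @_root_.List.nil.{0}) (vq1 : type_of% @_root_.List.cons.{0}) (vq2 : type_of% @_root_.Prod.mk.{0, 0}) => (
    ⟨140737580630021, (vq1 0 (vq1 2 (vq1 23 vq0))), (vq1 (vq2 1 (vq2 30 vq0)) (vq1 (vq2 8 (vq2 23 vq0)) (vq1 (vq2 10 (vq2 15 vq0)) (vq1 (vq2 30 (vq2 26 (vq1 3 (vq1 2 vq0)))) (vq1 (vq2 31 (vq2 30 (vq1 10 vq0))) (vq1 (vq2 34 (vq2 15 (vq1 10 vq0))) (vq1 (vq2 35 (vq2 30 (vq1 14 vq0))) (vq1 (vq2 37 (vq2 23 (vq1 10 vq0))) (vq1 (vq2 41 (vq2 19 (vq1 23 vq0))) (vq1 (vq2 42 (vq2 29 (vq1 23 vq0))) (vq1 (vq2 44 (vq2 30 (vq1 10 (vq1 14 vq0)))) (vq1 (vq2 46 (vq2 26 (vq1 10 (vq1 3 (vq1 2 vq0))))) vq0))))))))))))⟩ :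
    Cfsg.Agent.N2.Ex.Al.Ck.Rw))
    (@_root_.List.nil.{0}) (@_root_.List.cons.{0}) (@_root_.Prod.mk.{0, 0}))

/-- A1~A1~A1~ -/
noncomputable def rF4_10 : Rw :=
  (by
  refine (?fq9009 : ((_root_.Cfsg.Agent.N2.Ex.Al.Ck.Rw.mk (nat_lit 292074570753) (pk61l (fun i1 => (pk61d (nat_lit 4) 
    (nat_lit 0xea0) i1)) (nat_lit 0) (nat_lit 3) List.nil) (pk61l (fun i1 => (_root_.Prod.mk (pk61d (nat_lit 6) 
    (nat_lit 0x2fbadb2aa6895c44f182) i1) (_root_.Prod.mk (pk61d (nat_lit 6) 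
    (nat_lit 0x186138184134e0418618) i1) ((fun g1 : Nat → Nat => pk61l (fun i2 => (pk61d (nat_lit 5) 
    (nat_lit 0x22388ee00c5838c583bb2c00b063) i2)) (g1 i1) (g1 (Nat.succ i1)) List.nil) fun j => (pk61d (nat_lit 5) 
    (nat_lit 0x2d59c5cb51ca318400) j))))) (nat_lit 0) (nat_lit 13) List.nil)) : Rw)
    = ?xq9009 → (Rw)) ?hq9009; (case hq9009 => (set_option maxRecDepth 1000000 in conv => lhs; reduce)); intro _; exact ?xq9009 : Rw)

/-- A1A1A1 -/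
noncomputable def rF4_11 : Rw :=
  (by
  refine (?fq9010 : ((_root_.Cfsg.Agent.N2.Ex.Al.Ck.Rw.mk (nat_lit 141801038084) (pk61l (fun i1 => (pk61d (nat_lit 4) 
    (nat_lit 0xd82) i1)) (nat_lit 0) (nat_lit 3) List.nil) (pk61l (fun i1 => (_root_.Prod.mk (pk61d (nat_lit 6) 
    (nat_lit 0x2fbacae989f75738b243) i1) (_root_.Prod.mk (pk61d (nat_lit 6) 
    (nat_lit 0x118575d74924915d75e1) i1) ((fun g1 : Nat → Nat => pk61l (fun i2 => (pk61d (nat_lit 5) 
    (nat_lit 0x17bad374dc29bb42d081014a569) i2)) (g1 i1) (g1 (Nat.succ i1)) List.nil) fun j => (pk61d (nat_lit 5) 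
    (nat_lit 0x2b49c1cb520a518800) j))))) (nat_lit 0) (nat_lit 13) List.nil)) : Rw)
    = ?xq9010 → (Rw)) ?hq9010; (case hq9010 => (set_option maxRecDepth 1000000 in conv => lhs; reduce)); intro _; exact ?xq9010 : Rw)

/-- B2 -/
noncomputable def rF4_12 : Rw :=
  (by
  refine (?fq9011 : ((_root_.Cfsg.Agent.N2.Ex.Al.Ck.Rw.mk (nat_lit 158930576641) (pk61l (fun i1 => (pk61d (nat_lit 4) 
    (nat_lit 0x80) i1)) (nat_lit 0) (nat_lit 2) List.nil) (pk61l (fun i1 => (_root_.Prod.mk (pk61d (nat_lit 6) 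
    (nat_lit 0xbeeb6ca667dc69744e2460c2) i1) (_root_.Prod.mk (pk61d (nat_lit 5) 
    (nat_lit 0x977bc9cf9c94a73e77b2) i1) ((fun g1 : Nat → Nat => pk61l (fun i2 => (pk61d (nat_lit 5) 
    (nat_lit 0x88e23b803161aec3380110022730c26180170c62) i2)) (g1 i1) (g1 (Nat.succ i1)) List.nil) fun j => (pk61d (nat_lit 6) 
    (nat_lit 0x207dd6d85523cd30b2060c2000) j))))) (nat_lit 0) (nat_lit 16) List.nil)) : Rw)
    = ?xq9011 → (Rw)) ?hq9011; (case hq9011 => (set_option maxRecDepth 1000000 in conv => lhs; reduce)); intro _; exact ?xq9011 : Rw)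

/-- A2~A1 -/
noncomputable def rF4_13 : Rw :=
  (by
  refine (?fq9012 : ((_root_.Cfsg.Agent.N2.Ex.Al.Ck.Rw.mk (nat_lit 452984859) (pk61l (fun i1 => (pk61d (nat_lit 2) 
    (nat_lit 0x34) i1)) (nat_lit 0) (nat_lit 3) List.nil) (pk61l (fun i1 => (_root_.Prod.mk (pk61d (nat_lit 6) 
    (nat_lit 0xbedb2899644f142) i1) (_root_.Prod.mk (pk61d (nat_lit 6) 
    (nat_lit 0x59e66489665e8a4) i1) ((fun g1 : Nat → Nat => pk61l (fun i2 => (pk61d (nat_lit 5) 
    (nat_lit 0x76b002250ec008943b012eb0022558c3) i2)) (g1 i1) (g1 (Nat.succ i1)) List.nil) fun j => (pk61d (nat_lit 5) 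
    (nat_lit 0x6b178ace738800) j))))) (nat_lit 0) (nat_lit 10) List.nil)) : Rw)
    = ?xq9012 → (Rw)) ?hq9012; (case hq9012 => (set_option maxRecDepth 1000000 in conv => lhs; reduce)); intro _; exact ?xq9012 : Rw)

/-- A2A1~ -/
noncomputable def rF4_14 : Rw :=
  (by
  refine (?fq9013 : ((_root_.Cfsg.Agent.N2.Ex.Al.Ck.Rw.mk (nat_lit 1291845709) (pk61l (fun i1 => (pk61d (nat_lit 2) 
    (nat_lit 0x38) i1)) (nat_lit 0) (nat_lit 3) List.nil) (pk61l (fun i1 => (_root_.Prod.mk (pk61d (nat_lit 6) 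
    (nat_lit 0xbecaa98d54ca201) i1) (_root_.Prod.mk (pk61d (nat_lit 6) 
    (nat_lit 0x6968df91a59f8e4) i1) ((fun g1 : Nat → Nat => pk61l (fun i2 => (pk61d (nat_lit 5) 
    (nat_lit 0x10d57a886ab886ab886ab886a) i2)) (g1 i1) (g1 (Nat.succ i1)) List.nil) fun j => (pk61d (nat_lit 5) 
    (nat_lit 0x520f59c6300000) j))))) (nat_lit 0) (nat_lit 10) List.nil)) : Rw)
    = ?xq9013 → (Rw)) ?hq9013; (case hq9013 => (set_option maxRecDepth 1000000 in conv => lhs; reduce)); intro _; exact ?xq9013 : Rw)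

/-- A1~A1~A1A1 -/
def rF4_15 : Rw := (beta% (fun (vq0 : type_of% @_root_.List.nil.{0}) (vq1 : type_of% @_root_.List.cons.{0}) (vq2 : type_of% @_root_.Prod.mk.{0, 0}) => (
    ⟨140754760500229, (vq1 0 (vq1 2 (vq1 10 (vq1 23 vq0)))), (vq1 (vq2 31 (vq2 30 (vq1 10 vq0))) (vq1 (vq2 37 (vq2 23 (vq1 10 vq0))) (vq1 (vq2 41 (vq2 24 (vq1 23 vq0))) (vq1 (vq2 42 (vq2 31 (vq1 23 (vq1 8 vq0)))) (vq1 (vq2 44 (vq2 25 (vq1 23 (vq1 3 (vq1 2 vq0))))) (vq1 (vq2 46 (vq2 31 (vq1 23 vq0))) vq0))))))⟩ :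
    Cfsg.Agent.N2.Ex.Al.Ck.Rw))
    (@_root_.List.nil.{0}) (@_root_.List.cons.{0}) (@_root_.Prod.mk.{0, 0}))

/-- A1~A1~A1~A1~ -/
def rF4_16 : Rw := (beta% (fun (vq0 : type_of% @_root_.List.nil.{0}) (vq1 : type_of% @_root_.List.cons.{0}) (vq2 : type_of% @_root_.Prod.mk.{0, 0}) => (
    ⟨2491097957377, (vq1 0 (vq1 10 (vq1 14 (vq1 17 vq0)))), (vq1 (vq2 37 (vq2 24 (vq1 10 (vq1 6 (vq1 12 vq0))))) (vq1 (vq2 40 (vq2 24 (vq1 14 (vq1 2 (vq1 3 (vq1 12 vq0)))))) (vq1 (vq2 42 (vq2 24 (vq1 17 (vq1 3 (vq1 12 vq0))))) (vq1 (vq2 44 (vq2 32 (vq1 17 (vq1 1 (vq1 0 vq0))))) (vq1 (vq2 45 (vq2 24 (vq1 14 (vq1 2 (vq1 3 vq0))))) (vq1 (vq2 46 (vq2 24 (vq1 17 (vq1 3 vq0)))) (vq1 (vq2 47 (vq2 24 (vq1 17 vq0))) vq0)))))))⟩ :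
    Cfsg.Agent.N2.Ex.Al.Ck.Rw))
    (@_root_.List.nil.{0}) (@_root_.List.cons.{0}) (@_root_.Prod.mk.{0, 0}))

/-- A1A1A1A1 -/
def rF4_17 : Rw := (beta% (fun (vq0 : type_of% @_root_.List.nil.{0}) (vq1 : type_of% @_root_.List.cons.{0}) (vq2 : type_of% @_root_.Prod.mk.{0, 0}) => (
    ⟨140879297782020, (vq1 2 (vq1 8 (vq1 13 (vq1 23 vq0)))), (vq1 (vq2 29 (vq2 23 (vq1 8 (vq1 0 (vq1 1 vq0))))) (vq1 (vq2 31 (vq2 23 (vq1 13 (vq1 1 vq0)))) (vq1 (vq2 34 (vq2 23 (vq1 13 vq0))) (vq1 (vq2 41 (vq2 23 (vq1 23 (vq1 9 (vq1 1 vq0))))) (vq1 (vq2 43 (vq2 23 (vq1 23 (vq1 9 vq0)))) (vq1 (vq2 44 (vq2 23 (vq1 23 (vq1 9 (vq1 11 vq0))))) (vq1 (vq2 46 (vq2 33 (vq1 23 vq0))) vq0)))))))⟩ :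
    Cfsg.Agent.N2.Ex.Al.Ck.Rw))
    (@_root_.List.nil.{0}) (@_root_.List.cons.{0}) (@_root_.Prod.mk.{0, 0}))

/-- B2A1 -/
def rF4_18 : Rw := (beta% (fun (vq0 : type_of% @_root_.List.nil.{0}) (vq1 : type_of% @_root_.List.cons.{0}) (vq2 : type_of% @_root_.Prod.mk.{0, 0}) => (
    ⟨158997685509, (vq1 0 (vq1 2 (vq1 8 vq0))), (vq1 (vq2 3 (vq2 35 vq0)) (vq1 (vq2 9 (vq2 30 (vq1 14 (vq1 1 (vq1 0 vq0))))) (vq1 (vq2 14 (vq2 27 vq0)) (vq1 (vq2 23 (vq2 23 vq0)) (vq1 (vq2 31 (vq2 28 (vq1 10 vq0))) (vq1 (vq2 41 (vq2 27 (vq1 23 vq0))) (vq1 (vq2 44 (vq2 30 (vq1 23 (vq1 14 (vq1 1 (vq1 0 vq0)))))) (vq1 (vq2 46 (vq2 35 (vq1 23 vq0))) (vq1 (vq2 47 (vq2 23 (vq1 23 vq0))) vq0)))))))))⟩ :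
    Cfsg.Agent.N2.Ex.Al.Ck.Rw))
    (@_root_.List.nil.{0}) (@_root_.List.cons.{0}) (@_root_.Prod.mk.{0, 0}))

/-- B2A1~ -/
def rF4_19 : Rw := (beta% (fun (vq0 : type_of% @_root_.List.nil.{0}) (vq1 : type_of% @_root_.List.cons.{0}) (vq2 : type_of% @_root_.Prod.mk.{0, 0}) => (
    ⟨143211481939973, (vq1 0 (vq1 2 (vq1 14 vq0))), (vq1 (vq2 8 (vq2 27 vq0)) (vq1 (vq2 10 (vq2 24 vq0)) (vq1 (vq2 30 (vq2 31 (vq1 3 (vq1 2 vq0)))) (vq1 (vq2 34 (vq2 24 (vq1 10 vq0))) (vq1 (vq2 35 (vq2 34 (vq1 9 (vq1 0 vq0)))) (vq1 (vq2 37 (vq2 27 (vq1 10 vq0))) (vq1 (vq2 42 (vq2 29 (vq1 23 vq0))) (vq1 (vq2 44 (vq2 34 (vq1 10 (vq1 9 (vq1 0 vq0))))) (vq1 (vq2 46 (vq2 31 (vq1 10 (vq1 3 (vq1 2 vq0))))) vq0)))))))))⟩ :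
    Cfsg.Agent.N2.Ex.Al.Ck.Rw))
    (@_root_.List.nil.{0}) (@_root_.List.cons.{0}) (@_root_.Prod.mk.{0, 0}))

/-- A3~ -/
noncomputable def rF4_20 : Rw :=
  (by
  refine (?fq9014 : ((_root_.Cfsg.Agent.N2.Ex.Al.Ck.Rw.mk (nat_lit 20182992051) (pk61l (fun i1 => (pk61d (nat_lit 3) 
    (nat_lit 0x148) i1)) (nat_lit 0) (nat_lit 3) List.nil) (pk61l (fun i1 => (_root_.Prod.mk (pk61d (nat_lit 6) 
    (nat_lit 0x2fbadb255c9183) i1) (_root_.Prod.mk (pk61d (nat_lit 6) 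
    (nat_lit 0x198a281c6608a2) i1) ((fun g1 : Nat → Nat => pk61l (fun i2 => (pk61d (nat_lit 5) 
    (nat_lit 0x44a1dcc3b8ef70044a0044a18cc3) i2)) (g1 i1) (g1 (Nat.succ i1)) List.nil) fun j => (pk61d (nat_lit 5) 
    (nat_lit 0x3127b58818c40) j))))) (nat_lit 0) (nat_lit 9) List.nil)) : Rw)
    = ?xq9014 → (Rw)) ?hq9014; (case hq9014 => (set_option maxRecDepth 1000000 in conv => lhs; reduce)); intro _; exact ?xq9014 : Rw)

/-- A3 -/
def rF4_21 : Rw := (beta% (fun (vq0 : type_of% @_root_.List.nil.{0}) (vq1 : type_of% @_root_.List.cons.{0}) (vq2 : type_of% @_root_.Prod.mk.{0, 0}) => (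
    ⟨624045363532, (vq1 2 (vq1 3 (vq1 8 vq0))), (vq1 (vq2 0 (vq2 35 vq0)) (vq1 (vq2 4 (vq2 35 (vq1 1 vq0))) (vq1 (vq2 13 (vq2 33 vq0)) (vq1 (vq2 20 (vq2 26 (vq1 0 (vq1 9 (vq1 8 (vq1 3 (vq1 2 vq0))))))) (vq1 (vq2 33 (vq2 29 (vq1 19 (vq1 8 vq0)))) (vq1 (vq2 41 (vq2 35 (vq1 20 (vq1 1 vq0)))) (vq1 (vq2 43 (vq2 35 (vq1 20 vq0))) (vq1 (vq2 44 (vq2 26 (vq1 20 (vq1 0 (vq1 9 (vq1 8 (vq1 3 (vq1 2 vq0)))))))) (vq1 (vq2 47 (vq2 33 (vq1 20 vq0))) vq0)))))))))⟩ :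
    Cfsg.Agent.N2.Ex.Al.Ck.Rw))
    (@_root_.List.nil.{0}) (@_root_.List.cons.{0}) (@_root_.Prod.mk.{0, 0}))

/-- A2~A2 -/
def rF4_22 : Rw := (beta% (fun (vq0 : type_of% @_root_.List.nil.{0}) (vq1 : type_of% @_root_.List.cons.{0}) (vq2 : type_of% @_root_.Prod.mk.{0, 0}) => (
    ⟨211106698100763, (vq1 0 (vq1 1 (vq1 3 (vq1 22 vq0)))), (vq1 (vq2 38 (vq2 34 (vq1 22 (vq1 14 (vq1 9 (vq1 0 vq0)))))) (vq1 (vq2 40 (vq2 36 (vq1 22 (vq1 3 (vq1 10 (vq1 2 (vq1 1 (vq1 0 vq0)))))))) (vq1 (vq2 44 (vq2 25 (vq1 22 (vq1 3 (vq1 10 (vq1 2 (vq1 1 (vq1 0 vq0)))))))) (vq1 (vq2 45 (vq2 30 (vq1 22 vq0))) vq0))))⟩ :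
    Cfsg.Agent.N2.Ex.Al.Ck.Rw))
    (@_root_.List.nil.{0}) (@_root_.List.cons.{0}) (@_root_.Prod.mk.{0, 0}))

/-- B2A1A1 -/
def rF4_23 : Rw := ⟨140896494429445, [0, 2, 8, 23], [(31, 30, [10]), (41, 27, [23]), (44, 30, [23, 14, 1, 0]), (46, 35, [23])]⟩

/-- B2A1~A1~ -/
def rF4_24 : Rw := ⟨143228661810181, [0, 2, 10, 14], [(37, 27, [10]), (42, 31, [23, 8]), (44, 25, [23, 3, 2]), (46, 31, [23])]⟩

/-- A3~A1 -/
def rF4_25 : Rw := (beta% (fun (vq0 : type_of% @_root_.List.nil.{0}) (vq1 : type_of% @_root_.List.cons.{0}) (vq2 : type_of% @_root_.Prod.mk.{0, 0}) => (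
    ⟨28587757010971, (vq1 0 (vq1 1 (vq1 3 (vq1 17 vq0)))), (vq1 (vq2 38 (vq2 34 (vq1 22 (vq1 14 (vq1 9 (vq1 0 vq0)))))) (vq1 (vq2 40 (vq2 36 (vq1 22 (vq1 3 (vq1 10 (vq1 2 (vq1 1 (vq1 0 vq0)))))))) (vq1 (vq2 45 (vq2 30 (vq1 22 vq0))) (vq1 (vq2 47 (vq2 34 (vq1 23 (vq1 14 (vq1 9 (vq1 0 vq0)))))) vq0))))⟩ :
    Cfsg.Agent.N2.Ex.Al.Ck.Rw))
    (@_root_.List.nil.{0}) (@_root_.List.cons.{0}) (@_root_.Prod.mk.{0, 0}))

/-- A3A1~ -/
def rF4_26 : Rw := (beta% (fun (vq0 : type_of% @_root_.List.nil.{0}) (vq1 : type_of% @_root_.List.cons.{0}) (vq2 : type_of% @_root_.Prod.mk.{0, 0}) => (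
    ⟨246291911147597, (vq1 0 (vq1 2 (vq1 3 (vq1 21 vq0)))), (vq1 (vq2 35 (vq2 36 (vq1 23 (vq1 10 (vq1 3 (vq1 2 vq0)))))) (vq1 (vq2 41 (vq2 31 (vq1 23 (vq1 10 (vq1 3 (vq1 2 vq0)))))) (vq1 (vq2 42 (vq2 35 (vq1 23 (vq1 10 (vq1 3 (vq1 2 vq0)))))) (vq1 (vq2 44 (vq2 36 (vq1 23 (vq1 3 (vq1 2 vq0))))) vq0))))⟩ :
    Cfsg.Agent.N2.Ex.Al.Ck.Rw))
    (@_root_.List.nil.{0}) (@_root_.List.cons.{0}) (@_root_.Prod.mk.{0, 0}))

/-- B2B2 -/
def rF4_27 : Rw := ⟨143370395739397, [0, 2, 8, 14], [(44, 30, [23, 14, 1, 0]), (46, 35, [23])]⟩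

/-- C3 -/
def rF4_28 : Rw := ⟨161984030135, [0, 1, 2], [(3, 36, []), (9, 34, []), (23, 30, []), (44, 34, [23]), (46, 36, [23]), (47, 30, [23])]⟩

/-- B3 -/
def rF4_29 : Rw := (beta% (fun (vq0 : type_of% @_root_.List.nil.{0}) (vq1 : type_of% @_root_.List.cons.{0}) (vq2 : type_of% @_root_.Prod.mk.{0, 0}) => (
    ⟨149327515734021, (vq1 0 (vq1 2 (vq1 12 vq0))), (vq1 (vq2 10 (vq2 31 (vq1 8 vq0))) (vq1 (vq2 30 (vq2 35 (vq1 3 (vq1 2 vq0)))) (vq1 (vq2 34 (vq2 31 (vq1 10 (vq1 8 vq0)))) (vq1 (vq2 35 (vq2 36 (vq1 3 (vq1 2 (vq1 1 (vq1 0 vq0)))))) (vq1 (vq2 44 (vq2 36 (vq1 10 (vq1 3 (vq1 2 (vq1 1 (vq1 0 vq0))))))) (vq1 (vq2 46 (vq2 35 (vq1 10 (vq1 3 (vq1 2 vq0))))) vq0))))))⟩ :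
    Cfsg.Agent.N2.Ex.Al.Ck.Rw))
    (@_root_.List.nil.{0}) (@_root_.List.cons.{0}) (@_root_.Prod.mk.{0, 0}))

/-- C3A1 -/
def rF4_30 : Rw := ⟨140899480774071, [0, 1, 2, 23], [(44, 34, [23]), (46, 36, [23])]⟩

/-- B3A1~ -/
def rF4_31 : Rw := ⟨248782992327757, [0, 2, 3, 10], [(42, 35, [23, 10, 3, 2]), (44, 34, [17, 6, 2, 9, 0])]⟩

/-- D4~ -/
def rF4_32 : Rw := ⟨28925314617011, [0, 1, 5, 9], [(45, 34, [23, 3]), (46, 34, [23, 3, 6]), (47, 34, [22, 6])]⟩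

/-- D4 -/
def rF4_33 : Rw := ⟨252549662093644, [2, 3, 8, 13], [(41, 35, [20, 1]), (43, 35, [20]), (44, 35, [19, 0])]⟩

/-- C4 -/
def rF4_34 : Rw := ⟨169804612399031, [0, 1, 2, 9], [(46, 36, [23])]⟩

/-- B4 -/
def rF4_35 : Rw := ⟨255040760051021, [0, 2, 3, 8], [(44, 36, [17, 1, 0])]⟩

/-- F4 -/
def rF4_36 : Rw := ⟨281474976710655, [0, 1, 2, 3], []⟩

/-- the rows -/
noncomputable def rwF4 : List Rw := (beta% (fun (vq0 : List Cfsg.Agent.N2.Ex.Al.Ck.Rw) (vq1 : type_of% @_root_.List.nil.{0}) (vq2 : type_of% @_root_.List.cons.{0}) => (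
    (let vqy1 : type_of% vq0 := (let vqy2 : type_of% vq0 := (let vqy3 : type_of% vq0 := (vq2 rF4_32 (vq2 rF4_33 (vq2 rF4_34 (vq2 rF4_35 (vq2 rF4_36 vq1)))));
    (vq2 rF4_27 (vq2 rF4_28 (vq2 rF4_29 (vq2 rF4_30 (vq2 rF4_31 vqy3))))));
    (let vqy4 : type_of% vqy2 := (vq2 rF4_22 (vq2 rF4_23 (vq2 rF4_24 (vq2 rF4_25 (vq2 rF4_26 vqy2)))));
    (vq2 rF4_18 (vq2 rF4_19 (vq2 rF4_20 (vq2 rF4_21 vqy4))))));
    (let vqy5 : type_of% vqy1 := (let vqy6 : type_of% vqy1 := (vq2 rF4_13 (vq2 rF4_14 (vq2 rF4_15 (vq2 rF4_16 (vq2 rF4_17 vqy1)))));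
    (vq2 rF4_9 (vq2 rF4_10 (vq2 rF4_11 (vq2 rF4_12 vqy6)))));
    (let vqy7 : type_of% vqy5 := (vq2 rF4_4 (vq2 rF4_5 (vq2 rF4_6 (vq2 rF4_7 (vq2 rF4_8 vqy5)))));
    (vq2 rF4_0 (vq2 rF4_1 (vq2 rF4_2 (vq2 rF4_3 vqy7))))))) :
    List Cfsg.Agent.N2.Ex.Al.Ck.Rw))
    _ (@_root_.List.nil.{0}) (@_root_.List.cons.{0}))

/-- the larger invariant sets -/
noncomputable def kiF4 : List Ki :=
  (by
  refine (?fq9015 : ((pk61l (fun i1 => (_root_.Cfsg.Agent.N2.Ex.Al.Ck.Ki.mk (pk61d (nat_lit 48) 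
    (nat_lit 0xe2444de2444d00000000000087d00587d0050025b70025b7000000000000e0004de0004d00000800000882440582440580250580250500000000000000914c00914c0004b30004b382400582400500250500250580210480210402440102440180040580040500004d00004d00001b00001b00250100250100210400210400440100440180000580000500040500040500004c00004c000013000013000104000104000401000401000005000005000004000004000001000001000000000000) i1) (pk61d (nat_lit 10) 
    (nat_lit 0x3e703000) (pk61d (nat_lit 2) 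
    (nat_lit 0x8a268aaaaaaaaaa8) i1)) (pk61d (nat_lit 5) 
    (nat_lit 0x40112010441008c41004218c8110843180220840) i1) (pk61d (nat_lit 2) 
    (nat_lit 0x8a2a8aaabeaafaa8) i1) ((fun g1 : Nat → Nat => pk61l (fun i2 => (pk61d (nat_lit 1) 
    (nat_lit 0x2282422182a122242822224122a2) i2)) (g1 i1) (g1 (Nat.succ i1)) List.nil) fun j => (pk61d (nat_lit 7) 
    (nat_lit 0x3870e1c3870d9b3464c982e58a95284c911203c70d182c509101c305080c1010000) j)) (pk61d (nat_lit 5) 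
    (nat_lit 0x40077021e3180374246244ec20090e00c2350040) i1))) (nat_lit 0) (nat_lit 37) List.nil) : List Ki)
    = ?xq9015 → (List Ki)) ?hq9015; (case hq9015 => (set_option maxRecDepth 1000000 in set_option simprocs false in conv => lhs; reduce; dsimp only)); intro _; exact ?xq9015 : List Ki)

/-- sums of roots -/
def spF4 : List (ℕ × ℕ) := [(5, 25), (9, 29)]

/-- the surviving masks -/
def smF4 : List ℕ := [0, 211106698100763, 143370395739397, 140899480774071, 252549662093644, 255040760051021]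

private noncomputable def _root_.Cfsg.Agent.KOa46981a.k0 : (by first | exact type_of% @Cfsg.Agent.N2.Ex.Al.Ck.aL | exact Unit : Sort _) := by first | (refine @Subtype.val _ (fun g => @Cfsg.Agent.N2.Ex.Al.Ck.aL = @g) (@Subtype.mk _ _ (@(fun x0 x1 => @Nat.rec.{1} @(fun x2 => @Bool) @Bool.true @(fun x2 x3 => @Bool.rec.{1} @(fun x4 => @Bool) @Bool.false @x3 (@x0 @x2)) @x1)) ?_); rfl') | exact @Cfsg.Agent.N2.Ex.Al.Ck.aL | exact ()
private theorem _root_.Cfsg.Agent.KOa46981a.e0 : (by first | exact @Cfsg.Agent.N2.Ex.Al.Ck.aL = @_root_.Cfsg.Agent.KOa46981a.k0 | exact True : Prop) := by first | (delta _root_.Cfsg.Agent.KOa46981a.k0; exact @Subtype.property _ (fun g => @Cfsg.Agent.N2.Ex.Al.Ck.aL = @g) _) | rfl | trivial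
private noncomputable def _root_.Cfsg.Agent.KOa46981a.k1 : (by first | exact type_of% @Cfsg.Agent.N2.Ex.Al.Ck.Tb.f | exact Unit : Sort _) := by first | (refine @Subtype.val _ (fun g => @Cfsg.Agent.N2.Ex.Al.Ck.Tb.f = @g) (@Subtype.mk _ _ (@(fun x0 x1 x2 => @Nat.mod (@Nat.shiftRight (@Cfsg.Agent.N2.Ex.Al.Ck.Tb.F @x0) (@Nat.mul (nat_lit 8) (@Nat.add (@Nat.mul (@Cfsg.Agent.N2.Ex.Al.Ck.Tb.n @x0) @x1) @x2))) (nat_lit 256))) ?_); rfl') | exact @Cfsg.Agent.N2.Ex.Al.Ck.Tb.f | exact ()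
private theorem _root_.Cfsg.Agent.KOa46981a.e1 : (by first | exact @Cfsg.Agent.N2.Ex.Al.Ck.Tb.f = @_root_.Cfsg.Agent.KOa46981a.k1 | exact True : Prop) := by first | (delta _root_.Cfsg.Agent.KOa46981a.k1; exact @Subtype.property _ (fun g => @Cfsg.Agent.N2.Ex.Al.Ck.Tb.f = @g) _) | rfl | trivial
private noncomputable def _root_.Cfsg.Agent.KOa46981a.k2 : (by first | exact type_of% @Cfsg.Agent.N2.Ex.Al.Ck.Tb.key | exact Unit : Sort _) := by first | (refine @Subtype.val _ (fun g => @Cfsg.Agent.N2.Ex.Al.Ck.Tb.key = @g) (@Subtype.mk _ _ (@(fun x0 x1 => @Bool.rec.{1} @(fun x2 => ℕ) (@Nat.sub (@Cfsg.Agent.N2.Ex.Al.Ck.Tb.n @x0) @x1) (@Nat.add (@Cfsg.Agent.N2.Ex.Al.Ck.Tb.n @x0) @x1) (@Nat.ble (@Nat.succ (@Nat.mul (nat_lit 2) @x1)) (@Cfsg.Agent.N2.Ex.Al.Ck.Tb.n @x0)))) ?_); rfl') | exact @Cfsg.Agent.N2.Ex.Al.Ck.Tb.key | exact ()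
private theorem _root_.Cfsg.Agent.KOa46981a.e2 : (by first | exact @Cfsg.Agent.N2.Ex.Al.Ck.Tb.key = @_root_.Cfsg.Agent.KOa46981a.k2 | exact True : Prop) := by first | (delta _root_.Cfsg.Agent.KOa46981a.k2; exact @Subtype.property _ (fun g => @Cfsg.Agent.N2.Ex.Al.Ck.Tb.key = @g) _) | rfl | trivial
private noncomputable def _root_.Cfsg.Agent.KOa46981a.k3 : (by first | exact type_of% @Cfsg.Agent.N2.Ex.Al.Ck.xmK | exact Unit : Sort _) := by first | (refine @Subtype.val _ (fun g => @Cfsg.Agent.N2.Ex.Al.Ck.xmK = @g) (@Subtype.mk _ _ (@(fun x0 => @List.rec.{1, 0} (ℕ × (ℕ × (@List.{0} ℕ))) @(fun x1 => ℕ) (nat_lit 0) @(fun x1 x2 x3 => @Nat.lor (@Nat.shiftLeft (nat_lit 1) (@Prod.fst.{0, 0} _ _ @x1)) @x3) @x0)) ?_); rfl') | exact @Cfsg.Agent.N2.Ex.Al.Ck.xmK | exact ()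
private theorem _root_.Cfsg.Agent.KOa46981a.e3 : (by first | exact @Cfsg.Agent.N2.Ex.Al.Ck.xmK = @_root_.Cfsg.Agent.KOa46981a.k3 | exact True : Prop) := by first | (delta _root_.Cfsg.Agent.KOa46981a.k3; exact @Subtype.property _ (fun g => @Cfsg.Agent.N2.Ex.Al.Ck.xmK = @g) _) | rfl | trivial
private theorem _root_.Cfsg.Agent.KOa46981a.e4.{ku, kv} {α : Type kv} {M : List α → Sort ku} (φ : ∀ l, M l) {z : M List.nil} {s : ∀ a l, M l → M (List.cons a l)} (h0 : φ List.nil = z) (hs : ∀ a l, φ (List.cons a l) = s a l (φ l)) (l : List α) : φ l = @List.rec α M z s l := List.rec h0 (fun a l ih => (hs a l).trans (congrArg (s a l) ih)) l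
private noncomputable def _root_.Cfsg.Agent.KOa46981a.k6.{ku0} : type_of% @List.get?Internal.{ku0} := @(fun x0 x1 x2 => @List.rec.{(ku0+1), ku0} @x0 @(fun x3 => ℕ → @Option.{ku0} @x0) @(fun x3 => @Option.none.{ku0} _) @(fun x3 x4 x5 x6 => @Nat.rec.{(ku0+1)} @(fun x7 => @Option.{ku0} @x0) (@Option.some.{ku0} _ @x3) @(fun x7 x8 => @x5 @x7) @x6) @x1 @x2)
private theorem _root_.Cfsg.Agent.KOa46981a.e6.{ku0} : @List.get?Internal.{ku0} = @_root_.Cfsg.Agent.KOa46981a.k6.{ku0} := by delta _root_.Cfsg.Agent.KOa46981a.k6; funext a0 a1 a2; refine (congrFun (_root_.Cfsg.Agent.KOa46981a.e4 (fun a1 a2 => @List.get?Internal.{ku0} a0 a1 a2) ?_ (fun c0 c1 => ?_) a1) a2 :) <;> [(funext b0; (rfl')); (funext b0; (cases b0 with | @zero  => (rfl') | @succ b0_0 => (rfl')))]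
private noncomputable def _root_.Cfsg.Agent.KOa46981a.k7 : (by first | exact type_of% @Cfsg.Agent.N2.Ex.Al.Ck.rw0 | exact Unit : Sort _) := by first | (refine @Subtype.val _ (fun g => @Cfsg.Agent.N2.Ex.Al.Ck.rw0 = @g) (@Subtype.mk _ _ (@(fun x0 x1 => @Option.rec.{1, 0} @Cfsg.Agent.N2.Ex.Al.Ck.Rw @(fun x2 => @Cfsg.Agent.N2.Ex.Al.Ck.Rw) (@Cfsg.Agent.N2.Ex.Al.Ck.Rw.mk (nat_lit 0) [] []) @(fun x2 => @x2) (@Cfsg.Agent.KOa46981a.k6.{0} _ @x0 @x1))) ?_); rewrite [← Cfsg.Agent.KOa46981a.e6.{0}]; rfl') | exact @Cfsg.Agent.N2.Ex.Al.Ck.rw0 | exact ()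
private theorem _root_.Cfsg.Agent.KOa46981a.e7 : (by first | exact @Cfsg.Agent.N2.Ex.Al.Ck.rw0 = @_root_.Cfsg.Agent.KOa46981a.k7 | exact True : Prop) := by first | (delta _root_.Cfsg.Agent.KOa46981a.k7; exact @Subtype.property _ (fun g => @Cfsg.Agent.N2.Ex.Al.Ck.rw0 = @g) _) | rfl | trivial
private noncomputable def _root_.Cfsg.Agent.KOa46981a.k8.{ku0} : type_of% @List.length.{ku0} := @(fun x0 x1 => @List.rec.{1, ku0} @x0 @(fun x2 => ℕ) (nat_lit 0) @(fun x2 x3 x4 => @Nat.add @x4 (nat_lit 1)) @x1)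
private theorem _root_.Cfsg.Agent.KOa46981a.e8.{ku0} : @List.length.{ku0} = @_root_.Cfsg.Agent.KOa46981a.k8.{ku0} := by delta _root_.Cfsg.Agent.KOa46981a.k8; funext a0 a1; refine (_root_.Cfsg.Agent.KOa46981a.e4 (fun a1 => @List.length.{ku0} a0 a1) ?_ (fun c0 c1 => ?_) a1 :) <;> (rfl')
private noncomputable def _root_.Cfsg.Agent.KOa46981a.k9 : (by first | exact type_of% @Cfsg.Agent.N2.Ex.Al.Ck.Tb.ng | exact Unit : Sort _) := by first | (refine @Subtype.val _ (fun g => @Cfsg.Agent.N2.Ex.Al.Ck.Tb.ng = @g) (@Subtype.mk _ _ (@(fun x0 x1 => @Cfsg.Agent.KOa46981a.k1 @x0 @x1 @x1)) ?_); rewrite [← Cfsg.Agent.KOa46981a.e1]; (try delta Cfsg.Agent.N2.Ex.Al.Ck.Tb.ng); (try generalize @Cfsg.Agent.N2.Ex.Al.Ck.Tb.f = g0); rfl') | exact @Cfsg.Agent.N2.Ex.Al.Ck.Tb.ng | exact ()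
private theorem _root_.Cfsg.Agent.KOa46981a.e9 : (by first | exact @Cfsg.Agent.N2.Ex.Al.Ck.Tb.ng = @_root_.Cfsg.Agent.KOa46981a.k9 | exact True : Prop) := by first | (delta _root_.Cfsg.Agent.KOa46981a.k9; exact @Subtype.property _ (fun g => @Cfsg.Agent.N2.Ex.Al.Ck.Tb.ng = @g) _) | rfl | trivial
private noncomputable def _root_.Cfsg.Agent.KOa46981a.k10 : (by first | exact type_of% @Cfsg.Agent.N2.Ex.Al.Ck.roK | exact Unit : Sort _) := by first | (refine @Subtype.val _ (fun g => @Cfsg.Agent.N2.Ex.Al.Ck.roK = @g) (@Subtype.mk _ _ (@(fun x0 x1 x2 x3 x4 => @Cfsg.Agent.N2.Ex.Al.Ck.Rw.rec.{1} @(fun x5 => @Bool) @(fun x5 x6 x7 => @Bool.rec.{1} @(fun x8 => @Bool) @Bool.false (@Bool.rec.{1} @(fun x8 => @Bool) @Bool.false (@Nat.rec.{1} @(fun x8 => @Bool) @Bool.true @(fun x8 x9 => @Bool.rec.{1} @(fun x10 => @Bool) @Bool.false @x9 (@Bool.rec.{1} @(fun x10 => @Bool) (@List.rec.{1, 0} ℕ @(fun x10 => @Bool)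 @Bool.false @(fun x10 x11 x12 => @Bool.rec.{1} @(fun x13 => @Bool) @x12 @Bool.true (@Bool.rec.{1} @(fun x13 => @Bool) @Bool.false (@Bool.rec.{1} @(fun x13 => @Bool) @Bool.true @Bool.false (@x1 @x5 (@Cfsg.Agent.KOa46981a.k1 @x0 @x10 @x8))) (@Nat.ble (@Nat.succ (@Cfsg.Agent.KOa46981a.k2 @x0 (@Cfsg.Agent.KOa46981a.k1 @x0 @x10 @x8))) (@Cfsg.Agent.KOa46981a.k2 @x0 @x8)))) @x6) @Bool.true (@x1 (@Nat.lor @x5 (@Cfsg.Agent.KOa46981a.k3 @x7)) @x8))) (@Cfsg.Agent.N2.Ex.Al.Ck.Tb.n @x0)) (@List.rec.{1, 0} (ℕ × (ℕ × (@List.{0} ℕ))) @(fun x8 => @Bool) @Bool.true @(fun x8 x9 x10 => @Bool.rec.{1} @(fun x11 => @Bool) @Bool.false @x10 (@Prod.rec.{1, 0, 0} ℕ (ℕ × (@List.{0} ℕ)) @(fun x11 => @Bool) @(fun x11 x12 => @Prod.rec.{1, 0, 0} ℕ (@List.{0} ℕ) @(fun x13 => @Bool) @(fun x13 x14 => @Bool.rec.{1} @(fun x15 => @Bool) @Bool.false (@Bool.rec.{1} @(fun x15 => @Bool) @Bool.false (@Bool.rec.{1} @(fun x15 => @Bool)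 @Bool.false (@List.rec.{1, 0} ℕ @(fun x15 => @Bool) @Bool.true @(fun x15 x16 x17 => @Bool.rec.{1} @(fun x18 => @Bool) @Bool.false @x17 (@Bool.rec.{1} @(fun x18 => @Bool) (@Nat.beq (@List.rec.{1, 0} ℕ @(fun x18 => ℕ) @x15 @(fun x18 x19 x20 => @x2 @x18 @x20) @x14) @x11) @Bool.true (@x1 @x5 (@List.rec.{1, 0} ℕ @(fun x18 => ℕ) @x15 @(fun x18 x19 x20 => @x2 @x18 @x20) @x14)))) (@Cfsg.Agent.N2.Ex.Al.Ck.Rw.Δ (@Cfsg.Agent.KOa46981a.k7 @x3 @x13))) (@List.rec.{1, 0} ℕ @(fun x15 => @Bool) @Bool.true @(fun x15 x16 x17 => @Bool.rec.{1} @(fun x18 => @Bool) @Bool.false @x17 (@Nat.ble (@Nat.succ @x15) (@Cfsg.Agent.N2.Ex.Al.Ck.Tb.n @x0))) @x14)) (@Nat.ble (@Nat.succ @x13) (@Cfsg.Agent.KOa46981a.k8.{0} _ @x3))) (@Nat.ble (@Nat.succ @x4) @x13)) @x12) @x8)) @x7)) (@Bool.rec.{1} @(fun x8 => @Bool) @Bool.false (@Nat.rec.{1} @(fun x8 => @Bool) @Bool.true @(fun x8 x9 => @Bool.rec.{1} @(fun x10 => @Bool) @Bool.false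 @x9 (@Bool.rec.{1} @(fun x10 => @Bool) (@Bool.rec.{1} @(fun x10 => @Bool) (@List.rec.{1, 0} ℕ @(fun x10 => @Bool) @Bool.false @(fun x10 x11 x12 => @Bool.rec.{1} @(fun x13 => @Bool) @x12 @Bool.true (@Bool.rec.{1} @(fun x13 => @Bool) (@Bool.rec.{1} @(fun x13 => @Bool) @Bool.false (@x1 @x5 (@Cfsg.Agent.KOa46981a.k1 @x0 @x10 @x8)) (@Nat.ble (@Nat.succ (@Cfsg.Agent.KOa46981a.k1 @x0 @x10 @x8)) @x8)) @Bool.true (@Nat.beq @x10 @x8))) @x6) @Bool.true (@Bool.rec.{1} @(fun x10 => @Bool) @Bool.false (@x1 @x5 (@Cfsg.Agent.KOa46981a.k9 @x0 @x8)) (@Nat.ble (@Nat.succ (@Cfsg.Agent.KOa46981a.k9 @x0 @x8)) @x8))) @Bool.true (@Bool.rec.{1} @(fun x10 => @Bool) @Bool.true @Bool.false (@x1 @x5 @x8)))) (@Cfsg.Agent.N2.Ex.Al.Ck.Tb.n @x0)) (@List.rec.{1, 0} ℕ @(fun x8 => @Bool) @Bool.true @(fun x8 x9 x10 => @Bool.rec.{1} @(fun x11 => @Bool) @Bool.false @x10 (@Bool.rec.{1} @(fun x11 => @Bool) @Bool.false (@x1 @x5 @x8)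 (@Nat.ble (@Nat.succ @x8) (@Cfsg.Agent.N2.Ex.Al.Ck.Tb.n @x0)))) @x6))) (@Cfsg.Agent.KOa46981a.k7 @x3 @x4))) ?_); rewrite [← Cfsg.Agent.KOa46981a.e9, ← Cfsg.Agent.KOa46981a.e8.{0}, ← Cfsg.Agent.KOa46981a.e7, ← Cfsg.Agent.KOa46981a.e3, ← Cfsg.Agent.KOa46981a.e2, ← Cfsg.Agent.KOa46981a.e1]; (try delta Cfsg.Agent.N2.Ex.Al.Ck.roK Cfsg.Agent.N2.Ex.Al.Ck.lA Cfsg.Agent.N2.Ex.Al.Ck.aL Cfsg.Agent.N2.Ex.Al.Ck.lE Cfsg.Agent.N2.Ex.Al.Ck.Tb.lt Cfsg.Agent.N2.Ex.Al.Ck.awK); (try generalize @Cfsg.Agent.N2.Ex.Al.Ck.Tb.f = g0); (try generalize @Cfsg.Agent.N2.Ex.Al.Ck.Tb.key = g1); (try generalize @Cfsg.Agent.N2.Ex.Al.Ck.xmK = g2); (try generalize @Cfsg.Agent.N2.Ex.Al.Ck.rw0 = g3); (try generalize @Cfsg.Agent.N2.Ex.Al.Ck.Tb.ng = g4); rfl') | exact @Cfsg.Agent.N2.Ex.Al.Ck.roK | exact ()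
private theorem _root_.Cfsg.Agent.KOa46981a.e10 : (by first | exact @Cfsg.Agent.N2.Ex.Al.Ck.roK = @_root_.Cfsg.Agent.KOa46981a.k10 | exact True : Prop) := by first | (delta _root_.Cfsg.Agent.KOa46981a.k10; exact @Subtype.property _ (fun g => @Cfsg.Agent.N2.Ex.Al.Ck.roK = @g) _) | rfl | trivial
private noncomputable def _root_.Cfsg.Agent.KOa46981a.k11 : (by first | exact type_of% @Cfsg.Agent.N2.Ex.Al.Ck.tbK | exact Unit : Sort _) := by first | (refine @Subtype.val _ (fun g => @Cfsg.Agent.N2.Ex.Al.Ck.tbK = @g) (@Subtype.mk _ _ (@(fun x0 x1 => @Nat.beq (@Nat.mod (@Nat.shiftRight @x0 @x1) (nat_lit 2)) (nat_lit 1))) ?_); rfl') | exact @Cfsg.Agent.N2.Ex.Al.Ck.tbK | exact ()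
private theorem _root_.Cfsg.Agent.KOa46981a.e11 : (by first | exact @Cfsg.Agent.N2.Ex.Al.Ck.tbK = @_root_.Cfsg.Agent.KOa46981a.k11 | exact True : Prop) := by first | (delta _root_.Cfsg.Agent.KOa46981a.k11; exact @Subtype.property _ (fun g => @Cfsg.Agent.N2.Ex.Al.Ck.tbK = @g) _) | rfl | trivial
private noncomputable def _root_.Cfsg.Agent.KOa46981a.k12 : (by first | exact type_of% @Cfsg.Agent.N2.Ex.Al.Ck.fcK | exact Unit : Sort _) := by first | (refine @Subtype.val _ (fun g => @Cfsg.Agent.N2.Ex.Al.Ck.fcK = @g) (@Subtype.mk _ _ (@(fun x0 x1 x2 => @Nat.rec.{1} @(fun x3 => @x0) (@x2 (nat_lit 0)) @(fun x3 x4 => @x2 (@Nat.succ @x3)) @x1)) ?_); rfl') | exact @Cfsg.Agent.N2.Ex.Al.Ck.fcK | exact ()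
private theorem _root_.Cfsg.Agent.KOa46981a.e12 : (by first | exact @Cfsg.Agent.N2.Ex.Al.Ck.fcK = @_root_.Cfsg.Agent.KOa46981a.k12 | exact True : Prop) := by first | (delta _root_.Cfsg.Agent.KOa46981a.k12; exact @Subtype.property _ (fun g => @Cfsg.Agent.N2.Ex.Al.Ck.fcK = @g) _) | rfl | trivial
private noncomputable def _root_.Cfsg.Agent.KOa46981a.k13 : (by first | exact type_of% @Cfsg.Agent.N2.Ex.Al.Ck.meK | exact Unit : Sort _) := by first | (refine @Subtype.val _ (fun g => @Cfsg.Agent.N2.Ex.Al.Ck.meK = @g) (@Subtype.mk _ _ (@(fun x0 x1 x2 => @Cfsg.Agent.KOa46981a.k12 _ @x2 @(fun x3 => @Nat.add (@x0 @x1 @x3) (nat_lit 0)))) ?_); rewrite [← Cfsg.Agent.KOa46981a.e12]; (try delta Cfsg.Agent.N2.Ex.Al.Ck.meK); (try generalize @Cfsg.Agent.N2.Ex.Al.Ck.fcK = g0); rfl') | exact @Cfsg.Agent.N2.Ex.Al.Ck.meK | exact ()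
private theorem _root_.Cfsg.Agent.KOa46981a.e13 : (by first | exact @Cfsg.Agent.N2.Ex.Al.Ck.meK = @_root_.Cfsg.Agent.KOa46981a.k13 | exact True : Prop) := by first | (delta _root_.Cfsg.Agent.KOa46981a.k13; exact @Subtype.property _ (fun g => @Cfsg.Agent.N2.Ex.Al.Ck.meK = @g) _) | rfl | trivial

private theorem rowKF4 : ∀ j < 37, tbF4.row rwF4 j = true :=
  row_of_K _ _ _ (by (first | (rewrite [Cfsg.Agent.KOa46981a.e0, Cfsg.Agent.KOa46981a.e10, Cfsg.Agent.KOa46981a.e11, Cfsg.Agent.KOa46981a.e13, Cfsg.Agent.KOa46981a.e1]; decide +kernel) | decide +kernel))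

theorem rowF4_0 : aL (fun j => tbF4.row rwF4 (j + 0)) 37 = true :=
  aL_iff.2 fun j hj => rowKF4 _ (by omega)

theorem rowF4 : ∀ j < rwF4.length, tbF4.row rwF4 j = true := fun j (hj : j < 37) => by
  simpa only [Nat.sub_add_cancel (show 0 ≤ j by omega)] using aL_iff.1 rowF4_0 (j - 0) (by omega)

private theorem staKF4 : ∀ j < 37, tbF4.sta 4 rwF4 kiF4 spF4 smF4 j = true :=
  sta_of_K _ _ _ _ _ _ _ (by decide +kernel)

theorem staF4_0 : aL (fun j => tbF4.sta 4 rwF4 kiF4 spF4 smF4 (j + 0)) 37 = true :=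
  aL_iff.2 fun j hj => staKF4 _ (by omega)

theorem staF4 : ∀ j < rwF4.length, tbF4.sta 4 rwF4 kiF4 spF4 smF4 j = true := fun j (hj : j < 37) => by
  simpa only [Nat.sub_add_cancel (show 0 ≤ j by omega)] using aL_iff.1 staF4_0 (j - 0) (by omega)

/-- functionals -/
noncomputable def shF4 : List (ℕ × List ℕ) :=
  (by
  refine (?fq9016 : ((pk61l (fun i1 => (_root_.Prod.mk (pk61d (nat_lit 2) 
    (nat_lit 0x88aaaabaaaaaaaaaaa) i1) ((fun g1 : Nat → Nat => pk61l (fun i2 => (pk61d (nat_lit 1) 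
    (nat_lit 0x2128282242241822122242122214122121) i2)) (g1 i1) (g1 (Nat.succ i1)) List.nil) fun j => (pk61d (nat_lit 8) 
    (nat_lit 0x8888848480807c7874706c6864605c5854504c4844403c3834302c2824201c1814100c080400) j)))) (nat_lit 0) (nat_lit 37) List.nil) : List (ℕ × List ℕ))
    = ?xq9016 → (List (ℕ × List ℕ))) ?hq9016; (case hq9016 => (set_option maxRecDepth 1000000 in conv => lhs; reduce)); intro _; exact ?xq9016 : List (ℕ × List ℕ))

theorem shsF4 : aL (fun j => tbF4.shs 4 (rw0 rwF4 j).m (shF4.getD j (0, []))) 37 = true := by decide +kernel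

end Cfsg.Agent.N2.Ex.Al.Ck
end

-- part: N2/Ex/Al/RwE6
section
/-!
# N2, subgroups of maximal rank: the rows of `E6` (helper40, generated data)
-/

set_option autoImplicit false
set_option maxRecDepth 100000

namespace Cfsg.Agent.N2.Ex.Al.Ck

open Cfsg Cfsg.Lie Cfsg.Agent.Nodes.RGDChev

/-- T -/
noncomputable def rE6_0 : Rw :=
  (by
  refine (?fq9017 : ((_root_.Cfsg.Agent.N2.Ex.Al.Ck.Rw.mk (nat_lit 0) List.nil (pk61l (fun i1 => (_root_.Prod.mk i1 (_root_.Prod.mk (nat_lit 1) ((fun g1 : Nat → Nat => pk61l (fun i2 => (pk61d (nat_lit 6) 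
    (nat_lit 0x1080b80680078676001b1997406005da64050049609a54038030259109540020858244b09000239621108b18840031e21e09e7826c081b09701d61701a01951201619801538c19401119201020b5063802c63024542ce1880062cc) i2)) (g1 i1) (g1 (Nat.succ i1)) List.nil) fun j => (pk61d (nat_lit 7) 
    (nat_lit 0x79efd79f1dfbb66ad39f2e4c786fdeb96ecd7ab529519f365ca911a24280fdebc74e1b3566c582e58ad5284c952224078e9c3460b14264478d16284060808000) j))))) (nat_lit 0) (nat_lit 72) List.nil)) : Rw)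
    = ?xq9017 → (Rw)) ?hq9017; (case hq9017 => (set_option maxRecDepth 1000000 in conv => lhs; reduce)); intro _; exact ?xq9017 : Rw)

/-- A1 -/
noncomputable def rE6_1 : Rw :=
  (by
  refine (?fq9018 : ((_root_.Cfsg.Agent.N2.Ex.Al.Ck.Rw.mk (nat_lit 68719476737) (pk61l (fun i1 => (nat_lit 0)) (nat_lit 0) (nat_lit 1) List.nil) (pk61l (fun i1 => (_root_.Prod.mk (pk61d (nat_lit 7) 
    (nat_lit 0x23c68b121c180f9eba72ddab466c57ae5aad529509d2a34484f9e386cc17284c90f1c3460a1220385080c101) i1) (_root_.Prod.mk (pk61d (nat_lit 2) 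
    (nat_lit 0xabbbfefaeaeaaabbfeeeebaae) i1) ((fun g1 : Nat → Nat => pk61l (fun i2 => (pk61d (nat_lit 6) 
    (nat_lit 0x18a30e38498df3e30df7077c37013c770971304935c0d33410c335c2530cd1c18818c788d8894d38834d30cd3cf3414c92471cf04d0c334f1c9047) i2)) (g1 i1) (g1 (Nat.succ i1)) List.nil) fun j => (pk61d (nat_lit 7) 
    (nat_lit 0x13e6cc95263c6890a0bf7aedcb76cd19305eb55284c95223427ce9b325cb14264888f1c3460a101c3040400000) j))))) (nat_lit 0) (nat_lit 50) List.nil)) : Rw)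
    = ?xq9018 → (Rw)) ?hq9018; (case hq9018 => (set_option maxRecDepth 1000000 in conv => lhs; reduce)); intro _; exact ?xq9018 : Rw)

/-- A1A1 -/
noncomputable def rE6_2 : Rw :=
  (by
  refine (?fq9019 : ((_root_.Cfsg.Agent.N2.Ex.Al.Ck.Rw.mk (nat_lit 206158430211) (pk61l (fun i1 => i1) (nat_lit 0) (nat_lit 2) List.nil) (pk61l (fun i1 => (_root_.Prod.mk (pk61d (nat_lit 7) 
    (nat_lit 0x23c5890e0c07cf5cb768c572b54a5422427cf1c365ca0f1c284880a10182) i1) (_root_.Prod.mk (pk61d (nat_lit 4) 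
    (nat_lit 0x5454548585854554454454558584584455) i1) ((fun g1 : Nat → Nat => pk61l (fun i2 => (pk61d (nat_lit 6) 
    (nat_lit 0xb32111f8617c585f71c2cc28470b3041052cc0022842cc04785f12100284a7c009f00270a2cc04728414b3011c410a2cc047) i2)) (g1 i1) (g1 (Nat.succ i1)) List.nil) fun j => (pk61d (nat_lit 7) 
    (nat_lit 0x10e03e7af1db970ddb3362b962a509d3214078d992c4c90d182c3060810000) j))))) (nat_lit 0) (nat_lit 34) List.nil)) : Rw)
    = ?xq9019 → (Rw)) ?hq9019; (case hq9019 => (set_option maxRecDepth 1000000 in conv => lhs; reduce)); intro _; exact ?xq9019 : Rw)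

/-- A2 -/
noncomputable def rE6_3 : Rw :=
  (by
  refine (?fq9020 : ((_root_.Cfsg.Agent.N2.Ex.Al.Ck.Rw.mk (nat_lit 4741643894853) (pk61l (fun i1 => (pk61d (nat_lit 2) 
    (nat_lit 0x8) i1)) (nat_lit 0) (nat_lit 2) List.nil) (pk61l (fun i1 => (_root_.Prod.mk (pk61d (nat_lit 7) 
    (nat_lit 0x23c68b0e03e74e5ab45eb94a84a8d11e365c98f1a284870a10181) i1) (_root_.Prod.mk (pk61d (nat_lit 4) 
    (nat_lit 0x558888888885555558888885885585) i1) ((fun g1 : Nat → Nat => pk61l (fun i2 => (pk61d (nat_lit 6) 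
    (nat_lit 0x18a30e30c48c32a300835c04500835c14020d70100835c00835c04400835c10008335c14008335c10a0020cd7018818c020d70488020d72200835c1620ca0c128310008335c1050c11030020cd70a0020cd7040c1) i2)) (g1 i1) (g1 (Nat.succ i1)) List.nil) fun j => (pk61d (nat_lit 7) 
    (nat_lit 0x1c77eed9a7360b75a94c8f05d3568cd8ab4c80f1b324878e1008000) j))))) (nat_lit 0) (nat_lit 30) List.nil)) : Rw)
    = ?xq9020 → (Rw)) ?hq9020; (case hq9020 => (set_option maxRecDepth 1000000 in conv => lhs; reduce)); intro _; exact ?xq9020 : Rw)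

/-- A1A1A1 -/
noncomputable def rE6_4 : Rw :=
  (by
  refine (?fq9021 : ((_root_.Cfsg.Agent.N2.Ex.Al.Ck.Rw.mk (nat_lit 1305670058003) (pk61l (fun i1 => (pk61d (nat_lit 3) 
    (nat_lit 0x108) i1)) (nat_lit 0) (nat_lit 3) List.nil) (pk61l (fun i1 => (_root_.Prod.mk (pk61d (nat_lit 7) 
    (nat_lit 0x23c58901f3d72dd8ae5488f9c365ca0f1014182) i1) (_root_.Prod.mk (pk61d (nat_lit 5) 
    (nat_lit 0xe75194781d4739ce651d4781d47) i1) ((fun g1 : Nat → Nat => pk61l (fun i2 => (pk61d (nat_lit 6) 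
    (nat_lit 0x2cc29f70b31388a7dc01729f7005d388a7dc70b30a7cb30124b31388a7c725c2cc04729f70b31388500229f1c90024e229f2cc04729f2cc4e215c2cc047) i2)) (g1 i1) (g1 (Nat.succ i1)) List.nil) fun j => (pk61d (nat_lit 7) 
    (nat_lit 0x14a6c68505dba72d58ab5084e1c305880a1410000) j))))) (nat_lit 0) (nat_lit 22) List.nil)) : Rw)
    = ?xq9021 → (Rw)) ?hq9021; (case hq9021 => (set_option maxRecDepth 1000000 in conv => lhs; reduce)); intro _; exact ?xq9021 : Rw)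

/-- A2A1 -/
noncomputable def rE6_5 : Rw :=
  (by
  refine (?fq9022 : ((_root_.Cfsg.Agent.N2.Ex.Al.Ck.Rw.mk (nat_lit 4879082848327) (pk61l (fun i1 => i1) (nat_lit 0) (nat_lit 3) List.nil) (pk61l (fun i1 => (_root_.Prod.mk (pk61d (nat_lit 7) 
    (nat_lit 0x8f161c07ce5a2e52a111e365c78a1214203) i1) (_root_.Prod.mk (pk61d (nat_lit 4) 
    (nat_lit 0x9aaaeee7779aaae7e77e) i1) ((fun g1 : Nat → Nat => pk61l (fun i2 => (pk61d (nat_lit 6) 
    (nat_lit 0x6201770a0177050177062010ca1880431062010c414a10a14a14410a) i2)) (g1 i1) (g1 (Nat.succ i1)) List.nil) fun j => (pk61d (nat_lit 6) 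
    (nat_lit 0x2692071950f2c92071c6145103080000) j))))) (nat_lit 0) (nat_lit 20) List.nil)) : Rw)
    = ?xq9022 → (Rw)) ?hq9022; (case hq9022 => (set_option maxRecDepth 1000000 in conv => lhs; reduce)); intro _; exact ?xq9022 : Rw)

/-- A1A1A1A1 -/
noncomputable def rE6_6 : Rw :=
  (by
  refine (?fq9023 : ((_root_.Cfsg.Agent.N2.Ex.Al.Ck.Rw.mk (nat_lit 18446745379648045075) (pk61l (fun i1 => (pk61d (nat_lit 5) 
    (nat_lit 0xe1020) i1)) (nat_lit 0) (nat_lit 4) List.nil) (pk61l (fun i1 => (_root_.Prod.mk (pk61d (nat_lit 7) 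
    (nat_lit 0x478b11f3d72c551b283c283) i1) (_root_.Prod.mk (pk61d (nat_lit 5) 
    (nat_lit 0xc6318c8318c6318c) i1) ((fun g1 : Nat → Nat => pk61l (fun i2 => (pk61d (nat_lit 6) 
    (nat_lit 0xb30124a7cb3138a170008724a7c009388008725c2cc04900200229f0024e229f2cc04729f2cc4e215c2cc047) i2)) (g1 i1) (g1 (Nat.succ i1)) List.nil) fun j => (pk61d (nat_lit 6) 
    (nat_lit 0xef5be996181c69640a100) j))))) (nat_lit 0) (nat_lit 13) List.nil)) : Rw)
    = ?xq9023 → (Rw)) ?hq9023; (case hq9023 => (set_option maxRecDepth 1000000 in conv => lhs; reduce)); intro _; exact ?xq9023 : Rw)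

/-- A2A1A1 -/
noncomputable def rE6_7 : Rw :=
  (by
  refine (?fq9024 : ((_root_.Cfsg.Agent.N2.Ex.Al.Ck.Rw.mk (nat_lit 5978594476119) (pk61l (fun i1 => (pk61d (nat_lit 3) 
    (nat_lit 0x888) i1)) (nat_lit 0) (nat_lit 4) List.nil) (pk61l (fun i1 => (_root_.Prod.mk (pk61d (nat_lit 7) 
    (nat_lit 0x8f1603e72b911b2e3c283) i1) (_root_.Prod.mk (pk61d (nat_lit 5) 
    (nat_lit 0x5bd8f9ad6f63d73) i1) ((fun g1 : Nat → Nat => pk61l (fun i2 => (pk61d (nat_lit 6) 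
    (nat_lit 0x234f84414b30d3e11050021c97062010c414008725c1050021c970008d3e1105105) i2)) (g1 i1) (g1 (Nat.succ i1)) List.nil) fun j => (pk61d (nat_lit 6) 
    (nat_lit 0x2e9e06d540e242080000) j))))) (nat_lit 0) (nat_lit 12) List.nil)) : Rw)
    = ?xq9024 → (Rw)) ?hq9024; (case hq9024 => (set_option maxRecDepth 1000000 in conv => lhs; reduce)); intro _; exact ?xq9024 : Rw)

/-- A3 -/
noncomputable def rE6_8 : Rw :=
  (by
  refine (?fq9025 : ((_root_.Cfsg.Agent.N2.Ex.Al.Ck.Rw.mk (nat_lit 4943610436983043) (pk61l (fun i1 => (pk61d (nat_lit 4) 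
    (nat_lit 0x810) i1)) (nat_lit 0) (nat_lit 3) List.nil) (pk61l (fun i1 => (_root_.Prod.mk (pk61d (nat_lit 7) 
    (nat_lit 0x8f161c180f55aa5284f0f1424284) i1) (_root_.Prod.mk (pk61d (nat_lit 5) 
    (nat_lit 0x72a0e839ce529ce83950) i1) ((fun g1 : Nat → Nat => pk61l (fun i2 => (pk61d (nat_lit 6) 
    (nat_lit 0x438405d388a86118804311c1458462010c47010c008009389f0174e22800a12cc04711c1452cc04711c0024e27c5) i2)) (g1 i1) (g1 (Nat.succ i1)) List.nil) fun j => (pk61d (nat_lit 6) 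
    (nat_lit 0x3eef5d2dae58e171750d306000) j))))) (nat_lit 0) (nat_lit 16) List.nil)) : Rw)
    = ?xq9025 → (Rw)) ?hq9025; (case hq9025 => (set_option maxRecDepth 1000000 in conv => lhs; reduce)); intro _; exact ?xq9025 : Rw)

/-- A2A2 -/
noncomputable def rE6_9 : Rw :=
  (by
  refine (?fq9026 : ((_root_.Cfsg.Agent.N2.Ex.Al.Ck.Rw.mk (nat_lit 3541774867082856366151) (pk61l (fun i1 => (pk61d (nat_lit 6) 
    (nat_lit 0x882040) i1)) (nat_lit 0) (nat_lit 4) List.nil) (pk61l (fun i1 => (_root_.Prod.mk (pk61d (nat_lit 7) 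
    (nat_lit 0x8b0e03e72d17295028284) i1) (_root_.Prod.mk (pk61d (nat_lit 5) 
    (nat_lit 0x8c6318c56b5ad6b) i1) ((fun g1 : Nat → Nat => pk61l (fun i2 => (pk61d (nat_lit 6) 
    (nat_lit 0x1e8407a11007a12862010ca1880431062010c008725c1050021c970a0021c97040021c97050021c970428008725c) i2)) (g1 i1) (g1 (Nat.succ i1)) List.nil) fun j => (pk61d (nat_lit 6) 
    (nat_lit 0x3eef7ceea6579848c140) j))))) (nat_lit 0) (nat_lit 12) List.nil)) : Rw)
    = ?xq9026 → (Rw)) ?hq9026; (case hq9026 => (set_option maxRecDepth 1000000 in conv => lhs; reduce)); intro _; exact ?xq9026 : Rw)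

/-- A3A1 -/
noncomputable def rE6_10 : Rw :=
  (by
  refine (?fq9027 : ((_root_.Cfsg.Agent.N2.Ex.Al.Ck.Rw.mk (nat_lit 21329052714619895879) (pk61l (fun i1 => (pk61d (nat_lit 5) 
    (nat_lit 0xb8820) i1)) (nat_lit 0) (nat_lit 4) List.nil) (pk61l (fun i1 => (_root_.Prod.mk (pk61d (nat_lit 7) 
    (nat_lit 0x23c586e5a281e28284) i1) (_root_.Prod.mk (pk61d (nat_lit 5) 
    (nat_lit 0x22f7ce6c8bdec) i1) ((fun g1 : Nat → Nat => pk61l (fun i2 => (pk61d (nat_lit 6) 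
    (nat_lit 0x1881e228620d3dc14620d3dc1441880431062010c428008d3e110008d3e1) i2)) (g1 i1) (g1 (Nat.succ i1)) List.nil) fun j => (pk61d (nat_lit 6) 
    (nat_lit 0x288dd59134c2c5000) j))))) (nat_lit 0) (nat_lit 10) List.nil)) : Rw)
    = ?xq9027 → (Rw)) ?hq9027; (case hq9027 => (set_option maxRecDepth 1000000 in conv => lhs; reduce)); intro _; exact ?xq9027 : Rw)

/-- A2A2A1 -/
def rE6_11 : Rw := (beta% (fun (vq0 : type_of% @_root_.List.nil.{0}) (vq1 : type_of% @_root_.List.cons.{0}) (vq2 : type_of% @_root_.Prod.mk.{0, 0}) => (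
    ⟨78546361910391, (vq1 0 (vq1 1 (vq1 2 (vq1 4 (vq1 5 vq0))))), (vq1 (vq2 3 (vq2 20 vq0)) (vq1 (vq2 23 (vq2 18 (vq1 5 (vq1 4 (vq1 15 (vq1 13 vq0)))))) (vq1 (vq2 34 (vq2 13 vq0)) (vq1 (vq2 62 (vq2 20 (vq1 28 (vq1 34 (vq1 19 (vq1 14 (vq1 11 vq0))))))) (vq1 (vq2 69 (vq2 18 (vq1 5 (vq1 4 (vq1 33 (vq1 15 (vq1 13 (vq1 12 (vq1 11 vq0))))))))) (vq1 (vq2 71 (vq2 13 (vq1 34 (vq1 1 vq0)))) vq0))))))⟩ :
    Cfsg.Agent.N2.Ex.Al.Ck.Rw))
    (@_root_.List.nil.{0}) (@_root_.List.cons.{0}) (@_root_.Prod.mk.{0, 0}))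

/-- A3A1A1 -/
def rE6_12 : Rw := (beta% (fun (vq0 : type_of% @_root_.List.nil.{0}) (vq1 : type_of% @_root_.List.cons.{0}) (vq2 : type_of% @_root_.Prod.mk.{0, 0}) => (
    ⟨21329053814131523671, (vq1 0 (vq1 1 (vq1 2 (vq1 4 (vq1 23 vq0))))), (vq1 (vq2 5 (vq2 18 (vq1 5 (vq1 4 (vq1 15 (vq1 13 vq0)))))) (vq1 (vq2 15 (vq2 18 (vq1 5 (vq1 4 vq0)))) (vq1 (vq2 57 (vq2 19 (vq1 28 (vq1 9 (vq1 7 (vq1 2 (vq1 0 vq0))))))) (vq1 (vq2 69 (vq2 18 (vq1 5 (vq1 28 (vq1 15 (vq1 13 (vq1 8 (vq1 6 vq0)))))))) (vq1 (vq2 71 (vq2 18 (vq1 5 (vq1 4 (vq1 34 (vq1 7 (vq1 8 (vq1 6 vq0)))))))) vq0)))))⟩ :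
    Cfsg.Agent.N2.Ex.Al.Ck.Rw))
    (@_root_.List.nil.{0}) (@_root_.List.cons.{0}) (@_root_.Prod.mk.{0, 0}))

/-- A2A2A2 -/
def rE6_13 : Rw := ⟨3541774940750135428215, [0, 1, 2, 4, 5, 34], [(62, 20, [28, 34, 19, 14, 11]), (69, 18, [5, 4, 33, 15, 13, 12, 11])]⟩

/-- A4 -/
def rE6_14 : Rw := (beta% (fun (vq0 : type_of% @_root_.List.nil.{0}) (vq1 : type_of% @_root_.List.cons.{0}) (vq2 : type_of% @_root_.Prod.mk.{0, 0}) => (
    ⟨4957629210237391, (vq1 0 (vq1 1 (vq1 2 (vq1 3 vq0)))), (vq1 (vq2 4 (vq2 19 vq0)) (vq1 (vq2 5 (vq2 15 vq0)) (vq1 (vq2 10 (vq2 19 (vq1 5 vq0))) (vq1 (vq2 30 (vq2 17 vq0)) (vq1 (vq2 41 (vq2 15 (vq1 5 vq0))) (vq1 (vq2 64 (vq2 19 (vq1 4 (vq1 28 (vq1 9 (vq1 7 (vq1 14 (vq1 11 vq0)))))))) (vq1 (vq2 67 (vq2 19 (vq1 5 (vq1 4 (vq1 28 (vq1 9 (vq1 7 (vq1 14 (vq1 11 vq0))))))))) (vq1 (vq2 71 (vq2 17 (vq1 33 (vq1 3 (vq1 1 (vq1 30 (vq1 0 vq0))))))) vq0))))))))⟩ :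
    Cfsg.Agent.N2.Ex.Al.Ck.Rw))
    (@_root_.List.nil.{0}) (@_root_.List.cons.{0}) (@_root_.Prod.mk.{0, 0}))

/-- A4A1 -/
def rE6_15 : Rw := ⟨4959828233492975, [0, 1, 2, 3, 5], [(4, 20, []), (30, 18, []), (67, 20, [33, 15, 13, 12, 11]), (71, 18, [33, 3, 1, 30, 0])]⟩

/-- D4 -/
noncomputable def rE6_16 : Rw :=
  (by
  refine (?fq9028 : ((_root_.Cfsg.Agent.N2.Ex.Al.Ck.Rw.mk (nat_lit 18623951469676026131) (pk61l (fun i1 => (pk61d (nat_lit 4) 
    (nat_lit 0x8410) i1)) (nat_lit 0) (nat_lit 4) List.nil) (pk61l (fun i1 => (_root_.Prod.mk (pk61d (nat_lit 7) 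
    (nat_lit 0x23c57aa8785) i1) (_root_.Prod.mk (nat_lit 19) ((fun g1 : Nat → Nat => pk61l (fun i2 => (pk61d (nat_lit 6) 
    (nat_lit 0x2ce34a7dc2ce4e211f0021c90022cc04729f2cc4e215c) i2)) (g1 i1) (g1 (Nat.succ i1)) List.nil) fun j => (pk61d (nat_lit 5) 
    (nat_lit 0x7b12730c0) j))))) (nat_lit 0) (nat_lit 6) List.nil)) : Rw)
    = ?xq9028 → (Rw)) ?hq9028; (case hq9028 => (set_option maxRecDepth 1000000 in conv => lhs; reduce)); intro _; exact ?xq9028 : Rw)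

/-- A5 -/
def rE6_17 : Rw := (beta% (fun (vq0 : type_of% @_root_.List.nil.{0}) (vq1 : type_of% @_root_.List.cons.{0}) (vq2 : type_of% @_root_.Prod.mk.{0, 0}) => (
    ⟨4501010511679839082959, (vq1 0 (vq1 1 (vq1 2 (vq1 3 (vq1 30 vq0))))), (vq1 (vq2 5 (vq2 18 vq0)) (vq1 (vq2 41 (vq2 18 (vq1 5 vq0))) (vq1 (vq2 64 (vq2 20 (vq1 4 (vq1 28 (vq1 9 (vq1 7 (vq1 14 (vq1 11 vq0)))))))) (vq1 (vq2 67 (vq2 20 (vq1 5 (vq1 4 (vq1 28 (vq1 9 (vq1 7 (vq1 14 (vq1 11 vq0))))))))) vq0))))⟩ :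
    Cfsg.Agent.N2.Ex.Al.Ck.Rw))
    (@_root_.List.nil.{0}) (@_root_.List.cons.{0}) (@_root_.Prod.mk.{0, 0}))

/-- A5A1 -/
def rE6_18 : Rw := ⟨4501010513878862338543, [0, 1, 2, 3, 5, 30], [(67, 20, [33, 15, 13, 12, 11])]⟩

/-- D5 -/
def rE6_19 : Rw := ⟨21506867384333859807, [0, 1, 2, 3, 4], [(5, 20, []), (71, 20, [31, 19, 20, 17])]⟩

/-- E6 -/
def rE6_20 : Rw := ⟨4722366482869645213695, [0, 1, 2, 3, 4, 5], []⟩

/-- the rows -/
noncomputable def rwE6 : List Rw := [rE6_0, rE6_1, rE6_2, rE6_3, rE6_4, rE6_5, rE6_6, rE6_7, rE6_8, rE6_9, rE6_10, rE6_11, rE6_12, rE6_13, rE6_14, rE6_15, rE6_16, rE6_17, rE6_18, rE6_19, rE6_20]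

/-- the larger invariant sets -/
noncomputable def kiE6 : List Ki :=
  (by
  refine (?fq9029 : ((pk61l (fun i1 => (_root_.Cfsg.Agent.N2.Ex.Al.Ck.Ki.mk (pk61d (nat_lit 72) 
    (nat_lit 0xf400119cff400119cf0000000000000000000000119ef0000119ef0000119cf0000119cf000000000000000000012800057012800057000000477000000477012800047012800047c00000047c00000047000011903000011903000000057000000057010000013010000013000000047000000047000000013000000013000000045000000045000000003000000003000000001000000001000000000000000000) i1) (pk61d (nat_lit 10) 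
    (nat_lit 0xf9c00f9fe7003e7f9fe7f9fe7f9fe7f9fe7f9fe7f9c00) i1) (pk61d (nat_lit 5) 
    (nat_lit 0x3c07500461184400c231040) i1) (pk61d (nat_lit 2) 
    (nat_lit 0x8a2eeeae8) i1) ((fun g1 : Nat → Nat => pk61l (fun i2 => (pk61d (nat_lit 1) 
    (nat_lit 0x10410808808308310908104) i2)) (g1 i1) (g1 (Nat.succ i1)) List.nil) fun j => (pk61d (nat_lit 7) 
    (nat_lit 0x2d5ab56aa549d2244278d982a4878c121818000) j)) (pk61d (nat_lit 6) 
    (nat_lit 0x140785003883104148883044040) i1))) (nat_lit 0) (nat_lit 21) List.nil) : List Ki)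
    = ?xq9029 → (List Ki)) ?hq9029; (case hq9029 => (set_option maxRecDepth 1000000 in set_option simprocs false in conv => lhs; reduce; dsimp only)); intro _; exact ?xq9029 : List Ki)

/-- sums of roots -/
def spE6 : List (ℕ × ℕ) := []

/-- the surviving masks -/
def smE6 : List ℕ := [0, 3541774940750135428215, 18623951469676026131, 4501010513878862338543, 21506867384333859807]

private theorem rowKE6 : ∀ j < 21, tbE6.row rwE6 j = true :=
  row_of_K _ _ _ (by (first | (rewrite [Cfsg.Agent.KOa46981a.e0, Cfsg.Agent.KOa46981a.e10, Cfsg.Agent.KOa46981a.e11, Cfsg.Agent.KOa46981a.e13, Cfsg.Agent.KOa46981a.e1]; decide +kernel) | decide +kernel))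

theorem rowE6_0 : aL (fun j => tbE6.row rwE6 (j + 0)) 21 = true :=
  aL_iff.2 fun j hj => rowKE6 _ (by omega)

theorem rowE6 : ∀ j < rwE6.length, tbE6.row rwE6 j = true := fun j (hj : j < 21) => by
  simpa only [Nat.sub_add_cancel (show 0 ≤ j by omega)] using aL_iff.1 rowE6_0 (j - 0) (by omega)

private theorem staKE6 : ∀ j < 21, tbE6.sta 6 rwE6 kiE6 spE6 smE6 j = true :=
  sta_of_K _ _ _ _ _ _ _ (by decide +kernel)

theorem staE6_0 : aL (fun j => tbE6.sta 6 rwE6 kiE6 spE6 smE6 (j + 0)) 21 = true :=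
  aL_iff.2 fun j hj => staKE6 _ (by omega)

theorem staE6 : ∀ j < rwE6.length, tbE6.sta 6 rwE6 kiE6 spE6 smE6 j = true := fun j (hj : j < 21) => by
  simpa only [Nat.sub_add_cancel (show 0 ≤ j by omega)] using aL_iff.1 staE6_0 (j - 0) (by omega)

end Cfsg.Agent.N2.Ex.Al.Ck
end

-- part: N2/Ex/Al/RwE7
section
/-!
# N2, subgroups of maximal rank: the rows of `E7` (helper40, generated data)
-/

set_option autoImplicit false
set_option maxRecDepth 100000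

namespace Cfsg.Agent.N2.Ex.Al.Ck

open Cfsg Cfsg.Lie Cfsg.Agent.Nodes.RGDChev

/-- T -/
noncomputable def rE7_0 : Rw :=
  (by
  refine (?fq9030 : ((_root_.Cfsg.Agent.N2.Ex.Al.Ck.Rw.mk (nat_lit 0) List.nil (pk61l (fun i1 => (_root_.Prod.mk i1 (_root_.Prod.mk (nat_lit 1) ((fun g1 : Nat → Nat => pk61l (fun i2 => (pk61d (nat_lit 6) 
    (nat_lit 0xf7e0be27e3be43e3734ef1f336f4ea0301ef36acc0b07ac7aaf0280271e5aea0230221df9a501e01c01b8429a07c05c054285a0a06404003898426940994c025084968250d0930025e141a25408d1c94c0f40f87f4df50c0ec09c0eb02c09b0e9f00ac267033b02a029c0be89c2880ac0aa38826c098095e71b0211e302001f5d51de01a1dc01940e35e1d70141d501325478d5c740034738269e5173501c900734e) i2)) (g1 i1) (g1 (Nat.succ i1)) List.nil) fun j => (pk61d (nat_lit 8) 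
    (nat_lit 0xd9d7d6d4d2d0cecccac8c6c4c2c0bebdbbb9b7b6b4b2b0afaeacaaa8a7a6a4a2a09f9d9c9b9997959492918f8d8b8988868583817f7d7c7a78767472706f6d6c6b69676563615f5d5b5957565452504f4d4b494847454341403f3d3b393837363432302e2d2c2a2826242322201e1c1a18171513110f0d0c0a080604020000) j))))) (nat_lit 0) (nat_lit 126) List.nil)) : Rw)
    = ?xq9030 → (Rw)) ?hq9030; (case hq9030 => (set_option maxRecDepth 1000000 in conv => lhs; reduce)); intro _; exact ?xq9030 : Rw)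

/-- A1 -/
noncomputable def rE7_1 : Rw :=
  (by
  refine (?fq9031 : ((_root_.Cfsg.Agent.N2.Ex.Al.Ck.Rw.mk (nat_lit 9223372036854775809) (pk61l (fun i1 => (nat_lit 0)) (nat_lit 0) (nat_lit 1) List.nil) (pk61l (fun i1 => (_root_.Prod.mk (pk61d (nat_lit 7) 
    (nat_lit 0xfbefd79f1dfb75e9cf971e1bb6ecd5a7465c98f05fbd72cd8af569d2a34274c972a4c78d162438501ebc76e9cb86ed9ab464c582e5ab14a84e911a23c74e1b305cb15244480f1c3058a1220305080c101) i1) (_root_.Prod.mk (pk61d (nat_lit 2) 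
    (nat_lit 0xeaaaaebafbefefafabaaeaaeaaaaaebbefefbbaeeaeaae) i1) ((fun g1 : Nat → Nat => pk61l (fun i2 => (pk61d (nat_lit 6) 
    (nat_lit 0x24d88ec1ebb078e41d43e77071d83df4c8adc3d2eb4ad03ba947422e0e9901608a4391d0512242a40dd58128f90a74358f0430cf91174a5833c807c0fae81ef8079d48e01df123507445d3f523129d3f10dd2965b17435986160cf05d4513c860158a2883d821104f0c35983d120a048) i2)) (g1 i1) (g1 (Nat.succ i1)) List.nil) fun j => (pk61d (nat_lit 8) 
    (nat_lit 0x9593918f8e8c8b898786848381807f7d7b7a7977757472706e6d6b6967666462605e5d5b59575554524f4d4b49484746444341403e3d3b3938363432302e2c2a2826242321201f1e1c1a19181715131211100e0c0a0908060402000000) j))))) (nat_lit 0) (nat_lit 92) List.nil)) : Rw)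
    = ?xq9031 → (Rw)) ?hq9031; (case hq9031 => (set_option maxRecDepth 1000000 in conv => lhs; reduce)); intro _; exact ?xq9031 : Rw)

/-- A1A1 -/
noncomputable def rE7_2 : Rw :=
  (by
  refine (?fq9032 : ((_root_.Cfsg.Agent.N2.Ex.Al.Ck.Rw.mk (nat_lit 27670116110564327427) (pk61l (fun i1 => i1) (nat_lit 0) (nat_lit 2) List.nil) (pk61l (fun i1 => (_root_.Prod.mk (pk61d (nat_lit 7) 
    (nat_lit 0x3efbf5e3b75e7cb8eedbb3569d197263bf7ae58ab4a8ce972a3c68b121bd78e9c366ac98b05cb5629509d2223c6cc17244480c16284860a10182) i1) (_root_.Prod.mk (pk61d (nat_lit 4) 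
    (nat_lit 0x656664664644664b64b66b6b46446644465664646644646646b66b46b446b44466) i1) ((fun g1 : Nat → Nat => pk61l (fun i2 => (pk61d (nat_lit 6) 
    (nat_lit 0x936f0d384d8d3b634ec8bc8d3add84bb2c84a6eb6dba916da6434e4a434e2c490430d38448414d3a4dbc1522c4f0d3bc34e13c16e34e2fcb8d392f24f04ca9a7c12db7cbbc2e9cbc4b6f0d3adf0b30d3b2f0411214d3b6f0b3042cd384dbc) i2)) (g1 i1) (g1 (Nat.succ i1)) List.nil) fun j => (pk61d (nat_lit 7) 
    (nat_lit 0x1fbe7befd38efd9af4e8cf97263c58705ebb72cd8ab4e8ce9b2e4c6890e14182f9d3868cd7ad56a9426488901e3a6cb962a4480e1a244870a14000) j))))) (nat_lit 0) (nat_lit 66) List.nil)) : Rw)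
    = ?xq9032 → (Rw)) ?hq9032; (case hq9032 => (set_option maxRecDepth 1000000 in conv => lhs; reduce)); intro _; exact ?xq9032 : Rw)

/-- A2 -/
noncomputable def rE7_3 : Rw :=
  (by
  refine (?fq9033 : ((_root_.Cfsg.Agent.N2.Ex.Al.Ck.Rw.mk (nat_lit 1226708480901685182597) (pk61l (fun i1 => (pk61d (nat_lit 2) 
    (nat_lit 0x8) i1)) (nat_lit 0) (nat_lit 2) List.nil) (pk61l (fun i1 => (_root_.Prod.mk (pk61d (nat_lit 7) 
    (nat_lit 0xfbebcf8efdbaf4e7c786dd9a32e3c17ecd8a74a8cc972a2c48701e3b74e5c376ad18b058a13a23a6cc16244478c16284060a10181) i1) (_root_.Prod.mk (pk61d (nat_lit 4) 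
    (nat_lit 0xb66666b66b6bbbbbbbbbbb6b666666b66666666bbbbbbbbb6bb66bb666b6) i1) ((fun g1 : Nat → Nat => pk61l (fun i2 => (pk61d (nat_lit 6) 
    (nat_lit 0x93e4e41ebb078e41d43e770710f7d031370f40c4d0024f9013032f40093e430024f90114024f9050093e404024f90024f901131ec024f904c79d7bc77d79e3b043eba07be01e75077c41d0024f93a0093e41350093e4d4024f904c4024f9310d20093e41710c14832f4e8304b0c4d38dfa0c1103d35df8e7a0c1) i2)) (g1 i1) (g1 (Nat.succ i1)) List.nil) fun j => (pk61d (nat_lit 8) 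
    (nat_lit 0xa49f9d9c9a9997959492908f8c8a87817e79736e69655f5d58565452504e4d4b4a4847454442413f3a342f2924221c19171512100e0c09080604020000) j))))) (nat_lit 0) (nat_lit 60) List.nil)) : Rw)
    = ?xq9033 → (Rw)) ?hq9033; (case hq9033 => (set_option maxRecDepth 1000000 in conv => lhs; reduce)); intro _; exact ?xq9033 : Rw)

/-- A1A1A1 -/
noncomputable def rE7_4 : Rw :=
  (by
  refine (?fq9034 : ((_root_.Cfsg.Agent.N2.Ex.Al.Ck.Rw.mk (nat_lit 175244068700240740371) (pk61l (fun i1 => (pk61d (nat_lit 3) 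
    (nat_lit 0x108) i1)) (nat_lit 0) (nat_lit 3) List.nil) (pk61l (fun i1 => (_root_.Prod.mk (pk61d (nat_lit 7) 
    (nat_lit 0x3efbf5dbaf3e5c776cd3971dfbd72c55a33a5468af5e386cd58b05ca54244478d982e446090c14182) i1) (_root_.Prod.mk (pk61d (nat_lit 5) 
    (nat_lit 0x1277a4e94a5e97bd0f4a7694bd293a4ef3a5294a5e87bd297a53b3a5e9) i1) ((fun g1 : Nat → Nat => pk61l (fun i2 => (pk61d (nat_lit 6) 
    (nat_lit 0x24d8d396c4ba7c34e048f0d38ba4690d38ba7634e2e993634e5b12e91a40022e9f0d396c4ba640022e91bc0025b12e9da40025b12e91b690d38ba4690d38ba4d396c4ba4634e048dbc34e5b12e9936f06f0d396c4ba4d38123634e2e934e2e9f0d38ba46f24f0d396c4ba7634e5b12e91b60022e918008ba40096c4ba46dbc34e2e993c0025b12e934e2e91a4f0d396c4ba64d8d396c4ba4693634e048) i2)) (g1 i1) (g1 (Nat.succ i1)) List.nil) fun j => (pk61d (nat_lit 8) 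
    (nat_lit 0xd1cfc8c3bdb8b3b2aaa59e989190888782817d76706a6766655f5a56514b49423a3535312a28221c150d0d0d040000) j))))) (nat_lit 0) (nat_lit 46) List.nil)) : Rw)
    = ?xq9034 → (Rw)) ?hq9034; (case hq9034 => (set_option maxRecDepth 1000000 in conv => lhs; reduce)); intro _; exact ?xq9034 : Rw)

/-- A1A1A1 -/
noncomputable def rE7_5 : Rw :=
  (by
  refine (?fq9035 : ((_root_.Cfsg.Agent.N2.Ex.Al.Ck.Rw.mk (nat_lit 10633823966279327012053494097413931011) (pk61l (fun i1 => (pk61d (nat_lit 6) 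
    (nat_lit 0x3c040) i1)) (nat_lit 0) (nat_lit 3) List.nil) (pk61l (fun i1 => (_root_.Prod.mk (pk61d (nat_lit 7) 
    (nat_lit 0xfbebc76ebcf971ddb766ad3a32e4c77ef5cb1569519d2e5478b121b664b96a94878b9220305890c14202) i1) (_root_.Prod.mk (pk61d (nat_lit 5) 
    (nat_lit 0x842103c20781cf081e103c2108420781cf039ce739ce73c20781cf039cf0) i1) ((fun g1 : Nat → Nat => pk61l (fun i2 => (pk61d (nat_lit 6) 
    (nat_lit 0x24d8d384d8d3b634ec8d396c69c8d3add8d396c52cb234e5b132e34e5b12edbad34e5b11690faba934e5b1903ea990d3920fa90d38b0fa12434e5b1c8d38434e5b1b8d396c6d34e34e5b116e34e5b1a4d396c45b4d396c4548d396c5234e5b130d396c4b34e5b114d396c43e920fa2cd396c52903e8434e5b132434e5b12e40fa34e5b132934e5b116434e5b12e9) i2)) (g1 i1) (g1 (Nat.succ i1)) List.nil) fun j => (pk61d (nat_lit 8) 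
    (nat_lit 0xbdbbb7b4b1aba8a7a1a09a9493928c898883807f7c7976726d6a65605e58534d47423d38332f2c2923201a14120c060000) j))))) (nat_lit 0) (nat_lit 48) List.nil)) : Rw)
    = ?xq9035 → (Rw)) ?hq9035; (case hq9035 => (set_option maxRecDepth 1000000 in conv => lhs; reduce)); intro _; exact ?xq9035 : Rw)

/-- A2A1 -/
noncomputable def rE7_6 : Rw :=
  (by
  refine (?fq9036 : ((_root_.Cfsg.Agent.N2.Ex.Al.Ck.Rw.mk (nat_lit 1245155224975394734215) (pk61l (fun i1 => i1) (nat_lit 0) (nat_lit 3) List.nil) (pk61l (fun i1 => (_root_.Prod.mk (pk61d (nat_lit 7) 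
    (nat_lit 0x3efaf1dbaf3e3b7668cb8efd8a5465ca8b121bc74e1ab160b1427446cc12223058a0c14203) i1) (_root_.Prod.mk (pk61d (nat_lit 5) 
    (nat_lit 0x20c631ec7bdefc3f18c25294a5306318c7bdef7bf09c25384a538) i1) ((fun g1 : Nat → Nat => pk61l (fun i2 => (pk61d (nat_lit 6) 
    (nat_lit 0x2936f01c52071301c46002936f05481c400a4dbc4800a4dbc3000a4dbc2c00a4dbc1400a4dbc3000a4dbc002936f05002936f000a4dbc1043121051522c448c18549230b15230b1121442cc10b) i2)) (g1 i1) (g1 (Nat.succ i1)) List.nil) fun j => (pk61d (nat_lit 7) 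
    (nat_lit 0x1a31e0bb6a9d19715fb966b94233a6cd182c54a1426488911e3868c162c50910182840400000) j))))) (nat_lit 0) (nat_lit 42) List.nil)) : Rw)
    = ?xq9036 → (Rw)) ?hq9036; (case hq9036 => (set_option maxRecDepth 1000000 in conv => lhs; reduce)); intro _; exact ?xq9036 : Rw)

/-- A1A1A1A1 -/
noncomputable def rE7_7 : Rw :=
  (by
  refine (?fq9037 : ((_root_.Cfsg.Agent.N2.Ex.Al.Ck.Rw.mk (nat_lit 765539879058946392147) (pk61l (fun i1 => (pk61d (nat_lit 3) 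
    (nat_lit 0xd08) i1)) (nat_lit 0) (nat_lit 4) List.nil) (pk61l (fun i1 => (_root_.Prod.mk (pk61d (nat_lit 7) 
    (nat_lit 0xfbefd76ebcb8eecb8ef5cb1467467af1c3662c14a4446cb911214182) i1) (_root_.Prod.mk (pk61d (nat_lit 5) 
    (nat_lit 0x6aa945369dea9b4ed28d6aa8aa368aeb7b4ed28d) i1) ((fun g1 : Nat → Nat => pk61l (fun i2 => (pk61d (nat_lit 6) 
    (nat_lit 0x9365982ccf0d381205b86f0d38120ba7c2ccdb634e5b1164d8008ba7c0025b12e9da490d38120ba64f00096c45b8634e5b117634e04816e1b6f24dbcf1660b30d381205b86d8b30d38120ba6493c34e5b114008ba76f00096c4ba4d38120ba40096c45b8690d396c4590d381205b86) i2)) (g1 i1) (g1 (Nat.succ i1)) List.nil) fun j => (pk61d (nat_lit 8) 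
    (nat_lit 0x94928d857e7b7a736e6766655d56504744433f37352e2c272723211b150d070000) j))))) (nat_lit 0) (nat_lit 32) List.nil)) : Rw)
    = ?xq9037 → (Rw)) ?hq9037; (case hq9037 => (set_option maxRecDepth 1000000 in conv => lhs; reduce)); intro _; exact ?xq9037 : Rw)

/-- A1A1A1A1 -/
noncomputable def rE7_8 : Rw :=
  (by
  refine (?fq9038 : ((_root_.Cfsg.Agent.N2.Ex.Al.Ck.Rw.mk (nat_lit 633825300289358769517311819795) (pk61l (fun i1 => (pk61d (nat_lit 6) 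
    (nat_lit 0x904040) i1)) (nat_lit 0) (nat_lit 4) List.nil) (pk61l (fun i1 => (_root_.Prod.mk (pk61d (nat_lit 7) 
    (nat_lit 0x1f7dfaedd79f1ddb34e5bf7ac4e8d15e386cc14223c60b911818283) i1) (_root_.Prod.mk (pk61d (nat_lit 5) 
    (nat_lit 0x4d539aa739ce739cf739a95354e739ce739aa73) i1) ((fun g1 : Nat → Nat => pk61l (fun i2 => (pk61d (nat_lit 6) 
    (nat_lit 0x2f16c4ba7c34e048f0d38120ba7c2e9d8d38120ba46f0d396c459360022e9f0d396c45906d8008ba46f00096c4ba760025b12e91b6002dbc90d381236f000865b12e934e048d8ba400b60022e918008ba40096c4ba4634e0482e9180096c4ba4d38120ba4d396c4590634e5b116434e048) i2)) (g1 i1) (g1 (Nat.succ i1)) List.nil) fun j => (pk61d (nat_lit 8) 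
    (nat_lit 0x9895908b848179726d655f58504c4b4543423e3937342f2b241d17110a0a0400) j))))) (nat_lit 0) (nat_lit 31) List.nil)) : Rw)
    = ?xq9038 → (Rw)) ?hq9038; (case hq9038 => (set_option maxRecDepth 1000000 in conv => lhs; reduce)); intro _; exact ?xq9038 : Rw)

/-- A2A1A1 -/
noncomputable def rE7_9 : Rw :=
  (by
  refine (?fq9039 : ((_root_.Cfsg.Agent.N2.Ex.Al.Ck.Rw.mk (nat_lit 1392729177565071147159) (pk61l (fun i1 => (pk61d (nat_lit 3) 
    (nat_lit 0x888) i1)) (nat_lit 0) (nat_lit 4) List.nil) (pk61l (fun i1 => (_root_.Prod.mk (pk61d (nat_lit 7) 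
    (nat_lit 0xfbebb75e7c7665c77ec519515e386ac5828446cc111818283) i1) (_root_.Prod.mk (pk61d (nat_lit 6) 
    (nat_lit 0x51545445a69a4da9d144d51545151a69369a44d467) i1) ((fun g1 : Nat → Nat => pk61l (fun i2 => (pk61d (nat_lit 6) 
    (nat_lit 0x82b6f082b6f082b6f000a4dbc20adbc18f46ef0414f46ef04146002936f044800a4dbc002936f04486002936f041461051800882a43d1bbc1053d1bbc10518008f46d10518008f46d105105184146) i2)) (g1 i1) (g1 (Nat.succ i1)) List.nil) fun j => (pk61d (nat_lit 7) 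
    (nat_lit 0x69cb86ed8a73633f74c96aa509d1223854a8d0c181810000000) j))))) (nat_lit 0) (nat_lit 28) List.nil)) : Rw)
    = ?xq9039 → (Rw)) ?hq9039; (case hq9039 => (set_option maxRecDepth 1000000 in conv => lhs; reduce)); intro _; exact ?xq9039 : Rw)

/-- A1A1A1A1A1 -/
noncomputable def rE7_10 : Rw :=
  (by
  refine (?fq9040 : ((_root_.Cfsg.Agent.N2.Ex.Al.Ck.Rw.mk (nat_lit 633825300879654579876017471571) (pk61l (fun i1 => (pk61d (nat_lit 6) 
    (nat_lit 0x6904040) i1)) (nat_lit 0) (nat_lit 5) List.nil) (pk61l (fun i1 => (_root_.Prod.mk (pk61d (nat_lit 7) 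
    (nat_lit 0x7df7ebb75e3bb2deb13a33c70d98222e44283) i1) (_root_.Prod.mk (pk61d (nat_lit 6) 
    (nat_lit 0x1739780e8208177575ce5ce5e0820817) i1) ((fun g1 : Nat → Nat => pk61l (fun i2 => (pk61d (nat_lit 6) 
    (nat_lit 0xbc20af0d38123c34e0482e9f3634e5b1164d8008ba7c0025b12e9d800b6f00096c45b8634e048dbc00220a34e048d800b60022e90025b12e934e0482e934e5b116434e048) i2)) (g1 i1) (g1 (Nat.succ i1)) List.nil) fun j => (pk61d (nat_lit 7) 
    (nat_lit 0x2edaaf4a5ca86f9bb358992223a74d162028200) j))))) (nat_lit 0) (nat_lit 21) List.nil)) : Rw)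
    = ?xq9040 → (Rw)) ?hq9040; (case hq9040 => (set_option maxRecDepth 1000000 in conv => lhs; reduce)); intro _; exact ?xq9040 : Rw)

/-- A3 -/
noncomputable def rE7_11 : Rw :=
  (by
  refine (?fq9041 : ((_root_.Cfsg.Agent.N2.Ex.Al.Ck.Rw.mk (nat_lit 5067126906235239879172611) (pk61l (fun i1 => (pk61d (nat_lit 4) 
    (nat_lit 0x910) i1)) (nat_lit 0) (nat_lit 3) List.nil) (pk61l (fun i1 => (_root_.Prod.mk (pk61d (nat_lit 7) 
    (nat_lit 0xfbefc76ebcf8edd9ab464c77a5c78d1623c74d99305ab1398244460b1418284) i1) (_root_.Prod.mk (pk61d (nat_lit 5) 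
    (nat_lit 0xc43187e1fb7e378de1f8c3df0c3df87e318de1fbc3dfb) i1) ((fun g1 : Nat → Nat => pk61l (fun i2 => (pk61d (nat_lit 6) 
    (nat_lit 0x2f03ebc043d810f20025b1a72043b40096c69176c80096c69332002b7cb400b2f05b400b6f00096c691810c0080096c6914c0025b1a43e810fc0025b1a45c80096c69d800b60025b1a46d800b2002b410edf0c043cbc0025b1a45185043dbc0025b1a4c0025b1a45) i2)) (g1 i1) (g1 (Nat.succ i1)) List.nil) fun j => (pk61d (nat_lit 8) 
    (nat_lit 0x8c898683807a77706f6864635f5d5953514f4843413e37312e2724211d1c1811100c060000) j))))) (nat_lit 0) (nat_lit 36) List.nil)) : Rw)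
    = ?xq9041 → (Rw)) ?hq9041; (case hq9041 => (set_option maxRecDepth 1000000 in conv => lhs; reduce)); intro _; exact ?xq9041 : Rw)

/-- A2A2 -/
noncomputable def rE7_12 : Rw :=
  (by
  refine (?fq9042 : ((_root_.Cfsg.Agent.N2.Ex.Al.Ck.Rw.mk (nat_lit 46730671726814693817065991938506887) (pk61l (fun i1 => (pk61d (nat_lit 6) 
    (nat_lit 0xc42040) i1)) (nat_lit 0) (nat_lit 4) List.nil) (pk61l (fun i1 => (_root_.Prod.mk (pk61d (nat_lit 7) 
    (nat_lit 0x3efaf1dbaf1dbb3463bf6294a890d82c506090c1618284) i1) (_root_.Prod.mk (pk61d (nat_lit 6) 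
    (nat_lit 0x895555555561861861851451555562555455451) i1) ((fun g1 : Nat → Nat => pk61l (fun i2 => (pk61d (nat_lit 6) 
    (nat_lit 0x34ef12078484078481e1214d3a4f1214d3a4f1234e93c48434e071936f0610d381c64dbc18d381c64dbc185043bbc48b043bbc484043bbc48f46ef1210b3d1bbc4853d1bbc48b270078f12149c01e3c489c01e3c48448c3043d1bbc48430b3d1bbc48f46ef12105) i2)) (g1 i1) (g1 (Nat.succ i1)) List.nil) fun j => (pk61d (nat_lit 8) 
    (nat_lit 0x8a86827f7b75706a6159504a443f38322c251f181716140e0c0700) j))))) (nat_lit 0) (nat_lit 26) List.nil)) : Rw)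
    = ?xq9042 → (Rw)) ?hq9042; (case hq9042 => (set_option maxRecDepth 1000000 in conv => lhs; reduce)); intro _; exact ?xq9042 : Rw)

/-- A2A1A1A1 -/
noncomputable def rE7_13 : Rw :=
  (by
  refine (?fq9043 : ((_root_.Cfsg.Agent.N2.Ex.Al.Ck.Rw.mk (nat_lit 1983024987923776798935) (pk61l (fun i1 => (pk61d (nat_lit 3) 
    (nat_lit 0x6888) i1)) (nat_lit 0) (nat_lit 5) List.nil) (pk61l (fun i1 => (_root_.Prod.mk (pk61d (nat_lit 7) 
    (nat_lit 0x3efaedd78e5c7628bc70c58223644283) i1) (_root_.Prod.mk (pk61d (nat_lit 6) 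
    (nat_lit 0x5d9657a285e86576595e85e8668) i1) ((fun g1 : Nat → Nat => pk61l (fun i2 => (pk61d (nat_lit 6) 
    (nat_lit 0x59893c2cc20adbc2cc20adbc002936f0b316624f0b3000a4dbc2cc002936f000a4dbc2cc002598d8b316624f16624f0b30b3000966362cc2cc) i2)) (g1 i1) (g1 (Nat.succ i1)) List.nil) fun j => (pk61d (nat_lit 7) 
    (nat_lit 0x13234078d57a84678e15222c4820400000) j))))) (nat_lit 0) (nat_lit 18) List.nil)) : Rw)
    = ?xq9043 → (Rw)) ?hq9043; (case hq9043 => (set_option maxRecDepth 1000000 in conv => lhs; reduce)); intro _; exact ?xq9043 : Rw)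

/-- A1A1A1A1A1A1 -/
noncomputable def rE7_14 : Rw :=
  (by
  refine (?fq9044 : ((_root_.Cfsg.Agent.N2.Ex.Al.Ck.Rw.mk (nat_lit 166154133298415363785570157061996627) (pk61l (fun i1 => (pk61d (nat_lit 6) 
    (nat_lit 0xd86904040) i1)) (nat_lit 0) (nat_lit 6) List.nil) (pk61l (fun i1 => (_root_.Prod.mk (pk61d (nat_lit 7) 
    (nat_lit 0x7df7ebb71dd96c467888883) i1) (_root_.Prod.mk (pk61d (nat_lit 6) 
    (nat_lit 0x234a38e08e08234a38e3) i1) ((fun g1 : Nat → Nat => pk61l (fun i2 => (pk61d (nat_lit 6) 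
    (nat_lit 0x2f3c34e048f0d38120ba7c34e5b1164d8008ba7c0025b12e9d80096c45b860020022e934e0482e934e048) i2)) (g1 i1) (g1 (Nat.succ i1)) List.nil) fun j => (pk61d (nat_lit 6) 
    (nat_lit 0xeb7db1aa379740e38a100) j))))) (nat_lit 0) (nat_lit 13) List.nil)) : Rw)
    = ?xq9044 → (Rw)) ?hq9044; (case hq9044 => (set_option maxRecDepth 1000000 in conv => lhs; reduce)); intro _; exact ?xq9044 : Rw)

/-- A3A1 -/
noncomputable def rE7_15 : Rw :=
  (by
  refine (?fq9045 : ((_root_.Cfsg.Agent.N2.Ex.Al.Ck.Rw.mk (nat_lit 654870282027121390468032626823) (pk61l (fun i1 => (pk61d (nat_lit 5) 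
    (nat_lit 0xd8820) i1)) (nat_lit 0) (nat_lit 4) List.nil) (pk61l (fun i1 => (_root_.Prod.mk (pk61d (nat_lit 7) 
    (nat_lit 0xfbebc76e7c76ecd16294586e9c30304888c1618284) i1) (_root_.Prod.mk (pk61d (nat_lit 6) 
    (nat_lit 0x75556185a69a6a79d44d555d85a85a694693) i1) ((fun g1 : Nat → Nat => pk61l (fun i2 => (pk61d (nat_lit 6) 
    (nat_lit 0x36f09c01e36109c01e36bbc2eef0b18008f476f0c0023d1dbc3040023d1dbc3060023d1dbc3041872410c41c9043152109c01e3c270078f042c60023d1b4418b0023d1b460023d1b4415218008f46d) i2)) (g1 i1) (g1 (Nat.succ i1)) List.nil) fun j => (pk61d (nat_lit 7) 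
    (nat_lit 0x69cf86e59ab3a33e6ac162a5290f1e3854a0e1014000) j))))) (nat_lit 0) (nat_lit 24) List.nil)) : Rw)
    = ?xq9045 → (Rw)) ?hq9045; (case hq9045 => (set_option maxRecDepth 1000000 in conv => lhs; reduce)); intro _; exact ?xq9045 : Rw)

/-- A3A1 -/
noncomputable def rE7_16 : Rw :=
  (by
  refine (?fq9046 : ((_root_.Cfsg.Agent.N2.Ex.Al.Ck.Rw.mk (nat_lit 74436767763955290135838870883341959303) (pk61l (fun i1 => (pk61d (nat_lit 6) 
    (nat_lit 0xf02040) i1)) (nat_lit 0) (nat_lit 4) List.nil) (pk61l (fun i1 => (_root_.Prod.mk (pk61d (nat_lit 7) 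
    (nat_lit 0x3d78edd79f1dbb3465c77ec52a32e545890c90c1618284) i1) (_root_.Prod.mk (pk61d (nat_lit 6) 
    (nat_lit 0x8a289d89d75d7627628a2514514514514514514) i1) ((fun g1 : Nat → Nat => pk61l (fun i2 => (pk61d (nat_lit 6) 
    (nat_lit 0x1e81e8407a2c06e415207a4806e44806e43006e42c06e41472410d201b9072410cb1c90431072410c00882a410c00220a91200220a9041400882a415200220a90b00220a90400220a90c00220a9044800882a41400882a42cc00220a9042c00882a4) i2)) (g1 i1) (g1 (Nat.succ i1)) List.nil) fun j => (pk61d (nat_lit 8) 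
    (nat_lit 0x83817e7b76736f6b67635e5b56514d464039322c262019130c0500) j))))) (nat_lit 0) (nat_lit 26) List.nil)) : Rw)
    = ?xq9046 → (Rw)) ?hq9046; (case hq9046 => (set_option maxRecDepth 1000000 in conv => lhs; reduce)); intro _; exact ?xq9046 : Rw)

/-- A2A2A1 -/
noncomputable def rE7_17 : Rw :=
  (by
  refine (?fq9047 : ((_root_.Cfsg.Agent.N2.Ex.Al.Ck.Rw.mk (nat_lit 20577343014223004829879) (pk61l (fun i1 => (pk61d (nat_lit 3) 
    (nat_lit 0x5888) i1)) (nat_lit 0) (nat_lit 5) List.nil) (pk61l (fun i1 => (_root_.Prod.mk (pk61d (nat_lit 7) 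
    (nat_lit 0xfbebaf3d996fd178d58a83660303) i1) (_root_.Prod.mk (pk61d (nat_lit 6) 
    (nat_lit 0x65e95691eb5965e5a591e66d) i1) ((fun g1 : Nat → Nat => pk61l (fun i2 => (pk61d (nat_lit 6) 
    (nat_lit 0x517231bbc4945cf469f042cf46ef082b6f0448634e3d1b441400a4dbc2cc002936f0448610518d416c64517231b7c10534e3d1f0f444144146) i2)) (g1 i1) (g1 (Nat.succ i1)) List.nil) fun j => (pk61d (nat_lit 7) 
    (nat_lit 0x4c8af5cb25690e1928306070600000) j))))) (nat_lit 0) (nat_lit 16) List.nil)) : Rw)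
    = ?xq9047 → (Rw)) ?hq9047; (case hq9047 => (set_option maxRecDepth 1000000 in conv => lhs; reduce)); intro _; exact ?xq9047 : Rw)

/-- A1A1A1A1A1A1A1 -/
noncomputable def rE7_18 : Rw :=
  (by
  refine (?fq9048 : ((_root_.Cfsg.Agent.N2.Ex.Al.Ck.Rw.mk (nat_lit 10799978099577742348168948143911600211) (pk61l (fun i1 => (pk61d (nat_lit 6) 
    (nat_lit 0x3cd86904040) i1)) (nat_lit 0) (nat_lit 7) List.nil) (pk61l (fun i1 => (_root_.Prod.mk (pk61d (nat_lit 7) 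
    (nat_lit 0x1f7d76e3bb2d8) i1) (_root_.Prod.mk (nat_lit 35) ((fun g1 : Nat → Nat => pk61l (fun i2 => (pk61d (nat_lit 6) 
    (nat_lit 0xbc34e048f0d38120ba7c34e5b1164d8008ba7c0025b12e9d80096c45b86) i2)) (g1 i1) (g1 (Nat.succ i1)) List.nil) fun j => (pk61d (nat_lit 6) 
    (nat_lit 0xa6685a4ce1c0) j))))) (nat_lit 0) (nat_lit 7) List.nil)) : Rw)
    = ?xq9048 → (Rw)) ?hq9048; (case hq9048 => (set_option maxRecDepth 1000000 in conv => lhs; reduce)); intro _; exact ?xq9048 : Rw)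

/-- A3A1A1 -/
noncomputable def rE7_19 : Rw :=
  (by
  refine (?fq9049 : ((_root_.Cfsg.Agent.N2.Ex.Al.Ck.Rw.mk (nat_lit 654870282174695343057709039767) (pk61l (fun i1 => (pk61d (nat_lit 5) 
    (nat_lit 0x1b20820) i1)) (nat_lit 0) (nat_lit 5) List.nil) (pk61l (fun i1 => (_root_.Prod.mk (pk61d (nat_lit 7) 
    (nat_lit 0x1f7d76e7c76588ae18182230305) i1) (_root_.Prod.mk (pk61d (nat_lit 6) 
    (nat_lit 0x207249249275dc8249245e4) i1) ((fun g1 : Nat → Nat => pk61l (fun i2 => (pk61d (nat_lit 6) 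
    (nat_lit 0xdbcdbcbbc105bbc10518f46ef0414f46ef04146002936f0610518414f4441463d1105) i2)) (g1 i1) (g1 (Nat.succ i1)) List.nil) fun j => (pk61d (nat_lit 6) 
    (nat_lit 0xbacaa685b50f38e38b244100) j))))) (nat_lit 0) (nat_lit 15) List.nil)) : Rw)
    = ?xq9049 → (Rw)) ?hq9049; (case hq9049 => (set_option maxRecDepth 1000000 in conv => lhs; reduce)); intro _; exact ?xq9049 : Rw)

/-- A3A1A1 -/
noncomputable def rE7_20 : Rw :=
  (by
  refine (?fq9050 : ((_root_.Cfsg.Agent.N2.Ex.Al.Ck.Rw.mk (nat_lit 189518835336522601191088354387558551) (pk61l (fun i1 => (pk61d (nat_lit 6) 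
    (nat_lit 0x30102040) i1)) (nat_lit 0) (nat_lit 5) List.nil) (pk61l (fun i1 => (_root_.Prod.mk (pk61d (nat_lit 7) 
    (nat_lit 0xfbebb73e3b32dfa32a2b5626c303) i1) (_root_.Prod.mk (pk61d (nat_lit 6) 
    (nat_lit 0x82b659965a289655d96605eb) i1) ((fun g1 : Nat → Nat => pk61l (fun i2 => (pk61d (nat_lit 6) 
    (nat_lit 0x93c93c5173d1a7c5173d1a7c18d38f46d10518d38f46d1051c90432cc1872410cb30d38f47c10518d38f47c1052cc1945cf4641465173d19052cc) i2)) (g1 i1) (g1 (Nat.succ i1)) List.nil) fun j => (pk61d (nat_lit 7) 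
    (nat_lit 0x4e992a23d6ab93a132487880408000) j))))) (nat_lit 0) (nat_lit 16) List.nil)) : Rw)
    = ?xq9050 → (Rw)) ?hq9050; (case hq9050 => (set_option maxRecDepth 1000000 in conv => lhs; reduce)); intro _; exact ?xq9050 : Rw)

/-- A3A2 -/
noncomputable def rE7_21 : Rw :=
  (by
  refine (?fq9051 : ((_root_.Cfsg.Agent.N2.Ex.Al.Ck.Rw.mk (nat_lit 9969209968386870440588594427742650519) (pk61l (fun i1 => (pk61d (nat_lit 6) 
    (nat_lit 0x38102040) i1)) (nat_lit 0) (nat_lit 5) List.nil) (pk61l (fun i1 => (_root_.Prod.mk (pk61d (nat_lit 7) 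
    (nat_lit 0x3ef6ebcf8eccb8efd19514d86) i1) (_root_.Prod.mk (pk61d (nat_lit 6) 
    (nat_lit 0xadeadea69a5ca5e799719) i1) ((fun g1 : Nat → Nat => pk61l (fun i2 => (pk61d (nat_lit 6) 
    (nat_lit 0x20a93c517043b7c105030d945c10edf0414634e3d1b4414634e3d1b441472410c414634e04a93c1c9043105517231b7c10b1945c8c6df042d6624f0659893c) i2)) (g1 i1) (g1 (Nat.succ i1)) List.nil) fun j => (pk61d (nat_lit 7) 
    (nat_lit 0x1528488af1a2d4c80d111210200) j))))) (nat_lit 0) (nat_lit 14) List.nil)) : Rw)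
    = ?xq9051 → (Rw)) ?hq9051; (case hq9051 => (set_option maxRecDepth 1000000 in conv => lhs; reduce)); intro _; exact ?xq9051 : Rw)

/-- A2A2A2 -/
noncomputable def rE7_22 : Rw :=
  (by
  refine (?fq9052 : ((_root_.Cfsg.Agent.N2.Ex.Al.Ck.Rw.mk (nat_lit 46730671726834026004855239548602551) (pk61l (fun i1 => (pk61d (nat_lit 6) 
    (nat_lit 0xc45102040) i1)) (nat_lit 0) (nat_lit 6) List.nil) (pk61l (fun i1 => (_root_.Prod.mk (pk61d (nat_lit 7) 
    (nat_lit 0xfbebaecbea0c06) i1) (_root_.Prod.mk (pk61d (nat_lit 6) 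
    (nat_lit 0x9a69a4b669a6) i1) ((fun g1 : Nat → Nat => pk61l (fun i2 => (pk61d (nat_lit 6) 
    (nat_lit 0x34ef041465175a4f05196624f0518d38f46d105002936f0448634e598f05184146517604146) i2)) (g1 i1) (g1 (Nat.succ i1)) List.nil) fun j => (pk61d (nat_lit 6) 
    (nat_lit 0x32b257d8409180) j))))) (nat_lit 0) (nat_lit 8) List.nil)) : Rw)
    = ?xq9052 → (Rw)) ?hq9052; (case hq9052 => (set_option maxRecDepth 1000000 in conv => lhs; reduce)); intro _; exact ?xq9052 : Rw)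

/-- A3A1A1A1 -/
noncomputable def rE7_23 : Rw :=
  (by
  refine (?fq9053 : ((_root_.Cfsg.Agent.N2.Ex.Al.Ck.Rw.mk (nat_lit 654870282764991153416414691543) (pk61l (fun i1 => (pk61d (nat_lit 5) 
    (nat_lit 0x36620820) i1)) (nat_lit 0) (nat_lit 6) List.nil) (pk61l (fun i1 => (_root_.Prod.mk (pk61d (nat_lit 7) 
    (nat_lit 0x7df5db8d870c0885) i1) (_root_.Prod.mk (pk61d (nat_lit 6) 
    (nat_lit 0x237ecb287e3b2c) i1) ((fun g1 : Nat → Nat => pk61l (fun i2 => (pk61d (nat_lit 6) 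
    (nat_lit 0x36f000882bc2cc93c2cc59893c2cc002936f000882a42cc2cc5982cc) i2)) (g1 i1) (g1 (Nat.succ i1)) List.nil) fun j => (pk61d (nat_lit 6) 
    (nat_lit 0x96371848d186100) j))))) (nat_lit 0) (nat_lit 9) List.nil)) : Rw)
    = ?xq9053 → (Rw)) ?hq9053; (case hq9053 => (set_option maxRecDepth 1000000 in conv => lhs; reduce)); intro _; exact ?xq9053 : Rw)

/-- A4 -/
noncomputable def rE7_24 : Rw :=
  (by
  refine (?fq9054 : ((_root_.Cfsg.Agent.N2.Ex.Al.Ck.Rw.mk (nat_lit 5070779361561834370392975) (pk61l (fun i1 => i1) (nat_lit 0) (nat_lit 4) List.nil) (pk61l (fun i1 => (_root_.Prod.mk (pk61d (nat_lit 7) 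
    (nat_lit 0xfbe3b73dba31cb8b11d30589c90c1618284) i1) (_root_.Prod.mk (pk61d (nat_lit 6) 
    (nat_lit 0x8a18619e79da69a8a18619da9da6a7) i1) ((fun g1 : Nat → Nat => pk61l (fun i2 => (pk61d (nat_lit 6) 
    (nat_lit 0xd3a4dbc10d3a4dbc10534e936f0434e936f0418d3a4dbc10c34e936f0414d3a4dbc10518c14c18c18514c) i2)) (g1 i1) (g1 (Nat.succ i1)) List.nil) fun j => (pk61d (nat_lit 6) 
    (nat_lit 0x39cec99f6112c92071c6145103080000) j))))) (nat_lit 0) (nat_lit 20) List.nil)) : Rw)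
    = ?xq9054 → (Rw)) ?hq9054; (case hq9054 => (set_option maxRecDepth 1000000 in conv => lhs; reduce)); intro _; exact ?xq9054 : Rw)

/-- A3A2A1 -/
noncomputable def rE7_25 : Rw :=
  (by
  refine (?fq9055 : ((_root_.Cfsg.Agent.N2.Ex.Al.Ck.Rw.mk (nat_lit 2476798209916797221869815) (pk61l (fun i1 => (pk61d (nat_lit 3) 
    (nat_lit 0x35888) i1)) (nat_lit 0) (nat_lit 6) List.nil) (pk61l (fun i1 => (_root_.Prod.mk (pk61d (nat_lit 7) 
    (nat_lit 0xfbebae578c4d83) i1) (_root_.Prod.mk (pk61d (nat_lit 6) 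
    (nat_lit 0x7e6b2e7e6b2e) i1) ((fun g1 : Nat → Nat => pk61l (fun i2 => (pk61d (nat_lit 6) 
    (nat_lit 0xa4dbc2cc5173d1a7c10b030598936f000a4dbc2cc5176041465982cc) i2)) (g1 i1) (g1 (Nat.succ i1)) List.nil) fun j => (pk61d (nat_lit 6) 
    (nat_lit 0x2781844a284000) j))))) (nat_lit 0) (nat_lit 8) List.nil)) : Rw)
    = ?xq9055 → (Rw)) ?hq9055; (case hq9055 => (set_option maxRecDepth 1000000 in conv => lhs; reduce)); intro _; exact ?xq9055 : Rw)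

/-- A4A1 -/
noncomputable def rE7_26 : Rw :=
  (by
  refine (?fq9056 : ((_root_.Cfsg.Agent.N2.Ex.Al.Ck.Rw.mk (nat_lit 5071074509467013723218863) (pk61l (fun i1 => (pk61d (nat_lit 3) 
    (nat_lit 0x5688) i1)) (nat_lit 0) (nat_lit 5) List.nil) (pk61l (fun i1 => (_root_.Prod.mk (pk61d (nat_lit 7) 
    (nat_lit 0xfbe39edd12dd2c4e48304) i1) (_root_.Prod.mk (pk61d (nat_lit 6) 
    (nat_lit 0x969928b5e9699287ad) i1) ((fun g1 : Nat → Nat => pk61l (fun i2 => (pk61d (nat_lit 6) 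
    (nat_lit 0x34e936f0414c34e936f0414c34e936f0414c34e936f0414634e936f0414c146146) i2)) (g1 i1) (g1 (Nat.succ i1)) List.nil) fun j => (pk61d (nat_lit 6) 
    (nat_lit 0x2c91c50c102082080000) j))))) (nat_lit 0) (nat_lit 12) List.nil)) : Rw)
    = ?xq9056 → (Rw)) ?hq9056; (case hq9056 => (set_option maxRecDepth 1000000 in conv => lhs; reduce)); intro _; exact ?xq9056 : Rw)

/-- D4 -/
noncomputable def rE7_27 : Rw :=
  (by
  refine (?fq9057 : ((_root_.Cfsg.Agent.N2.Ex.Al.Ck.Rw.mk (nat_lit 634169471080996792130168513043) (pk61l (fun i1 => (pk61d (nat_lit 4) 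
    (nat_lit 0x9410) i1)) (nat_lit 0) (nat_lit 4) List.nil) (pk61l (fun i1 => (_root_.Prod.mk (pk61d (nat_lit 7) 
    (nat_lit 0x3efbedd79f1d97a34578d98182230305) i1) (_root_.Prod.mk (pk61d (nat_lit 6) 
    (nat_lit 0x9dd9dd9e79e79dd75d9e79e7767) i1) ((fun g1 : Nat → Nat => pk61l (fun i2 => (pk61d (nat_lit 6) 
    (nat_lit 0xbc01b0fa2e993c34e0482e9f006d6c4b33634e0482e91bc34e5b1164d8d396c45906d800b6f00080096c45ba401b0fa2e99006d6c4b3000b634e0482e918d38120ba4d396c459060025b116e90634e5b1164) i2)) (g1 i1) (g1 (Nat.succ i1)) List.nil) fun j => (pk61d (nat_lit 7) 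
    (nat_lit 0x1bf664bb5a7477eedcb2569511b2a38300) j))))) (nat_lit 0) (nat_lit 18) List.nil)) : Rw)
    = ?xq9057 → (Rw)) ?hq9057; (case hq9057 => (set_option maxRecDepth 1000000 in conv => lhs; reduce)); intro _; exact ?xq9057 : Rw)

/-- A3A3 -/
noncomputable def rE7_28 : Rw :=
  (by
  refine (?fq9058 : ((_root_.Cfsg.Agent.N2.Ex.Al.Ck.Rw.mk (nat_lit 9969210623257151222554759920380543127) (pk61l (fun i1 => (pk61d (nat_lit 6) 
    (nat_lit 0xe1b102040) i1)) (nat_lit 0) (nat_lit 6) List.nil) (pk61l (fun i1 => (_root_.Prod.mk (pk61d (nat_lit 7) 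
    (nat_lit 0x1f7b73e3b2286) i1) (_root_.Prod.mk (pk61d (nat_lit 6) 
    (nat_lit 0x20aaaaaa7df) i1) ((fun g1 : Nat → Nat => pk61l (fun i2 => (pk61d (nat_lit 6) 
    (nat_lit 0x36f07248c441461c92311051c93d190518724f4641400882a42cc1800882a42cc) i2)) (g1 i1) (g1 (Nat.succ i1)) List.nil) fun j => (pk61d (nat_lit 6) 
    (nat_lit 0xae989c54f1c0) j))))) (nat_lit 0) (nat_lit 7) List.nil)) : Rw)
    = ?xq9058 → (Rw)) ?hq9058; (case hq9058 => (set_option maxRecDepth 1000000 in conv => lhs; reduce)); intro _; exact ?xq9058 : Rw)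

/-- D4A1 -/
noncomputable def rE7_29 : Rw :=
  (by
  refine (?fq9059 : ((_root_.Cfsg.Agent.N2.Ex.Al.Ck.Rw.mk (nat_lit 74626287254162092126266947165296263303) (pk61l (fun i1 => (pk61d (nat_lit 6) 
    (nat_lit 0x306c2040) i1)) (nat_lit 0) (nat_lit 5) List.nil) (pk61l (fun i1 => (_root_.Prod.mk (pk61d (nat_lit 7) 
    (nat_lit 0xf5e3b73e3b76688b0c304) i1) (_root_.Prod.mk (pk61d (nat_lit 6) 
    (nat_lit 0xaebaeba28a28820820) i1) ((fun g1 : Nat → Nat => pk61l (fun i2 => (pk61d (nat_lit 6) 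
    (nat_lit 0x1c9238107248e07248e05487248e054861c9598a4c187256629304187256629307256629304152105486) i2)) (g1 i1) (g1 (Nat.succ i1)) List.nil) fun j => (pk61d (nat_lit 6) 
    (nat_lit 0x38cefa626d3346103000) j))))) (nat_lit 0) (nat_lit 12) List.nil)) : Rw)
    = ?xq9059 → (Rw)) ?hq9059; (case hq9059 => (set_option maxRecDepth 1000000 in conv => lhs; reduce)); intro _; exact ?xq9059 : Rw)

/-- A4A2 -/
noncomputable def rE7_30 : Rw :=
  (by
  refine (?fq9060 : ((_root_.Cfsg.Agent.N2.Ex.Al.Ck.Rw.mk (nat_lit 5109443737140329590584303) (pk61l (fun i1 => (pk61d (nat_lit 3) 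
    (nat_lit 0x35688) i1)) (nat_lit 0) (nat_lit 6) List.nil) (pk61l (fun i1 => (_root_.Prod.mk (pk61d (nat_lit 7) 
    (nat_lit 0x3ef8dae9384) i1) (_root_.Prod.mk (pk61d (nat_lit 6) 
    (nat_lit 0x9aaba6aae) i1) ((fun g1 : Nat → Nat => pk61l (fun i2 => (pk61d (nat_lit 6) 
    (nat_lit 0x34e936f0414634e936f0414634e936f04146) i2)) (g1 i1) (g1 (Nat.succ i1)) List.nil) fun j => (pk61d (nat_lit 5) 
    (nat_lit 0x620800000) j))))) (nat_lit 0) (nat_lit 6) List.nil)) : Rw)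
    = ?xq9060 → (Rw)) ?hq9060; (case hq9060 => (set_option maxRecDepth 1000000 in conv => lhs; reduce)); intro _; exact ?xq9060 : Rw)

/-- A3A3A1 -/
def rE7_31 : Rw := (beta% (fun (vq0 : type_of% @_root_.List.nil.{0}) (vq1 : type_of% @_root_.List.cons.{0}) (vq2 : type_of% @_root_.Prod.mk.{0, 0}) => (
    ⟨74436767763957765688893562705169094903, (vq1 0 (vq1 1 (vq1 2 (vq1 4 (vq1 5 (vq1 6 (vq1 60 vq0))))))), (vq1 (vq2 101 (vq2 46 (vq1 12 (vq1 11 (vq1 60 (vq1 54 (vq1 36 (vq1 2 (vq1 0 vq0))))))))) (vq1 (vq2 117 (vq2 44 (vq1 60 (vq1 54 (vq1 36 (vq1 24 (vq1 22 (vq1 48 (vq1 0 vq0))))))))) (vq1 (vq2 122 (vq2 38 (vq1 11 (vq1 4 (vq1 60 (vq1 41 (vq1 17 (vq1 15 (vq1 23 (vq1 20 vq0)))))))))) vq0)))⟩ :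
    Cfsg.Agent.N2.Ex.Al.Ck.Rw))
    (@_root_.List.nil.{0}) (@_root_.List.cons.{0}) (@_root_.Prod.mk.{0, 0}))

/-- D4A1A1 -/
noncomputable def rE7_32 : Rw :=
  (by
  refine (?fq9061 : ((_root_.Cfsg.Agent.N2.Ex.Al.Ck.Rw.mk (nat_lit 74626287254162092273840899754972676247) (pk61l (fun i1 => (pk61d (nat_lit 6) 
    (nat_lit 0xc1b102040) i1)) (nat_lit 0) (nat_lit 6) List.nil) (pk61l (fun i1 => (_root_.Prod.mk (pk61d (nat_lit 7) 
    (nat_lit 0x1ebb73e3b2286) i1) (_root_.Prod.mk (pk61d (nat_lit 6) 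
    (nat_lit 0x2bb2cb2c8e3) i1) ((fun g1 : Nat → Nat => pk61l (fun i2 => (pk61d (nat_lit 6) 
    (nat_lit 0x24f07248e0b3061c92382cc1c9598a4c187256629306) i2)) (g1 i1) (g1 (Nat.succ i1)) List.nil) fun j => (pk61d (nat_lit 5) 
    (nat_lit 0xeee8e38400) j))))) (nat_lit 0) (nat_lit 7) List.nil)) : Rw)
    = ?xq9061 → (Rw)) ?hq9061; (case hq9061 => (set_option maxRecDepth 1000000 in conv => lhs; reduce)); intro _; exact ?xq9061 : Rw)

/-- A5 -/
noncomputable def rE7_33 : Rw :=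
  (by
  refine (?fq9062 : ((_root_.Cfsg.Agent.N2.Ex.Al.Ck.Rw.mk (nat_lit 47100825707150871008680020424549263) (pk61l (fun i1 => (pk61d (nat_lit 6) 
    (nat_lit 0x270c2040) i1)) (nat_lit 0) (nat_lit 5) List.nil) (pk61l (fun i1 => (_root_.Prod.mk (pk61d (nat_lit 7) 
    (nat_lit 0x3ef8eda31c42430305) i1) (_root_.Prod.mk (pk61d (nat_lit 6) 
    (nat_lit 0xae9a6db64ae9a64) i1) ((fun g1 : Nat → Nat => pk61l (fun i2 => (pk61d (nat_lit 6) 
    (nat_lit 0x7248e24f04307248d69f0b1851c9235a7c2c60023d1dbc1060023d1dbc106145306185) i2)) (g1 i1) (g1 (Nat.succ i1)) List.nil) fun j => (pk61d (nat_lit 6) 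
    (nat_lit 0x2f9de58e1440c2000) j))))) (nat_lit 0) (nat_lit 10) List.nil)) : Rw)
    = ?xq9062 → (Rw)) ?hq9062; (case hq9062 => (set_option maxRecDepth 1000000 in conv => lhs; reduce)); intro _; exact ?xq9062 : Rw)

/-- A5 -/
noncomputable def rE7_34 : Rw :=
  (by
  refine (?fq9063 : ((_root_.Cfsg.Agent.N2.Ex.Al.Ck.Rw.mk (nat_lit 82412135738669854908332741232454820751) (pk61l (fun i1 => (pk61d (nat_lit 6) 
    (nat_lit 0x3a0c2040) i1)) (nat_lit 0) (nat_lit 5) List.nil) (pk61l (fun i1 => (_root_.Prod.mk (pk61d (nat_lit 7) 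
    (nat_lit 0xf1db9edd18e5c58830305) i1) (_root_.Prod.mk (pk61d (nat_lit 6) 
    (nat_lit 0xaebaebaeb965965965) i1) ((fun g1 : Nat → Nat => pk61l (fun i2 => (pk61d (nat_lit 6) 
    (nat_lit 0x30043d80c010f6140c010f630d4082a410c35020a90414d4082a410518c14614c) i2)) (g1 i1) (g1 (Nat.succ i1)) List.nil) fun j => (pk61d (nat_lit 6) 
    (nat_lit 0x2c9e16d43471440c2000) j))))) (nat_lit 0) (nat_lit 12) List.nil)) : Rw)
    = ?xq9063 → (Rw)) ?hq9063; (case hq9063 => (set_option maxRecDepth 1000000 in conv => lhs; reduce)); intro _; exact ?xq9063 : Rw)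

/-- D4A1A1A1 -/
def rE7_35 : Rw := ⟨74626287254162092864136710113678328023, [0, 1, 2, 4, 6, 27, 48], [(113, 44, [12, 11, 60, 36, 24, 22]), (118, 44, [12, 11, 60, 36]), (122, 44, [60, 36])]⟩

/-- A5A1 -/
noncomputable def rE7_36 : Rw :=
  (by
  refine (?fq9064 : ((_root_.Cfsg.Agent.N2.Ex.Al.Ck.Rw.mk (nat_lit 47100825707151166156585199777375151) (pk61l (fun i1 => (pk61d (nat_lit 6) 
    (nat_lit 0x9c50c2040) i1)) (nat_lit 0) (nat_lit 6) List.nil) (pk61l (fun i1 => (_root_.Prod.mk (pk61d (nat_lit 7) 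
    (nat_lit 0x7df1a0906) i1) (_root_.Prod.mk (pk61d (nat_lit 6) 
    (nat_lit 0x2caadb2a) i1) ((fun g1 : Nat → Nat => pk61l (fun i2 => (pk61d (nat_lit 6) 
    (nat_lit 0x1c923893c105187248c6ef1234e936f0414c146) i2)) (g1 i1) (g1 (Nat.succ i1)) List.nil) fun j => (pk61d (nat_lit 5) 
    (nat_lit 0x35150800) j))))) (nat_lit 0) (nat_lit 5) List.nil)) : Rw)
    = ?xq9064 → (Rw)) ?hq9064; (case hq9064 => (set_option maxRecDepth 1000000 in conv => lhs; reduce)); intro _; exact ?xq9064 : Rw)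

/-- A5A1 -/
noncomputable def rE7_37 : Rw :=
  (by
  refine (?fq9065 : ((_root_.Cfsg.Agent.N2.Ex.Al.Ck.Rw.mk (nat_lit 82412135738669855203480646411807646639) (pk61l (fun i1 => (pk61d (nat_lit 6) 
    (nat_lit 0xe850c2040) i1)) (nat_lit 0) (nat_lit 6) List.nil) (pk61l (fun i1 => (_root_.Prod.mk (pk61d (nat_lit 7) 
    (nat_lit 0x3c73dba2586) i1) (_root_.Prod.mk (pk61d (nat_lit 6) 
    (nat_lit 0xbacb2e9a6) i1) ((fun g1 : Nat → Nat => pk61l (fun i2 => (pk61d (nat_lit 6) 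
    (nat_lit 0x69e043904146030043d8518d4082a410518d38f46d146) i2)) (g1 i1) (g1 (Nat.succ i1)) List.nil) fun j => (pk61d (nat_lit 5) 
    (nat_lit 0x7acf38800) j))))) (nat_lit 0) (nat_lit 6) List.nil)) : Rw)
    = ?xq9065 → (Rw)) ?hq9065; (case hq9065 => (set_option maxRecDepth 1000000 in conv => lhs; reduce)); intro _; exact ?xq9065 : Rw)

/-- A5A2 -/
def rE7_38 : Rw := ⟨82412135738669893572708319727675012079, [0, 1, 2, 3, 5, 6, 58], [(109, 46, [6, 5, 4, 60, 54, 36, 14, 13]), (120, 42, [6, 5, 4, 60, 54, 36, 14, 13])]⟩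

/-- D5 -/
def rE7_39 : Rw := (beta% (fun (vq0 : type_of% @_root_.List.nil.{0}) (vq1 : type_of% @_root_.List.cons.{0}) (vq2 : type_of% @_root_.Prod.mk.{0, 0}) => (
    ⟨655214767077491452796810684319, (vq1 0 (vq1 1 (vq1 2 (vq1 3 (vq1 4 vq0))))), (vq1 (vq2 5 (vq2 45 vq0)) (vq1 (vq2 6 (vq2 40 vq0)) (vq1 (vq2 12 (vq2 45 (vq1 6 vq0))) (vq1 (vq2 48 (vq2 43 vq0)) (vq1 (vq2 69 (vq2 40 (vq1 6 vq0))) (vq1 (vq2 115 (vq2 45 (vq1 6 (vq1 60 (vq1 54 (vq1 10 (vq1 8 vq0))))))) (vq1 (vq2 118 (vq2 45 (vq1 60 (vq1 54 (vq1 10 (vq1 8 vq0)))))) (vq1 (vq2 125 (vq2 43 (vq1 60 (vq1 54 (vq1 10 (vq1 8 vq0)))))) vq0))))))))⟩ :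
    Cfsg.Agent.N2.Ex.Al.Ck.Rw))
    (@_root_.List.nil.{0}) (@_root_.List.cons.{0}) (@_root_.Prod.mk.{0, 0}))

/-- D5A1 -/
def rE7_40 : Rw := ⟨655214767667787263155516336095, [0, 1, 2, 3, 4, 6], [(5, 46, []), (48, 44, []), (118, 46, [60, 54, 10, 8]), (125, 44, [60, 54, 10, 8])]⟩

/-- A6 -/
def rE7_41 : Rw := (beta% (fun (vq0 : type_of% @_root_.List.nil.{0}) (vq1 : type_of% @_root_.List.cons.{0}) (vq2 : type_of% @_root_.Prod.mk.{0, 0}) => (
    ⟨2610589504910284878399606302517519279, (vq1 0 (vq1 1 (vq1 2 (vq1 3 (vq1 5 (vq1 44 vq0)))))), (vq1 (vq2 75 (vq2 42 (vq1 6 (vq1 5 vq0)))) (vq1 (vq2 109 (vq2 46 (vq1 6 (vq1 5 (vq1 4 (vq1 36 (vq1 10 (vq1 8 (vq1 16 (vq1 13 vq0)))))))))) (vq1 (vq2 115 (vq2 42 (vq1 6 (vq1 5 (vq1 4 (vq1 54 (vq1 24 (vq1 22 (vq1 2 (vq1 0 vq0)))))))))) (vq1 (vq2 125 (vq2 46 (vq1 12 (vq1 11 (vq1 60 (vq1 46 (vq1 24 (vq1 22 (vq1 9 (vq1 7 vq0)))))))))) vq0))))⟩ :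
    Cfsg.Agent.N2.Ex.Al.Ck.Rw))
    (@_root_.List.nil.{0}) (@_root_.List.cons.{0}) (@_root_.Prod.mk.{0, 0}))

/-- A7 -/
def rE7_42 : Rw := ⟨2657690330612403339274397804439041007, [0, 1, 2, 3, 5, 6, 39], [(125, 44, [6, 5, 4, 60, 36, 56, 8, 9, 7])]⟩

/-- D6 -/
def rE7_43 : Rw := ⟨84595497222893446224496426356745824159, [0, 1, 2, 3, 4, 48], [(6, 44, []), (69, 44, [6]), (115, 46, [41, 22, 23, 20]), (118, 46, [6, 41, 22, 23, 20])]⟩

/-- D6A1 -/
def rE7_44 : Rw := ⟨84595497222893446814792236715451475935, [0, 1, 2, 3, 4, 6, 48], [(118, 46, [60, 54, 10, 8])]⟩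

/-- E6 -/
def rE7_45 : Rw := ⟨47123232259592422029149144092503999, [0, 1, 2, 3, 4, 5], [(6, 46, []), (125, 46, [18, 60, 46, 49, 8, 23, 20])]⟩

/-- E7 -/
def rE7_46 : Rw := ⟨85070591730234615865843651857942052863, [0, 1, 2, 3, 4, 5, 6], []⟩

/-- the rows -/
noncomputable def rwE7 : List Rw := (beta% (fun (vq0 : List Cfsg.Agent.N2.Ex.Al.Ck.Rw) (vq1 : type_of% @_root_.List.nil.{0}) (vq2 : type_of% @_root_.List.cons.{0}) => (
    (let vqy1 : type_of% vq0 := (let vqy2 : type_of% vq0 := (let vqy3 : type_of% vq0 := (vq2 rE7_41 (vq2 rE7_42 (vq2 rE7_43 (vq2 rE7_44 (vq2 rE7_45 (vq2 rE7_46 vq1))))));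
    (vq2 rE7_35 (vq2 rE7_36 (vq2 rE7_37 (vq2 rE7_38 (vq2 rE7_39 (vq2 rE7_40 vqy3)))))));
    (let vqy4 : type_of% vqy2 := (vq2 rE7_29 (vq2 rE7_30 (vq2 rE7_31 (vq2 rE7_32 (vq2 rE7_33 (vq2 rE7_34 vqy2))))));
    (vq2 rE7_23 (vq2 rE7_24 (vq2 rE7_25 (vq2 rE7_26 (vq2 rE7_27 (vq2 rE7_28 vqy4))))))));
    (let vqy5 : type_of% vqy1 := (let vqy6 : type_of% vqy1 := (vq2 rE7_17 (vq2 rE7_18 (vq2 rE7_19 (vq2 rE7_20 (vq2 rE7_21 (vq2 rE7_22 vqy1))))));
    (vq2 rE7_11 (vq2 rE7_12 (vq2 rE7_13 (vq2 rE7_14 (vq2 rE7_15 (vq2 rE7_16 vqy6)))))));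
    (let vqy7 : type_of% vqy5 := (vq2 rE7_5 (vq2 rE7_6 (vq2 rE7_7 (vq2 rE7_8 (vq2 rE7_9 (vq2 rE7_10 vqy5))))));
    (vq2 rE7_0 (vq2 rE7_1 (vq2 rE7_2 (vq2 rE7_3 (vq2 rE7_4 vqy7)))))))) :
    List Cfsg.Agent.N2.Ex.Al.Ck.Rw))
    _ (@_root_.List.nil.{0}) (@_root_.List.cons.{0}))

/-- the larger invariant sets -/
noncomputable def kiE7 : List Ki :=
  (by
  refine (?fq9066 : ((pk61l (fun i1 => (_root_.Cfsg.Agent.N2.Ex.Al.Ck.Ki.mk (pk61d (nat_lit 126) 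
    (nat_lit 0xfe9200211473cf3ffd24004228e79e7c000000000000000000000000000000007db20000010c75e0fb6400000218ebc0000008451cf3ef800000108a39e7df000000211473cf3e0000004228e79e7c0000000000000000000000000000000f80000000010c75ff000000000218ebc0091240000431d780122480000863af00000000000000000000000000000003e000000000431c7fc0000000008638f002449000010c71e0048920000218e3f82480084400004bf049001088000097e0000000000831efc0000000001063dc0000000000439f780000000000873efe09200211000010fc12400422000021c78000084400004b8f00001088000097000000200472c4260000004008e5884c0000000000431d780000000000863af00000000000831ee00000000001063dc0000000000431c7800000000008638f00000021100001ae000000422000035c00900000000045b80120000000008b71e0000000000012e3c0000000000025c02480000000004b8049000000000097000000211000012e000000422000025c0000000000000000000000000000000000000000000116e00000000000022df800000000000043f0000000000000870000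00211000010e000000422000021c0200008000000298040001000000053000000000000010a00000000000002140090000000000438012000000000087000000000010c406000000000021880c0000008000000298000001000000053000000000000012e000000000000025c000000800000009800000100000001300000000000000a6000000000000014c00000000000004380000000000000872000000000000006400000000000000c0000000000000098000000000000013000000000000010a00000000000002140000000000000018000000000000003000000000000000200000000000000040000000000000000000000000000000) i1) (pk61d (nat_lit 10) 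
    (nat_lit 0x3e701800) (pk61d (nat_lit 2) 
    (nat_lit 0x8a8a2aaaaaaa8aa6aaaaa8) i1)) (pk61d (nat_lit 6) 
    (nat_lit 0xf0079aa0078c01e30c28e68860831418630e10020e10418c106208186182184080) i1) (pk61d (nat_lit 2) 
    (nat_lit 0x8a8e3aaaaeae8aaeaebae8) i1) ((fun g1 : Nat → Nat => pk61l (fun i2 => (pk61d (nat_lit 1) 
    (nat_lit 0x80820404201080804101080640104104010a10481080608803100808204044820204) i2)) (g1 i1) (g1 (Nat.succ i1)) List.nil) fun j => (pk61d (nat_lit 9) 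
    (nat_lit 0x88c4623118542a06fc7abd5dce773b81b2d265b117ab657aa1429a49a310a7e3b9dce0693116ca84d230fc70311508c38150701c0000) j)) (pk61d (nat_lit 6) 
    (nat_lit 0x1801b01801840051036e7103184c450c31710c06040c51441021460b1103044040) i1))) (nat_lit 0) (nat_lit 47) List.nil) : List Ki)
    = ?xq9066 → (List Ki)) ?hq9066; (case hq9066 => (set_option maxRecDepth 1000000 in set_option simprocs false in conv => lhs; reduce; dsimp only)); intro _; exact ?xq9066 : List Ki)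

/-- sums of roots -/
def spE7 : List (ℕ × ℕ) := []

/-- the surviving masks -/
def smE7 : List ℕ := [0, 10799978099577742348168948143911600211, 74626287254162092864136710113678328023, 82412135738669893572708319727675012079, 2657690330612403339274397804439041007, 84595497222893446814792236715451475935, 47123232259592422029149144092503999]

private theorem rowKE7 : ∀ j < 47, tbE7.row rwE7 j = true :=
  row_of_K _ _ _ (by (first | (rewrite [Cfsg.Agent.KOa46981a.e0, Cfsg.Agent.KOa46981a.e10, Cfsg.Agent.KOa46981a.e11, Cfsg.Agent.KOa46981a.e13, Cfsg.Agent.KOa46981a.e1]; decide +kernel) | decide +kernel))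

theorem rowE7_0 : aL (fun j => tbE7.row rwE7 (j + 0)) 16 = true :=
  aL_iff.2 fun j hj => rowKE7 _ (by omega)

theorem rowE7_16 : aL (fun j => tbE7.row rwE7 (j + 16)) 16 = true :=
  aL_iff.2 fun j hj => rowKE7 _ (by omega)

theorem rowE7_32 : aL (fun j => tbE7.row rwE7 (j + 32)) 15 = true :=
  aL_iff.2 fun j hj => rowKE7 _ (by omega)

theorem rowE7 : ∀ j < rwE7.length, tbE7.row rwE7 j = true := fun j (hj : j < 47) => by
  by_cases h : j < 16
  · simpa only [Nat.sub_add_cancel (show 0 ≤ j by omega)] using aL_iff.1 rowE7_0 (j - 0) (by omega)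
  by_cases h : j < 32
  · simpa only [Nat.sub_add_cancel (show 16 ≤ j by omega)] using aL_iff.1 rowE7_16 (j - 16) (by omega)
  simpa only [Nat.sub_add_cancel (show 32 ≤ j by omega)] using aL_iff.1 rowE7_32 (j - 32) (by omega)

private theorem staKE7 : ∀ j < 47, tbE7.sta 7 rwE7 kiE7 spE7 smE7 j = true :=
  sta_of_K _ _ _ _ _ _ _ (by decide +kernel)

theorem staE7_0 : aL (fun j => tbE7.sta 7 rwE7 kiE7 spE7 smE7 (j + 0)) 16 = true :=
  aL_iff.2 fun j hj => staKE7 _ (by omega)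

theorem staE7_16 : aL (fun j => tbE7.sta 7 rwE7 kiE7 spE7 smE7 (j + 16)) 16 = true :=
  aL_iff.2 fun j hj => staKE7 _ (by omega)

theorem staE7_32 : aL (fun j => tbE7.sta 7 rwE7 kiE7 spE7 smE7 (j + 32)) 15 = true :=
  aL_iff.2 fun j hj => staKE7 _ (by omega)

theorem staE7 : ∀ j < rwE7.length, tbE7.sta 7 rwE7 kiE7 spE7 smE7 j = true := fun j (hj : j < 47) => by
  by_cases h : j < 16
  · simpa only [Nat.sub_add_cancel (show 0 ≤ j by omega)] using aL_iff.1 staE7_0 (j - 0) (by omega)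
  by_cases h : j < 32
  · simpa only [Nat.sub_add_cancel (show 16 ≤ j by omega)] using aL_iff.1 staE7_16 (j - 16) (by omega)
  simpa only [Nat.sub_add_cancel (show 32 ≤ j by omega)] using aL_iff.1 staE7_32 (j - 32) (by omega)

end Cfsg.Agent.N2.Ex.Al.Ck
end

-- part: N2/Ex/Al/RwE8
section
/-!
# N2, subgroups of maximal rank: the rows of `E8` (helper40, generated data)
-/

set_option autoImplicit false
set_option maxRecDepth 100000

namespace Cfsg.Agent.N2.Ex.Al.Ck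

open Cfsg Cfsg.Lie Cfsg.Agent.Nodes.RGDChev

/-- T -/
noncomputable def rE8_0 : Rw :=
  (by
  refine (?fq9067 : ((_root_.Cfsg.Agent.N2.Ex.Al.Ck.Rw.mk (nat_lit 0) List.nil (pk61l (fun i1 => (_root_.Prod.mk i1 (_root_.Prod.mk (nat_lit 1) ((fun g1 : Nat → Nat => pk61l (fun i2 => (pk61d (nat_lit 7) 
    (nat_lit 0x2ee09b81ee05f80fe023808dc037f001b7700d7b006805b3500ca0b567018456a059f200b84350ace0b260219c96715901601f38864259056011387c82180b42258004911207c21f04b3a9c02188842208f74599c800f403c10ec43a1ece14100dc03610d043376e803100c002f10b1ab46601500500138848b81355ab0022008001f04b93025a952003400c0a5c0931e0494e8024008125c293023c5c11d2c0051a5c4930a3c08b8f045800244b8d262478517043c40a2c0156f45bcd6f25bc56f05bc16dde0386d01bb580d9a046b01ab288d0033e11fa04650192e16d03f288c203012924248fc222e0a924a190863ee02922a1927841e90792414314f453c20d804e8609e827829b105e0243d7809b826c2978084020b76c098025e01d8074c582f049c03500d003354a13823e017086201680588901f10a802610a00250090d181ea8422007842000749102ea87a2106801710600161479517443cd082400788200932a3c88b9a1e4840a0020790)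 i2)) (g1 i1) (g1 (Nat.succ i1)) List.nil) fun j => (pk61d (nat_lit 9) 
    (nat_lit 0x1a5d1e873f9dcde672f95ca64b238fc76331589c3e170982c05fafb7bbcddeeb74b95c2dd6cb55a2cd64b1582bd5cad562ad54a95429f4da5d268f45a250a813e9e4ea73389b4d2653097cba592a9449a4b2491c863f1d8dc6a31178b452251087436170a84c1e0b0380c01fcfd7dbe5eef579bc9e0ef76badd2e772b91c4e06f371b4d86b355a6d26833998ca6431988c360b017cbd5dae970b65aacd62b0572b154a953a9546a14fa7536994ba55269147a35168943a190882401f8f87b3c9dcea73389c0de6d359a4ce653218cc25f2e96cb4592c158a8522813c9c4d259248e452190882401f0f074381b0d46832180b8582a148a04c24110803c1c0d8642e15098441e0e060281006020080000) j))))) (nat_lit 0) (nat_lit 240) List.nil)) : Rw)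
    = ?xq9067 → (Rw)) ?hq9067; (case hq9067 => (set_option maxRecDepth 1000000 in conv => lhs; reduce)); intro _; exact ?xq9067 : Rw)

/-- A1 -/
noncomputable def rE8_1 : Rw :=
  (by
  refine (?fq9068 : ((_root_.Cfsg.Agent.N2.Ex.Al.Ck.Rw.mk (nat_lit 1329227995784915872903807060280344577) (pk61l (fun i1 => (nat_lit 0)) (nat_lit 0) (nat_lit 1) List.nil) (pk61l (fun i1 => (_root_.Prod.mk (pk61d (nat_lit 8) 
    (nat_lit 0xefeeedecebeae9e8e6e4e2e1dfdedcdbdad8d7d6d5d3d2d1d0cfcecdcccbcac9c8c7c6c5c4c3c2c0bfbebdbcbab9b8b7b6b3b2b1b0adacabaaa6a5a4a3a19e9d9c9b9996959493918f8e8d8c8b89878685848381807f7e7d7c7b79777675747372716f6d6b696866656362615f5e5d5c5b5a595857565554535251504f4d4c4b4a494746454443403f3e3d3c393837363231302f2b2a292827232221201f1c1b1a19181514131211100e0d0c0b0a0907060504030201) i1) (_root_.Prod.mk (pk61d (nat_lit 2) 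
    (nat_lit 0xaaabfeeebaaaaaaaaeabaafabebfbfafebeafaaeaaeaaaaaafeeebabaaaaaaaabaaeafafbfbbeefaeeaeeabaaae) i1) ((fun g1 : Nat → Nat => pk61l (fun i2 => (pk61d (nat_lit 7) 
    (nat_lit 0x29e487919e447909e4078f2e5c41f117c48e327c44e337c40df13791f1c606d89b3780d703584d4b5640d203441daab500cc032e983ab427818b341d0073e5017d1e30ba00e54480fc5ca07101c072e05c413001b9644e2014625c8364ad4813625903560d4a1024c4ab16ac5a90684c811645593522d0833244083064559b524d08b320c889028f89be24f88be20f8f103c84e907a748bbf981dfc57c1dbba071db075ac01bd5eb03a206d01b34a889ae06a81a932589a4068019f14da913304cb0329f1352466098a0620b524d0918a25f03522d0917ca41a11664cbe468d083320549b3664191128c0a1264c8914624d81322c589328c89b124c091060d0a3326c893122c089) i2)) (g1 i1) (g1 (Nat.succ i1)) List.nil) fun j => (pk61d (nat_lit 9) 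
    (nat_lit 0x4b6572993c9647219047e3d1c8d4622d14894421d0c85c260f068240a00ff7f3f1f4f87bbd9e8f278bbddced75ba9d0e672b8dc4e16fb75b8db6d361acd469b49a0ce6632d92c762b0d84c15faf576b95c2d968b2582b95aab54a9d4aa3512813a9b4ca5d2a9449a451e8d45a25108642209027f3f1f0f67a3c1dcea74391c4de6e369acd26733194c6612f978ba5b2c95cac54291409c4d259248e45219047e3d1d8e46e361a0c8602f170b456291409c4c24110803e1e0e86c32170b054281208038180b050200c04010000000) j))))) (nat_lit 0) (nat_lit 182) List.nil)) : Rw)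
    = ?xq9068 → (Rw)) ?hq9068; (case hq9068 => (set_option maxRecDepth 1000000 in conv => lhs; reduce)); intro _; exact ?xq9068 : Rw)

/-- A1A1 -/
noncomputable def rE8_2 : Rw :=
  (by
  refine (?fq9069 : ((_root_.Cfsg.Agent.N2.Ex.Al.Ck.Rw.mk (nat_lit 3987683987354747618711421180841033731) (pk61l (fun i1 => i1) (nat_lit 0) (nat_lit 2) List.nil) (pk61l (fun i1 => (_root_.Prod.mk (pk61d (nat_lit 8) 
    (nat_lit 0xefeeedecebeae8e4e2e1dfdedcdbdad8d6d5d2d1d0cdcccbc8c7c6c5c2c0bfbebcbab9b8b7b3b2b1b0adacabaaa5a4a3a19d9c999594918e8d8c8986858481807f7e7d7c7776757473716d6b6968666562615f5d5c5b5857565352514d4c4b4947464543403f3e3d3c3938373632302f2b2a2723221f1c1b1a151413120e0d0c0b0a070605040302) i1) (_root_.Prod.mk (pk61d (nat_lit 4) 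
    (nat_lit 0x444445a5545455455455455455545544555445544a554a545a55a45a445444554444444445a54545455455455455455544554455544554554a55a545a445a4445a444455) i1) ((fun g1 : Nat → Nat => pk61l (fun i2 => (pk61d (nat_lit 7) 
    (nat_lit 0x1ce853a0ce8139f41e41c53e6e29b2a61332ba7a55cd1e406530ba55c61e402531ba4790a63c8049a5748f21347900918a471e4238f211a98c8e3c83f9a1200c7e3c8388f1a3847301fbf08ca03970e1cb20ae079038c958f20515842a3c80c08ace041a3c8040a70a040a3c82b8d6069c0a506042bcc6f30bcf984e83c873d3a736609a710ccd74790cc533581e4311ccc3c804c43c85d1b007900974790b01600f2032e8f2012c2bc5002b91e406585774247723c814b0caeabb011fb2717595808e1c58736063238fec0f20e2e948d60a8f20e2c0c087068f20fec0418542140a3c846b050a8c1a1060f2012358) i2)) (g1 i1) (g1 (Nat.succ i1)) List.nil) fun j => (pk61d (nat_lit 9) 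
    (nat_lit 0x11187c3617098441207017fbf5f6fa7c3d1e4f0763a9cee370b79b4d86ab49a2cf6632d92c76230d84c15faf97abc5d2e570b75b2d568b257ab95aaa54a9d48a250a7d389a4ca5d2a92482391a8c452210c8541a00fe7e3e9f0f4793b9d8e671381b4d66732188bc5b2c954a24f2713090462210c7e3d1d8e470361a0c8602e160ac522512088421d0e06832150a048200f0582c1207028140000) j))))) (nat_lit 0) (nat_lit 136) List.nil)) : Rw)
    = ?xq9069 → (Rw)) ?hq9069; (case hq9069 => (set_option maxRecDepth 1000000 in conv => lhs; reduce)); intro _; exact ?xq9069 : Rw)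

/-- A2 -/
noncomputable def rE8_3 : Rw :=
  (by
  refine (?fq9070 : ((_root_.Cfsg.Agent.N2.Ex.Al.Ck.Rw.mk (nat_lit 346928506899863042827893642733169934597) (pk61l (fun i1 => (pk61d (nat_lit 2) 
    (nat_lit 0x8) i1)) (nat_lit 0) (nat_lit 2) List.nil) (pk61l (fun i1 => (_root_.Prod.mk (pk61d (nat_lit 8) 
    (nat_lit 0xefeeedecebeae9e4e2dfdcdbd8d7d6d3d2d1cfcecdcccbcac9c8c7c5c4c3c2bfbebdbcb8b7b6b1b0adaaa6a5a39e9d9695948f8e8d8c878685847f7e7d7c7977767574736f6d696663625f5e5d5b5a5958575655545251504f4c4b4a494544433e3d3c3736302f292723211f1c1b19151413110e0d0c0b09070605040301) i1) (_root_.Prod.mk (pk61d (nat_lit 4) 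
    (nat_lit 0xa5) (pk61d (nat_lit 1) 
    (nat_lit 0x1fa008466ffec8003d220025ffd98c2) i1)) ((fun g1 : Nat → Nat => pk61l (fun i2 => (pk61d (nat_lit 7) 
    (nat_lit 0xa18e563898e25e8968181e60f98014455e300288ab098c00a22aed0014455d5037c00a22ae7e3036ef01ae06b5ab206901a20ed55a806601960ead09e06283a00e7ca02f8184a00e544061250388005115604a83091000a22aca8014455811a0c64400288ab1a005115604280144558500288ab02fac801445580144558108faabea8005115611f507d3e2d48b41f4a8b3e5d40332fc5befafbeb6fab8014455f400288ab03d0184be0efdf076c0e3b60eb01bd5eb03a206d01b34a881aa06a4c96068019f1400a22aed8194f800a22aeb018800511561260014455d100288ab9800511561228014455c500288ab08f819c00288ab7c0c09c065000a22ac2be8958181280c644a5128830230184893224b9544181080e54c891654b9f44181) i2)) (g1 i1) (g1 (Nat.succ i1)) List.nil) fun j => (pk61d (nat_lit 9) 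
    (nat_lit 0x5228d44a15027d3b9ccd25d299248a3b1c8d4662f158a44e230f86c32170983c16090380bfdfafc7d3ddeaf478bbdd2e670b6db0d366b2186c15eadd6ab3572b154a85329144a04fa7536994ba55208a43a150882401fcfa7b3d1e4ee75399c8e26f369b0d66933998c25f2f164ae512611c823c1b0d05e2c15090441f0e86c32160a048200e058281006020080000) j))))) (nat_lit 0) (nat_lit 126) List.nil)) : Rw)
    = ?xq9070 → (Rw)) ?hq9070; (case hq9070 => (set_option maxRecDepth 1000000 in conv => lhs; reduce)); intro _; exact ?xq9070 : Rw)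

/-- A1A1A1 -/
noncomputable def rE8_4 : Rw :=
  (by
  refine (?fq9071 : ((_root_.Cfsg.Agent.N2.Ex.Al.Ck.Rw.mk (nat_lit 25255331919913401585172334145326546963) (pk61l (fun i1 => (pk61d (nat_lit 3) 
    (nat_lit 0x108) i1)) (nat_lit 0) (nat_lit 3) List.nil) (pk61l (fun i1 => (_root_.Prod.mk (pk61d (nat_lit 8) 
    (nat_lit 0xefeeedeceae8e4e1dfdcdbdad8d6d5d1d0cccbc8c6c5c2c0bfbebcbab9b7b2b0adaba5a3a19d9c999594918c898684807f7e77767573716d68666562615f5d5c585753524d4c4b49464543403e3c393732302b2a2723221f1b1a15130e0d0a0706050302) i1) (_root_.Prod.mk (pk61d (nat_lit 5) 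
    (nat_lit 0x318c8439c842106438ce338c8419084190e421c8739c743908fa10871908318c63210e72106420c8338ce321c8321084210e438ee721c843908323e6321c8) i1) ((fun g1 : Nat → Nat => pk61l (fun i2 => (pk61d (nat_lit 7) 
    (nat_lit 0x3bb06ebd879032f8632578879018c95d30008cbe18cba8004319751e40cbe18cb12ba6ae68f20319530d755c61e40089c5887900226e87c43c801136034d1e406321cae9d31e406320cae68f2065f0c6439587a63c80c64ac00218caec61e40cbe18c832b0008632b03c8197c3192b0008cbe18ca6800431906b0001197c31946563c80c643800232f86320d1958f2031906563c8197c3190e1e406321e40cbe18c830f20044c6b01838f2065f0c64ae3581c183f5ea1bb0f2065f0c65d479018cba800465f0c658800218ca98f2065f0c64afae2bb7479018c95f50d8ac0eba3c801134e68f20044cd0d4c79018cae8f20044c6578874d1e40632b0aee8f2065f0c653479018c8358576079032f86328c0010c643879032f86320d1800218c83000465f0c643800218c879018c95dd0008cbe18c8346b03c80c64aec000465f0c643c8197c3192b9a3c80c64195d80e3c8197c3192b8c1870f2065f0c64195c61e40089)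 i2)) (g1 i1) (g1 (Nat.succ i1)) List.nil) fun j => (pk61d (nat_lit 9) 
    (nat_lit 0x197cae4f258ac25f6f171b7db6d166b257ebd59abd4aa14aa4d2285419ccde652d964923f1888c2e09037f3d9eaf077ba1c8dd6bb559ecc65b2990c762af972b256a9548a35127134994ba49228c45215007e3e1dcea6e34198be5a291349a46210f06a331689c3e180b83c1e0d068100000) j))))) (nat_lit 0) (nat_lit 100) List.nil)) : Rw)
    = ?xq9071 → (Rw)) ?hq9071; (case hq9071 => (set_option maxRecDepth 1000000 in conv => lhs; reduce)); intro _; exact ?xq9071 : Rw)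

/-- A2A1 -/
noncomputable def rE8_5 : Rw :=
  (by
  refine (?fq9072 : ((_root_.Cfsg.Agent.N2.Ex.Al.Ck.Rw.mk (nat_lit 349586962891432874573701256853730623751) (pk61l (fun i1 => i1) (nat_lit 0) (nat_lit 3) List.nil) (pk61l (fun i1 => (_root_.Prod.mk (pk61d (nat_lit 8) 
    (nat_lit 0xefeeedecebeae4e2dfdcdbd8d6d2d1cdcccbc8c7c5c2bfbebcb8b7b1b0adaaa5a39d95948e8d8c8685847f7e7d7c77767574736d6966625f5d5b58575652514c4b4945433e3d3c3736302f27231f1c1b1514130e0d0c0b0706050403) i1) (_root_.Prod.mk (pk61d (nat_lit 5) 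
    (nat_lit 0xcb968) (pk61d (nat_lit 2) 
    (nat_lit 0x3aa655659a6abbbcc0000003a99955666aaae30c0c03) i1)) ((fun g1 : Nat → Nat => pk61l (fun i2 => (pk61d (nat_lit 7) 
    (nat_lit 0xe7429d067409cfa73e9cc2f31bcfa95e7d3986e81b98ee80012b8d6069c1bcc77300095c6b014e15e60012b8d60e0004ae3580a50315e60012b8d60a8004ae358280012b8d6068004ae358180012b8d60a8004ae3580a0012b8d6068004ae35800095c6b014002571ac042a0012b8d6021c083429c281028d3814a0c085798de6179f309d0002571ac7400095c6b1d0002571ac7300095c6b01798d380012b8d606f30c70002571ac15e618a9c2a5070d1a7030538702942a5068c0a70a94087068c18542140a10a15183420c) i2)) (g1 i1) (g1 (Nat.succ i1)) List.nil) fun j => (pk61d (nat_lit 8) 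
    (nat_lit 0xeae8e6e4e2e1e0dfdedcdad9d7d6d5d3d1cfc8c6c4bdbbb5aeaba59f99938d87817c76716f6968666463615f5d5c5b59575554524c46403937302e272524232221201e1d1b1b1a181716151413121211100e0d0c0a0807060402000000) j))))) (nat_lit 0) (nat_lit 92) List.nil)) : Rw)
    = ?xq9072 → (Rw)) ?hq9072; (case hq9072 => (set_option maxRecDepth 1000000 in conv => lhs; reduce)); intro _; exact ?xq9072 : Rw)

/-- A1A1A1A1 -/
noncomputable def rE8_6 : Rw :=
  (by
  refine (?fq9073 : ((_root_.Cfsg.Agent.N2.Ex.Al.Ck.Rw.mk (nat_lit 110325923650148017451015986003268599891) (pk61l (fun i1 => (pk61d (nat_lit 3) 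
    (nat_lit 0xd08) i1)) (nat_lit 0) (nat_lit 4) List.nil) (pk61l (fun i1 => (_root_.Prod.mk (pk61d (nat_lit 8) 
    (nat_lit 0xefeeeceae8e4e1dfdbdad8d6d0cccbc8c6c2bfbebab9b7b2ada5a3a19c9995948c898680777573716d6866615f5d5c58524d4c4b4643403e3c37322b2a27231f1a15130a07050302) i1) (_root_.Prod.mk (pk61d (nat_lit 6) 
    (nat_lit 0x913309) (pk61d (nat_lit 2) 
    (nat_lit 0x15a65725a49bb16da515a654d62668b5db69) i1)) ((fun g1 : Nat → Nat => pk61l (fun i2 => (pk61d (nat_lit 7) 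
    (nat_lit 0xf22326c2b91d37b8f2065f1ccc1fa8f2065f0c643aeabb03c80c643a6ab8c001099615c8ebb63b800415c8e9b1bb8f2065f0c643aed8000874dee3c80c643a6c61e40cbe39983f58cae30f200448e9bdcc9b1836c0f2004485721ac0f2065f1ccc1fad81e406321d35580043a6abee3c80112319581e40cbe18c875d56306c600082b91d37bc61e40cbe0aae300043195800084cb0ae475dee001197c31946563c80c643a6ab1e4008918c95d80008cbe0ae430f2065f0c643ae8f2065f058c3c8011215c868d6079032f8e660fd6358571ac1e4464d85723a68f2065f1ccc1fac6b1dc79032f86321d77b8f203190e9bdc002132c2b91d740020ae474d1e40cbe18c875d57dc0021d3558f203190e9aafb8f2065f1ccc1fad8ef60c9b1834790022474d1e40cbe39983f58ddc79018c874d8ddc79002242b90d1860d000874d1e40cbe18c875db1dc790022463256aec000415c8e9b1879032f82800426585723aed800086321e406321d355c6ef1ac000465f0c643c8197c3190ebaaec771e4008918c800232f82b90cac79032f8e660fd7b8f2065f05563c8011215c86) i2)) (g1 i1) (g1 (Nat.succ i1)) List.nil) fun j => (pk61d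 (nat_lit 9) 
    (nat_lit 0x1dae8f277fb7d6e973997c861f0b7ebcdc6d161add529748a0d02733495c92471d8e4521b057fbd9d8e970b599ac65f2e15ca950a5d2c9246208f472381b0c45b2c9489a4d221006e35178903c160681c0000) j))))) (nat_lit 0) (nat_lit 72) List.nil)) : Rw)
    = ?xq9073 → (Rw)) ?hq9073; (case hq9073 => (set_option maxRecDepth 1000000 in conv => lhs; reduce)); intro _; exact ?xq9073 : Rw)

/-- A1A1A1A1 -/
noncomputable def rE8_7 : Rw :=
  (by
  refine (?fq9074 : ((_root_.Cfsg.Agent.N2.Ex.Al.Ck.Rw.mk (nat_lit 11692013098672478677549392063315436500188879912979) (pk61l (fun i1 => (pk61d (nat_lit 6) 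
    (nat_lit 0xac4040) i1)) (nat_lit 0) (nat_lit 4) List.nil) (pk61l (fun i1 => (_root_.Prod.mk (pk61d (nat_lit 8) 
    (nat_lit 0xefeeedeceae8e4dfdcdad8d6d5d1d0cccbc8c5c2bfbebcbab7b2b0adaba59d9c958986807f7e7776756d6866625f5d585753524d4b4946433c37302a2723221b1a15130e0d07060503) i1) (_root_.Prod.mk (pk61d (nat_lit 5) 
    (nat_lit 0x94a65294a524ca4992649926524ca5294a5294a5f926494a52994a49925324c9329265294a5294a52949324a652) i1) ((fun g1 : Nat → Nat => pk61l (fun i2 => (pk61d (nat_lit 7) 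
    (nat_lit 0x7760dd7b0f2065f0557d47900224632ea001197c319750008632ea00162000ae86ba001581e40089c5887900226e87c43c801136034d1e4008918caed31e4008918cac0f2065f0557343d31e4008918c83580008632ba3c8197c155c60008632b03c8197c155868c001197c3194d00086320d6000232f86328c001197c319068c00146b0ac79002263580c1c0021c183f5ea1bb000465f0c658800218ca98f2065f05578ae8f200448c654c3621d7479002269cd1e400899a1a98f20044c6000a98e9a0014d000a300043190e00086320c001197c3190e00086321e4008918c87000465f0c641879002246320c001197c3190f2065f05563879002246320e3c8197c155860c3879032f82ab1e40089) i2)) (g1 i1) (g1 (Nat.succ i1)) List.nil) fun j => (pk61d (nat_lit 9) 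
    (nat_lit 0x26d34994c655238e45e291187c320f0680bfdf4f878bc1d2e270361a6cc63afd70b255a8d3e9e4c2592893492411e8d43204f479391c0dc693418cc25c2c95ca8512611c803c1a8b84e210d050260c050280800) j))))) (nat_lit 0) (nat_lit 73) List.nil)) : Rw)
    = ?xq9074 → (Rw)) ?hq9074; (case hq9074 => (set_option maxRecDepth 1000000 in conv => lhs; reduce)); intro _; exact ?xq9074 : Rw)

/-- A2A1A1 -/
noncomputable def rE8_8 : Rw :=
  (by
  refine (?fq9075 : ((_root_.Cfsg.Agent.N2.Ex.Al.Ck.Rw.mk (nat_lit 370854610823991528540162169818216136983) (pk61l (fun i1 => (pk61d (nat_lit 3) 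
    (nat_lit 0x888) i1)) (nat_lit 0) (nat_lit 4) List.nil) (pk61l (fun i1 => (_root_.Prod.mk (pk61d (nat_lit 8) 
    (nat_lit 0xefeeedeceae4dfdcdbd8d6d1cccbc8c5c2bfbebcb7b0ada5a39d95948c86847f7e777675736d66625f5d5857524c4b4945433e3c373027231f1b15130e0d07060503) i1) (_root_.Prod.mk (pk61d (nat_lit 6) 
    (nat_lit 0x30c30f75d4d33d35965933d33dd4cf75d75d49dd4f3cc3cc30c30c3dd7533d34d658f5933d33d375d75d49d3dd30f30c3f5) i1) ((fun g1 : Nat → Nat => pk61l (fun i2 => (pk61d (nat_lit 7) 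
    (nat_lit 0x3bb06ebdba840bd4002224dc040bd7b75224dcd80817b07ebdba87ea0012b8d60709171ac0700095c6b01c48b8d6089373602050e0012b8d6048b8d6031126e6c040a449b9b01028600095c6b010a0700095c6b010a0004ae35800095c6b010a0600095c6b01028e08143060e1028e0c1faf50dd8205ea0012b8d60214ec449b9b0102f600095c6b1d848b8d63b0004ae358ea0012b8d603f51c1c89373602050e3889373602050e449b9b0102860008893701028e00088937010286000889370102840a382050c382050e1830e) i2)) (g1 i1) (g1 (Nat.succ i1)) List.nil) fun j => (pk61d (nat_lit 8) 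
    (nat_lit 0xebe9e7e6e5e2dad9d8d1cfcecdcbc5c0bab6afaaa59f989089847c7774716f6d6c6b696866635b544e49433c3b3a3333322c2b24241c140d0a0a070604030200000000) j))))) (nat_lit 0) (nat_lit 66) List.nil)) : Rw)
    = ?xq9075 → (Rw)) ?hq9075; (case hq9075 => (set_option maxRecDepth 1000000 in conv => lhs; reduce)); intro _; exact ?xq9075 : Rw)

/-- A1A1A1A1A1 -/
noncomputable def rE8_9 : Rw :=
  (by
  refine (?fq9076 : ((_root_.Cfsg.Agent.N2.Ex.Al.Ck.Rw.mk (nat_lit 11692013098757549269279626679181280152046821965907) (pk61l (fun i1 => (pk61d (nat_lit 6) 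
    (nat_lit 0x2b184040) i1)) (nat_lit 0) (nat_lit 5) List.nil) (pk61l (fun i1 => (_root_.Prod.mk (pk61d (nat_lit 8) 
    (nat_lit 0xefeeeceae8e4dfdad8d6d0cccbc8c2bfbebab7b2ada59c9589868077756d68665f5d58524d4b46433c372a27231a1513070503) i1) (_root_.Prod.mk (pk61d (nat_lit 6) 
    (nat_lit 0xd4186186274189cd61062760d6279d89d891841835061861840d9d060d9d86189d89d89d09d8) i1) ((fun g1 : Nat → Nat => pk61l (fun i2 => (pk61d (nat_lit 7) 
    (nat_lit 0x122c6321d37b8f2065f1ccc1fa8f2065f051d755f71e4008918c874dee001197c3190ebbdc00218c874dee0010e9bdc79032f8e660fd63000560790022474dee245d81e40089b03c8197c73307eb6079002246321d363771e4008918cac0f2065f051d755d8ef1800218c874d8ddc79032f82ab8c0010c656000232f86321d76c770008cbe18ca300051ac000465f05721879002263581e40cbe39983f58d60002122c6321d3479032f8e660fd6358ee001197c3190ebb6000218c874d8c3c8197c1475d576079002246321d3630f2065f1ccc1fad8ee2458f200448e9a3c8197c73307eb1bb8f20044c6000874d000a300043190e9a001197c3190eba0010c643c801123190e9a001197c3190f2065f051d7558f200448c643c8197c73307ebdc79032f82ab1e40089)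 i2)) (g1 i1) (g1 (Nat.succ i1)) List.nil) fun j => (pk61d (nat_lit 9) 
    (nat_lit 0xaa5368b3c99caa471e8ac4a170881be9e0e96fb79accf6530172b5572a13c9c4b22d047b391a4be5d2b93490482210476331789c4219098280800) j))))) (nat_lit 0) (nat_lit 51) List.nil)) : Rw)
    = ?xq9076 → (Rw)) ?hq9076; (case hq9076 => (set_option maxRecDepth 1000000 in conv => lhs; reduce)); intro _; exact ?xq9076 : Rw)

/-- A3 -/
noncomputable def rE8_10 : Rw :=
  (by
  refine (?fq9077 : ((_root_.Cfsg.Agent.N2.Ex.Al.Ck.Rw.mk (nat_lit 5707219845681967263955337627266797287867395) (pk61l (fun i1 => (pk61d (nat_lit 4) 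
    (nat_lit 0xa10) i1)) (nat_lit 0) (nat_lit 3) List.nil) (pk61l (fun i1 => (_root_.Prod.mk (pk61d (nat_lit 8) 
    (nat_lit 0xefeeedecebeae2dfdedcdad8d5d2d0cdcbc8c7c5c2bfbebcb8b7b3b1b0acaaa4a39c8d868581807f7e7d777675746b6966625f5d5b585653514d494746433f3d3c38362f231c1b1514130e0d0c0b07060504) i1) (_root_.Prod.mk (pk61d (nat_lit 5) 
    (nat_lit 0x1ce73bf9ce5d9765d9765d9cbb2e767eecfdd9fe7f9739d9cb9ce739cecfdcecbb2ecbb2ecb9d97672ece73fcbbf973bf9739df) i1) ((fun g1 : Nat → Nat => pk61l (fun i2 => (pk61d (nat_lit 7) 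
    (nat_lit 0x1197cc87740008cbe641ba000465f32e8001197cc82f5e8041b8a600166000b1000465f32c40015d0008cbe6417300056000232f990dc4041d30008cbe6457101073400232f99068e041c7020e3000465f328e041bf0008cbe64166800465f327e041b88e001197cc82c60009c5d7e001197cc86bf0009c58700013fb015c00051ac000465f321c001197cc82950008cbe6418083000800232f990d1c001197cc828d0008cbe64001197cc8af50008cbe6437a800465f320bd000232f99750009c53cc001197cc82e20008cbe6598083cc001197cc8366020f1000465f321d98083ba001197cc86cd020ec000465f320b1c002a6001197cca6800465f320afc0029a001197cca300051c0028c001197cc83460009f8004e00837174a8106e2c000465f320a3868106fec000465f322a001197cc82860a041c6b0001197cc83150008cbe643400232f9905) i2)) (g1 i1) (g1 (Nat.succ i1)) List.nil) fun j => (pk61d (nat_lit 9) 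
    (nat_lit 0x5eee96db3d82bf5bac5569f4ca2d0a773898cba4f2490c6e311185c220f007e3ede8f077badd2e56fb61a4d06731d80bb5a2b54ca04e26d288e45a11027a3b9c0da6631974ac53269288e401e8e86c35188a852250f8602e13060180000) j))))) (nat_lit 0) (nat_lit 82) List.nil)) : Rw)
    = ?xq9077 → (Rw)) ?hq9077; (case hq9077 => (set_option maxRecDepth 1000000 in conv => lhs; reduce)); intro _; exact ?xq9077 : Rw)

/-- A2A2 -/
noncomputable def rE8_11 : Rw :=
  (by
  refine (?fq9078 : ((_root_.Cfsg.Agent.N2.Ex.Al.Ck.Rw.mk (nat_lit 398448840625131103522757189950513262614333019819247403271) (pk61l (fun i1 => (pk61d (nat_lit 6) 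
    (nat_lit 0xf82040) i1)) (nat_lit 0) (nat_lit 4) List.nil) (pk61l (fun i1 => (_root_.Prod.mk (pk61d (nat_lit 8) 
    (nat_lit 0xefeeedecebeae4e2dfdcd8d1cdccc8c7c5c2bfbeb8b7b1b0aaa39d958e847f7d7c77766966625f5b5749433d3c373630231c1b15140e0d0c07060504) i1) (_root_.Prod.mk (pk61d (nat_lit 6) 
    (nat_lit 0x3cf5965aa5965aaa965965965965965965aaaaaaaaa8f3cf3cf3d65965965aa596596596a96a9659658f3d63cf) i1) ((fun g1 : Nat → Nat => pk61l (fun i2 => (pk61d (nat_lit 7) 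
    (nat_lit 0x9171ac15e7dc48b8d60af30fd868cec342761bd8790571ac15e7dc53c032e30ee61053c032e30ee629e0197187730ae6c0ee81dcd81dd00cb1dcc277032c773ee0658ee613b01963b985ee0658ee7d87905760a050e0658ee617b0f20aec140e3c82bb05028f20aec14081c7905760a0f20aec14083c8017cae3580c1079002f95c6b01879002f95c6b01828106e6c1418041b9b05020106e6c14224dcd82810609171ac15e61fb9126e6c140a449b9b050609171ac15e6245c6b0579871e415d82813b0f20aec14ec3c82bb0502f6032c7730a0658ee60658ee611cd81dd3b0a78065c61dcc2f714f00cb8c3b9f714f00cb8c3b985ec29e01971877309dc53c032e30ee7d853c032e30ee613b0f20ae3582bcc6871e415c6b0579871a1038d1a1c60d08449b9b050209171ac15e7d868c224dcd828449b9b050205) i2)) (g1 i1) (g1 (Nat.succ i1)) List.nil) fun j => (pk61d (nat_lit 9) 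
    (nat_lit 0x169b156aaf54a952a853b99cba55248fc66270e83c05f6f5773a5c6da6932586bd5c2c552a34ea5d2089419f0ee73371a4c058279187c35170b04821100743615070300e00) j))))) (nat_lit 0) (nat_lit 60) List.nil)) : Rw)
    = ?xq9078 → (Rw)) ?hq9078; (case hq9078 => (set_option maxRecDepth 1000000 in conv => lhs; reduce)); intro _; exact ?xq9078 : Rw)

/-- A2A1A1A1 -/
noncomputable def rE8_12 : Rw :=
  (by
  refine (?fq9079 : ((_root_.Cfsg.Agent.N2.Ex.Al.Ck.Rw.mk (nat_lit 455925202554226144406005821676158189911) (pk61l (fun i1 => (pk61d (nat_lit 3) 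
    (nat_lit 0x6888) i1)) (nat_lit 0) (nat_lit 5) List.nil) (pk61l (fun i1 => (_root_.Prod.mk (pk61d (nat_lit 8) 
    (nat_lit 0xefeeeceae4dfdbd8d6cccbc8c2bfbeb7ada5a395948c867775736d665f5d58524c4b433e3c3727231f1513070503) i1) (_root_.Prod.mk (pk61d (nat_lit 6) 
    (nat_lit 0x414520820518ada8146a063783763751a51051482052062b51a81a620de0614dd46b7) i1) ((fun g1 : Nat → Nat => pk61l (fun i2 => (pk61d (nat_lit 7) 
    (nat_lit 0xee50a860fdc307ee102860fdc002224dc040a183f700088937050a861ddc48b8d602f30dd7b9936aec0c1bdc48b8d6060d224dcd809cc375ee245c6b01baf7122e358224dcd80814375ee0012b8d6060d326d5d81834002571ac04281baf700095c6b03068004ae35800095c6b0102860e306942a187142a187770814307ee0012b8d602140dd489373602050dd448b8d60375224dcd809cc3750008c9b8c30689171ac05e61ba9936aec0004449b8285430e326d5d8183460d000889370102860e00119371860d08143070c1c60d2854307) i2)) (g1 i1) (g1 (Nat.succ i1)) List.nil) fun j =>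 (pk61d (nat_lit 8) 
    (nat_lit 0xf0efeae7e2d8cec5bfbeb8afa8a49b948e847d78736f6d6969645f564e48403939312d241e1c130c08080604000000) j))))) (nat_lit 0) (nat_lit 46) List.nil)) : Rw)
    = ?xq9079 → (Rw)) ?hq9079; (case hq9079 => (set_option maxRecDepth 1000000 in conv => lhs; reduce)); intro _; exact ?xq9079 : Rw)

/-- A1A1A1A1A1A1 -/
noncomputable def rE8_13 : Rw :=
  (by
  refine (?fq9080 : ((_root_.Cfsg.Agent.N2.Ex.Al.Ck.Rw.mk (nat_lit 1569275445538683289716496625081543284387460633880241897555) (pk61l (fun i1 => (pk61d (nat_lit 7) 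
    (nat_lit 0x15c60c10080) i1)) (nat_lit 0) (nat_lit 6) List.nil) (pk61l (fun i1 => (_root_.Prod.mk (pk61d (nat_lit 8) 
    (nat_lit 0xefeeeceae8e4dfd8d6d0cccbc2bfb7b2ada59580776d665d585243372a272315130703) i1) (_root_.Prod.mk (pk61d (nat_lit 6) 
    (nat_lit 0x1171cb1cb2cb2c46c72c727b1c9e7b1171c711b2cb1cb2c72c72c) i1) ((fun g1 : Nat → Nat => pk61l (fun i2 => (pk61d (nat_lit 7) 
    (nat_lit 0xe9bdc79032f8e660c3a358ee3c8197c1475d57dc79002246321d37b800465f0c643aef700086321d37b80043a6f7000ac0f200448e9bdec0f20044d81e40cbe399830e8ddc7900224632b03c8197c1475d5763b8f2065f041a1a32b0008632b0001197c3190ebb63b800465f0c651800232f82b90c0010e9a001197c3190ebb6079032f828ebaaec0f2065f1ccc187461e400891d340021d3400218c874d0008cbe18c875d00086321e4008918c874d1e40cbe0a3aeab1e4008918c879032f8e660c3a3581e40089) i2)) (g1 i1) (g1 (Nat.succ i1)) List.nil) fun j => (pk61d (nat_lit 8) 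
    (nat_lit 0xe5e2d7cec5bcb5b0ada6a5a0968f857c776d665f5d5b524940403a363028241c140e0400) j))))) (nat_lit 0) (nat_lit 35) List.nil)) : Rw)
    = ?xq9080 → (Rw)) ?hq9080; (case hq9080 => (set_option maxRecDepth 1000000 in conv => lhs; reduce)); intro _; exact ?xq9080 : Rw)

/-- A3A1 -/
noncomputable def rE8_14 : Rw :=
  (by
  refine (?fq9081 : ((_root_.Cfsg.Agent.N2.Ex.Al.Ck.Rw.mk (nat_lit 11786211446715403660670758410287632101969412227335) (pk61l (fun i1 => (pk61d (nat_lit 5) 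
    (nat_lit 0xf8820) i1)) (nat_lit 0) (nat_lit 4) List.nil) (pk61l (fun i1 => (_root_.Prod.mk (pk61d (nat_lit 8) 
    (nat_lit 0xefeeedecebeadfdcd8d6d2d1cdccc8c7c2bfbcb8b7b1b0aa958e867f7e7c77767569665f5b575652514b49433c231c1b1514130e0d0c07060504) i1) (_root_.Prod.mk (pk61d (nat_lit 6) 
    (nat_lit 0x4d34dd76a924916596596a96a9da9d75d75dd754d34d24d34dd76a59659659692492a76a75da9375d4d3752) i1) ((fun g1 : Nat → Nat => pk61l (fun i2 => (pk61d (nat_lit 7) 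
    (nat_lit 0x5281fa8529d42940dd8002224dc7500088937013a8cebdba87ea29e01971820e14f00cb8c3853c032e3040e29e01971838a78065c608e6c0c0e29e019719cd81800111271ac0d0ee6c0c0c00111271ac0d081c002224e3581a00111271ac0d0800111271ac0d0c00111271ac0d081840a020c2081404185281c2940c382940814a0eec14a06ea14a7600088938d60684ec00111271ac0dece6c0cec29e01971bb0a78065c609d853c032e37514f00cb8c13a8a78065c60fd453c032e3040fd47071838002224dc041c3030004449b81c0011126e02061814a060e0011126e030004449b80814a0e0a5030004449b8) i2)) (g1 i1) (g1 (Nat.succ i1)) List.nil) fun j => (pk61d (nat_lit 9) 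
    (nat_lit 0x4461b0a83401f2f77b3d5e6ec7337db2d367b298ebf5dac956a34da491a8943209007f3d9dce86b3197cb252261147c361a8d06832158a4461c0d85c220b040140000) j))))) (nat_lit 0) (nat_lit 58) List.nil)) : Rw)
    = ?xq9081 → (Rw)) ?hq9081; (case hq9081 => (set_option maxRecDepth 1000000 in conv => lhs; reduce)); intro _; exact ?xq9081 : Rw)

/-- A2A2A1 -/
noncomputable def rE8_15 : Rw :=
  (by
  refine (?fq9082 : ((_root_.Cfsg.Agent.N2.Ex.Al.Ck.Rw.mk (nat_lit 5857907777424124251887077714655478550839) (pk61l (fun i1 => (pk61d (nat_lit 3) 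
    (nat_lit 0x5888) i1)) (nat_lit 0) (nat_lit 5) List.nil) (pk61l (fun i1 => (_root_.Prod.mk (pk61d (nat_lit 8) 
    (nat_lit 0xefeeedeae4dcdbd8d1cccbc5bebcb0ada59d948c7f7776736d625d58574c49453e3730231f1b0e070603) i1) (_root_.Prod.mk (pk61d (nat_lit 7) 
    (nat_lit 0xa14349571a4a692a534b97175a952c43468a1428692ae34692a53494bae5c956a53450d44) i1) ((fun g1 : Nat → Nat => pk61l (fun i2 => (pk61d (nat_lit 7) 
    (nat_lit 0x1fb77ec10286ec449abc413a752e684be7360a072e684be7160205ec5cd097ce6c142e68893656020c0e5cd1126cac04183c9197cafb0f20449b8e7dc790224dc73ec245c6b010a061e40893701028004ae358183438004ae3581834002571ac0428182050c1c2050c1fb07ee10286ec0012b8d6060dec3c81126e398f2465f2b0e3c9197cacb9a224d9580833b173425f38b0102872e684be7360a762e684be7160205224d5e209d3af7224d5e209d3af60814307224c2050814307) i2)) (g1 i1) (g1 (Nat.succ i1)) List.nil) fun j => (pk61d (nat_lit 8) 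
    (nat_lit 0xd7d5d4d3cfc8c0b7b0a79f99928b847d756e66625f5e5d5b574f49433e352c241c1c140c08040100000000) j))))) (nat_lit 0) (nat_lit 42) List.nil)) : Rw)
    = ?xq9082 → (Rw)) ?hq9082; (case hq9082 => (set_option maxRecDepth 1000000 in conv => lhs; reduce)); intro _; exact ?xq9082 : Rw)

/-- A2A1A1A1A1 -/
noncomputable def rE8_16 : Rw :=
  (by
  refine (?fq9083 : ((_root_.Cfsg.Agent.N2.Ex.Al.Ck.Rw.mk (nat_lit 883423532389192164791648750371459714503558500556411821518528306944672087) (pk61l (fun i1 => (pk61d (nat_lit 7) 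
    (nat_lit 0x3b860808080) i1)) (nat_lit 0) (nat_lit 6) List.nil) (pk61l (fun i1 => (_root_.Prod.mk (pk61d (nat_lit 8) 
    (nat_lit 0xeeeceae4dfdbd8d6cccbc8c2bfbeb7ada5a395948c86584b3e3c271f130503) i1) (_root_.Prod.mk (pk61d (nat_lit 6) 
    (nat_lit 0x1e7b9e7979cadee5e7b9739e7973979e79c79e7397397b9) i1) ((fun g1 : Nat → Nat => pk61l (fun i2 => (pk61d (nat_lit 7) 
    (nat_lit 0xaf30fd43f518343f50008c9b8c30687ea001193718af3122e3582bcc3f518343f5ee245c6b03069936aec15e6245c6b01fa89171ac1936aec0c1a1fa8004ae3581834c9b576060d00095c6b030687ea0012b8d6060d00095c6b00012b8d6060d0fd460d2bcc002571ac0c1a1fa89171ac0c1a1fa89171ac15e6306800464dc6183460d) i2)) (g1 i1) (g1 (Nat.succ i1)) List.nil) fun j => (pk61d (nat_lit 8) 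
    (nat_lit 0x9692908c837c74706f69635d59514a443b342f2a26242219110b090202000000) j))))) (nat_lit 0) (nat_lit 31) List.nil)) : Rw)
    = ?xq9083 → (Rw)) ?hq9083; (case hq9083 => (set_option maxRecDepth 1000000 in conv => lhs; reduce)); intro _; exact ?xq9083 : Rw)

/-- A1A1A1A1A1A1A1 -/
noncomputable def rE8_17 : Rw :=
  (by
  refine (?fq9084 : ((_root_.Cfsg.Agent.N2.Ex.Al.Ck.Rw.mk (nat_lit 411377708605747049222032012135962708098453363690373914803830867) (pk61l (fun i1 => (pk61d (nat_lit 7) 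
    (nat_lit 0x1615c60c10080) i1)) (nat_lit 0) (nat_lit 7) List.nil) (pk61l (fun i1 => (_root_.Prod.mk (pk61d (nat_lit 8) 
    (nat_lit 0xefeeeceae8e4dfd8d6ccc2b7b2a595775243372a231507) i1) (_root_.Prod.mk (pk61d (nat_lit 6) 
    (nat_lit 0x15c30c30c30b30b2cb2cb2c570c30c30c30) i1) ((fun g1 : Nat → Nat => pk61l (fun i2 => (pk61d (nat_lit 7) 
    (nat_lit 0x1dc79032f8e660c3a358ee3c8197c1475d57dc79002246321d37b800465f0c643aef700086321d37b80043a6f7000ac0f200448e9bdc7900226c0f200448c656079032f820d0d1958004319580008cbe18ca3000465f057218790022474d000874d00086321d3400232f86321d7479002246321d3479032f828ebaac79032f8e660c3a358) i2)) (g1 i1) (g1 (Nat.succ i1)) List.nil) fun j => (pk61d (nat_lit 8) 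
    (nat_lit 0x97968b8279706964615a554e45403932322c28221a120a00) j))))) (nat_lit 0) (nat_lit 23) List.nil)) : Rw)
    = ?xq9084 → (Rw)) ?hq9084; (case hq9084 => (set_option maxRecDepth 1000000 in conv => lhs; reduce)); intro _; exact ?xq9084 : Rw)

/-- A3A1A1 -/
noncomputable def rE8_18 : Rw :=
  (by
  refine (?fq9085 : ((_root_.Cfsg.Agent.N2.Ex.Al.Ck.Rw.mk (nat_lit 11786211446736671308603317064254093014933897740567) (pk61l (fun i1 => (pk61d (nat_lit 5) 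
    (nat_lit 0x1f20820) i1)) (nat_lit 0) (nat_lit 5) List.nil) (pk61l (fun i1 => (_root_.Prod.mk (pk61d (nat_lit 8) 
    (nat_lit 0xefeeedeceadfdcd8d6d1ccc8c2bfbcb7b095867f7e777675665f57524b49433c231b15130e0d070605) i1) (_root_.Prod.mk (pk61d (nat_lit 6) 
    (nat_lit 0x18618b6d9e79e1861b6db6db6dd5861861862db618619e79edb6db58b5862d) i1) ((fun g1 : Nat → Nat => pk61l (fun i2 => (pk61d (nat_lit 7) 
    (nat_lit 0x7760dd7b1126102f50817af6ea1faf6ea1fab9b0102877360205224dcd808143b9b010286224dcd8081489373602050c0012b8d603071c183f5ea1bb1126e6c040bd9cd80817b0e0e383840a382050c449840a382050e449840a1830e224c205) i2)) (g1 i1) (g1 (Nat.succ i1)) List.nil) fun j => (pk61d (nat_lit 7) 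
    (nat_lit 0x376cd5a7261c17eedcb766a509311f3764c17ae58ad4a23a70d9b3464c96263860b0c10200) j))))) (nat_lit 0) (nat_lit 41) List.nil)) : Rw)
    = ?xq9085 → (Rw)) ?hq9085; (case hq9085 => (set_option maxRecDepth 1000000 in conv => lhs; reduce)); intro _; exact ?xq9085 : Rw)

/-- A3A1A1 -/
noncomputable def rE8_19 : Rw :=
  (by
  refine (?fq9086 : ((_root_.Cfsg.Agent.N2.Ex.Al.Ck.Rw.mk (nat_lit 1619847786695244523655627418521868336843807452335720890647) (pk61l (fun i1 => (pk61d (nat_lit 6) 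
    (nat_lit 0x3c102040) i1)) (nat_lit 0) (nat_lit 5) List.nil) (pk61l (fun i1 => (_root_.Prod.mk (pk61d (nat_lit 8) 
    (nat_lit 0xefeeedeceae4dbd8d6d1cccbc5c2bcb7b0a59d948c847e7773625d57524c453e37231f150e070603) i1) (_root_.Prod.mk (pk61d (nat_lit 7) 
    (nat_lit 0x308101a5cdd727448a0a04068d2e5cddb9a5cb8c18348102244b8d1a6eb939a4080c41) i1) ((fun g1 : Nat → Nat => pk61l (fun i2 => (pk61d (nat_lit 7) 
    (nat_lit 0xc9b576060d0fd7b8004449b82854706ee0011126e0a151ddcb9a12f9cd8281fa840a3bb881464db8b010a07ebdd5e209cc7775763b86eeaec0004449c6b0179f5ee00111271ac05e7d43772e688936560b9a224d9580c449b9b01028e224dcd8081470610280831834308140418c1a5cd097ce6c040a1fa9126af104e7d88935788273ec1860d0c64dabb030687ea5cd097ce6c040a1faf700088938d602f3ea18002224e3580bcfa8657882731c5cd1126ac2862e68893561440a326dc5808503f508147173425f39b0503f5ee0011126e0a151c0011126e0a151c1860d) i2)) (g1 i1) (g1 (Nat.succ i1)) List.nil)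 fun j => (pk61d (nat_lit 8) 
    (nat_lit 0xfef5ebe2d9d5cac4c2c1bfbdb3a8a29b948c857f756e66635b50463d3c3c37302a201d1d130b020000) j))))) (nat_lit 0) (nat_lit 40) List.nil)) : Rw)
    = ?xq9086 → (Rw)) ?hq9086; (case hq9086 => (set_option maxRecDepth 1000000 in conv => lhs; reduce)); intro _; exact ?xq9086 : Rw)

/-- A2A2A1A1 -/
noncomputable def rE8_20 : Rw :=
  (by
  refine (?fq9087 : ((_root_.Cfsg.Agent.N2.Ex.Al.Ck.Rw.mk (nat_lit 6028048960884593483618765018371362656695) (pk61l (fun i1 => (pk61d (nat_lit 3) 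
    (nat_lit 0x3d888) i1)) (nat_lit 0) (nat_lit 6) List.nil) (pk61l (fun i1 => (_root_.Prod.mk (pk61d (nat_lit 8) 
    (nat_lit 0xefedeae4dcdbd1cbc5bcb0ad9d9476736d62585749453e301f1b0603) i1) (_root_.Prod.mk (pk61d (nat_lit 7) 
    (nat_lit 0x367943150a1d9e8c6d8bb8ca0d9e50c54283cecdc662ed446) i1) ((fun g1 : Nat → Nat => pk61l (fun i2 => (pk61d (nat_lit 7) 
    (nat_lit 0x851abc450a87edd82050dd90a37360a740c1fb00048f8d808143762e684be7160205ec7910916e2e8ce9d438f2465f2bec851abc4139f5122e3580850307ec3c81126e020500095c6b0179860fd8002571ac0428183f62e691f15734615428d5e228542050dd8002571ac0c1bd8790428e98de6391f1571860dec5cd1126cac0419d8b9a12f9cd829d8f22132dc5de7d438004851d3224c20518347072e691f15734a07) i2)) (g1 i1) (g1 (Nat.succ i1)) List.nil) fun j => (pk61d (nat_lit 8) 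
    (nat_lit 0xbbb3b2aea59c9389837c736c6258504a463e362f261e1515100c080000) j))))) (nat_lit 0) (nat_lit 28) List.nil)) : Rw)
    = ?xq9087 → (Rw)) ?hq9087; (case hq9087 => (set_option maxRecDepth 1000000 in conv => lhs; reduce)); intro _; exact ?xq9087 : Rw)

/-- A1A1A1A1A1A1A1A1 -/
noncomputable def rE8_21 : Rw :=
  (by
  refine (?fq9088 : ((_root_.Cfsg.Agent.N2.Ex.Al.Ck.Rw.mk (nat_lit 883423532800569873397395799593491270714318654428720779203080545590313043) (pk61l (fun i1 => (pk61d (nat_lit 7) 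
    (nat_lit 0xeeaec460c10080) i1)) (nat_lit 0) (nat_lit 8) List.nil) (pk61l (fun i1 => (_root_.Prod.mk (pk61d (nat_lit 8) 
    (nat_lit 0xeeeceae8e4dfd8d6ccc2b7b2a595) i1) (_root_.Prod.mk (nat_lit 48) ((fun g1 : Nat → Nat => pk61l (fun i2 => (pk61d (nat_lit 7) 
    (nat_lit 0x79032f8e660c3a358ee3c8197c1475d57dc79002246321d37b800465f0c643aef700086321d37b80043a6f70008af30fd6c0f200448e9bdc7900226c0f2004495e61fad81e40cbe0834346560010c656000232f86328c001197c15c86) i2)) (g1 i1) (g1 (Nat.succ i1)) List.nil) fun j => (pk61d (nat_lit 7) 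
    (nat_lit 0x1aafd69b11eb862a929c2638380) j))))) (nat_lit 0) (nat_lit 14) List.nil)) : Rw)
    = ?xq9088 → (Rw)) ?hq9088; (case hq9088 => (set_option maxRecDepth 1000000 in conv => lhs; reduce)); intro _; exact ?xq9088 : Rw)

/-- A3A2 -/
noncomputable def rE8_22 : Rw :=
  (by
  refine (?fq9089 : ((_root_.Cfsg.Agent.N2.Ex.Al.Ck.Rw.mk (nat_lit 29778570632674413543637355878307993491921020985440794839089431) (pk61l (fun i1 => (pk61d (nat_lit 7) 
    (nat_lit 0x4b0808080) i1)) (nat_lit 0) (nat_lit 5) List.nil) (pk61l (fun i1 => (_root_.Prod.mk (pk61d (nat_lit 8) 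
    (nat_lit 0xefeeedeceae4dfdcdbd8cbc5c2bebcb7b0a5a39d8c847e77625d4c494337231f150e0706) i1) (_root_.Prod.mk (pk61d (nat_lit 7) 
    (nat_lit 0x34ad5a570e11224b051224b052b870e10b84a94d1a44892a244e1c214aad59a) i1) ((fun g1 : Nat → Nat => pk61l (fun i2 => (pk61d (nat_lit 7) 
    (nat_lit 0x9171ac0c1a1faf70e1bb87ee5cd1126cac04181fa8f20ae35808503f5ee2051126fec04181faf70fdc386ee5cd195760287ebdd5d80fd479002255dd0bcfa86ee3c80112aee85e7d7b9734041b8b0102807918b9a020dc58081430f20449b8081430f20449b8081440a020c2050c3c80112aec07ea2050106102973425f38b0106062e684be716020c326d5d80c245c6b030687ea3c80112aee85e7d479002255dd0bcfa862e68cabb0143f50e1838814449bfb010607ea3c82b8d602140fd4b9a224d95808303f5ee1c386326d5d8) i2)) (g1 i1) (g1 (Nat.succ i1)) List.nil) fun j => (pk61d (nat_lit 8) 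
    (nat_lit 0xede4e1dfd5cbc0bebbb2aea399918e857d766f676158504b433a302826251b121207060400) j))))) (nat_lit 0) (nat_lit 36) List.nil)) : Rw)
    = ?xq9089 → (Rw)) ?hq9089; (case hq9089 => (set_option maxRecDepth 1000000 in conv => lhs; reduce)); intro _; exact ?xq9089 : Rw)

/-- A2A2A2 -/
noncomputable def rE8_23 : Rw :=
  (by
  refine (?fq9090 : ((_root_.Cfsg.Agent.N2.Ex.Al.Ck.Rw.mk (nat_lit 398448840625131109031078004483204639927709477620995330359) (pk61l (fun i1 => (pk61d (nat_lit 6) 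
    (nat_lit 0xf85102040) i1)) (nat_lit 0) (nat_lit 6) List.nil) (pk61l (fun i1 => (_root_.Prod.mk (pk61d (nat_lit 8) 
    (nat_lit 0xefeeedeae4dcd8d1ccc5beb09d7f77766257493730231b0e0706) i1) (_root_.Prod.mk (pk61d (nat_lit 7) 
    (nat_lit 0xd9b64c993264c993264b621b366d93264c993264c8db2) i1) ((fun g1 : Nat → Nat => pk61l (fun i2 => (pk61d (nat_lit 7) 
    (nat_lit 0x1fb772e68d840a1bb040a1bb0f2064dd80a1bb0f21602050c1c790b0102862e68cabb0143072e68cabb01431936aec050c1cc9b57602861e40893701028004ae3580850307ec1fb9936aec050dd8b9a32aec050dd8790b010286ec3c81937602860e3c819376028608143070814317346c2050c1cb9a3610286) i2)) (g1 i1) (g1 (Nat.succ i1)) List.nil) fun j => (pk61d (nat_lit 8) 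
    (nat_lit 0x8b8988817d756e686059524c453d3c3b39322a231b14100d060600) j))))) (nat_lit 0) (nat_lit 26) List.nil)) : Rw)
    = ?xq9090 → (Rw)) ?hq9090; (case hq9090 => (set_option maxRecDepth 1000000 in conv => lhs; reduce)); intro _; exact ?xq9090 : Rw)

/-- A3A1A1A1 -/
noncomputable def rE8_24 : Rw :=
  (by
  refine (?fq9091 : ((_root_.Cfsg.Agent.N2.Ex.Al.Ck.Rw.mk (nat_lit 11786211446821741900333551680119936666791839793495) (pk61l (fun i1 => (pk61d (nat_lit 5) 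
    (nat_lit 0x3e620820) i1)) (nat_lit 0) (nat_lit 6) List.nil) (pk61l (fun i1 => (_root_.Prod.mk (pk61d (nat_lit 8) 
    (nat_lit 0xefeeeceadfd8d6ccc8c2bfb795867775665f524b433c2315130705) i1) (_root_.Prod.mk (pk61d (nat_lit 7) 
    (nat_lit 0x70f3162e56334cc613184dcf1c3cc58b34ce56316308f42) i1) ((fun g1 : Nat → Nat => pk61l (fun i2 => (pk61d (nat_lit 7) 
    (nat_lit 0x3b973425f39b0579860fdc8930814307ee102860fdc40a326dc582bcc376ef1ac77000848bb0306b9b010286ebdd5d8183489373602050dd7b9936aec0c1a0012b8d60b9a12f9cd82bcc30e2e684be7360af30c3bb9126e6c040a1bab9b010286ea0010916ac60d1028c9b7160af30dd82050c1c89308143071834b9a12f9cd82bcc307326c60d) i2)) (g1 i1) (g1 (Nat.succ i1)) List.nil) fun j => (pk61d (nat_lit 8) 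
    (nat_lit 0x9a998e87827775746d666259534e444439312b2b241a1a16100e0400) j))))) (nat_lit 0) (nat_lit 27) List.nil)) : Rw)
    = ?xq9091 → (Rw)) ?hq9091; (case hq9091 => (set_option maxRecDepth 1000000 in conv => lhs; reduce)); intro _; exact ?xq9091 : Rw)

/-- A4 -/
noncomputable def rE8_25 : Rw :=
  (by
  refine (?fq9092 : ((_root_.Cfsg.Agent.N2.Ex.Al.Ck.Rw.mk (nat_lit 5708256643518679498336202596773815956637455) (pk61l (fun i1 => i1) (nat_lit 0) (nat_lit 4) List.nil) (pk61l (fun i1 => (_root_.Prod.mk (pk61d (nat_lit 8) 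
    (nat_lit 0xefeeedecebe2dfdcd8d2cdc8c7c2bcb8b1aaa38d86857f7e7d77767574695f5b565149433d3c362f1c15140e0d0c07060504) i1) (_root_.Prod.mk (pk61d (nat_lit 6) 
    (nat_lit 0x75d75dd6aaaaaaaaaaaaaab5d75d5d75d75d75d75d775aaaaaaaaaaaaaaad5dd5d77575d775) i1) ((fun g1 : Nat → Nat => pk61l (fun i2 => (pk61d (nat_lit 7) 
    (nat_lit 0x15ea37a85e9d7a75e81ba0ee83c82b8d602151e415c6b0102871e415c6b01038f20ae3580814790571ac041e415c6b01030f20ae3580854790571ac041a3c82b8d602051e415c6b01028e2a143062a3428ee81ba740bd4790571ac04e83c82b8d602761e415c6b0102f61e415c6b013a0f20ae358081fa062a5470d0c5470d0a543051a3828d) i2)) (g1 i1) (g1 (Nat.succ i1)) List.nil) fun j => (pk61d (nat_lit 8) 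
    (nat_lit 0x999795939291908f8d8b847c756e68615a534c464443413f3e3d3b3938362f282019110f0e0d0c0b0b0a090806050402000000) j))))) (nat_lit 0) (nat_lit 50) List.nil)) : Rw)
    = ?xq9092 → (Rw)) ?hq9092; (case hq9092 => (set_option maxRecDepth 1000000 in conv => lhs; reduce)); intro _; exact ?xq9092 : Rw)

/-- A3A2A1 -/
noncomputable def rE8_26 : Rw :=
  (by
  refine (?fq9093 : ((_root_.Cfsg.Agent.N2.Ex.Al.Ck.Rw.mk (nat_lit 1410628589018788336044563300844852598550903) (pk61l (fun i1 => (pk61d (nat_lit 3) 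
    (nat_lit 0x35888) i1)) (nat_lit 0) (nat_lit 6) List.nil) (pk61l (fun i1 => (_root_.Prod.mk (pk61d (nat_lit 8) 
    (nat_lit 0xefeeeae4dbd8cccbbeada59477736d5d584c3e37231f0703) i1) (_root_.Prod.mk (pk61d (nat_lit 7) 
    (nat_lit 0x3ca17ba769993a84be5283ca17ba4ced93a5f0944a) i1) ((fun g1 : Nat → Nat => pk61l (fun i2 => (pk61d (nat_lit 7) 
    (nat_lit 0x1dcb9a47c55cd281fb840a183f7000889370102860fdcf22326d5ddebd8002571ac0c1a5cd1126cac0418449b9b0139f5eddc03c326d5c6b00012b8d602f30ddbb8004ae3581834b9a47c55cd08147072e691f157342051c1fb8004ae3580bcc376224dcd809cfaf63c88c9b5777af6ee5cd1b081430004449b808143070814307326c60d2e691f15734a07) i2)) (g1 i1) (g1 (Nat.succ i1)) List.nil) fun j => (pk61d (nat_lit 8) 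
    (nat_lit 0x9f9e9590867e776f665f554e4444393028281f19100c080000) j))))) (nat_lit 0) (nat_lit 24) List.nil)) : Rw)
    = ?xq9093 → (Rw)) ?hq9093; (case hq9093 => (set_option maxRecDepth 1000000 in conv => lhs; reduce)); intro _; exact ?xq9093 : Rw)

/-- A2A2A2A1 -/
noncomputable def rE8_27 : Rw :=
  (by
  refine (?fq9094 : ((_root_.Cfsg.Agent.N2.Ex.Al.Ck.Rw.mk (nat_lit 398448840625131109201219187943673871659396781336879436215) (pk61l (fun i1 => (pk61d (nat_lit 6) 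
    (nat_lit 0x3e1c5102040) i1)) (nat_lit 0) (nat_lit 7) List.nil) (pk61l (fun i1 => (_root_.Prod.mk (pk61d (nat_lit 8) 
    (nat_lit 0xefedeae4dcd1c5b09d76625749301b06) i1) (_root_.Prod.mk (pk61d (nat_lit 7) 
    (nat_lit 0x46d1a348f1e3b18c8da34691e3c7) i1) ((fun g1 : Nat → Nat => pk61l (fun i2 => (pk61d (nat_lit 7) 
    (nat_lit 0x1fb17346c2050dd82050dd8790326ec050dd8002224dc0de63932a53603f637c55cd0870707ec3c81126e020500095c6b010a060fd8c9b5760286ec5cd195760286ec3c858081437600090a3a6245c6b01798eec995112798a15) i2)) (g1 i1) (g1 (Nat.succ i1)) List.nil) fun j => (pk61d (nat_lit 7) 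
    (nat_lit 0x67cb7ad529511db454a919b283c380) j))))) (nat_lit 0) (nat_lit 16) List.nil)) : Rw)
    = ?xq9094 → (Rw)) ?hq9094; (case hq9094 => (set_option maxRecDepth 1000000 in conv => lhs; reduce)); intro _; exact ?xq9094 : Rw)

/-- A3A1A1A1A1 -/
noncomputable def rE8_28 : Rw :=
  (by
  refine (?fq9095 : ((_root_.Cfsg.Agent.N2.Ex.Al.Ck.Rw.mk (nat_lit 883423532389192164791660536582906080320256279881947535449373422626275671) (pk61l (fun i1 => (pk61d (nat_lit 7) 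
    (nat_lit 0x1dcf860808080) i1)) (nat_lit 0) (nat_lit 7) List.nil) (pk61l (fun i1 => (_root_.Prod.mk (pk61d (nat_lit 8) 
    (nat_lit 0xeeeceadfd8d6ccc8c2bfb795864b3c1305) i1) (_root_.Prod.mk (pk61d (nat_lit 7) 
    (nat_lit 0x29870dcb066a61c3870dca952c21c3) i1) ((fun g1 : Nat → Nat => pk61l (fun i2 => (pk61d (nat_lit 7) 
    (nat_lit 0x12b8d60af3326c60d0fd460d0fd440a326dc582bcc376ee1faf7000848b5630687eaaec0c1a1faabb03069936aec0c1a1fa9936aec0c1a0012b8d60002571ac15e61fa8004245ab183460d326c60d) i2)) (g1 i1) (g1 (Nat.succ i1)) List.nil) fun j => (pk61d (nat_lit 7) 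
    (nat_lit 0x2dd49d29fbd78cd6a9426cb0d0c18200) j))))) (nat_lit 0) (nat_lit 17) List.nil)) : Rw)
    = ?xq9095 → (Rw)) ?hq9095; (case hq9095 => (set_option maxRecDepth 1000000 in conv => lhs; reduce)); intro _; exact ?xq9095 : Rw)

/-- A4A1 -/
noncomputable def rE8_29 : Rw :=
  (by
  refine (?fq9096 : ((_root_.Cfsg.Agent.N2.Ex.Al.Ck.Rw.mk (nat_lit 5708299178814544615644135518599744927663919) (pk61l (fun i1 => (pk61d (nat_lit 3) 
    (nat_lit 0x5688) i1)) (nat_lit 0) (nat_lit 5) List.nil) (pk61l (fun i1 => (_root_.Prod.mk (pk61d (nat_lit 8) 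
    (nat_lit 0xefeeedebe2dcd8d2cdc7bcb8b1aa8d857f777674695b5651493d362f1c140e070604) i1) (_root_.Prod.mk (pk61d (nat_lit 7) 
    (nat_lit 0x10204addc2e5cb9c385addbc44a950204095bb85cb973870b5bb74a812c4) i1) ((fun g1 : Nat → Nat => pk61l (fun i2 => (pk61d (nat_lit 7) 
    (nat_lit 0x1fb77ec14376eddfb0f20ae35808146f71e415c6b01028d0e3c82b8d602051a3c82b8d602051a3c82b8d602050c1c790571ac040a18790571ac040a342860e14307ec1fb850dd8790571ac040a1bb0f20ae35808146f61e415c6b01028d1e415c6b01028d0e1c2860e14307) i2)) (g1 i1) (g1 (Nat.succ i1)) List.nil) fun j => (pk61d (nat_lit 7) 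
    (nat_lit 0x1efcf8efd39f2e3a2fd79f19f3666c582f5aa9098201c3860c181810000000) j))))) (nat_lit 0) (nat_lit 34) List.nil)) : Rw)
    = ?xq9096 → (Rw)) ?hq9096; (case hq9096 => (set_option maxRecDepth 1000000 in conv => lhs; reduce)); intro _; exact ?xq9096 : Rw)

/-- A3A2A1A1 -/
noncomputable def rE8_30 : Rw :=
  (by
  refine (?fq9097 : ((_root_.Cfsg.Agent.N2.Ex.Al.Ck.Rw.mk (nat_lit 883423532389192164791648750372869887167374734666311978813551483385033079) (pk61l (fun i1 => (pk61d (nat_lit 7) 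
    (nat_lit 0x1dc3050808080) i1)) (nat_lit 0) (nat_lit 7) List.nil) (pk61l (fun i1 => (_root_.Prod.mk (pk61d (nat_lit 8) 
    (nat_lit 0xeeeae4dbd8cccbbeada594583e1f03) i1) (_root_.Prod.mk (pk61d (nat_lit 7) 
    (nat_lit 0xd1ecb76a5a4b86f65b452d21cb) i1) ((fun g1 : Nat → Nat => pk61l (fun i2 => (pk61d (nat_lit 7) 
    (nat_lit 0x5cd23e2ae68de61bb85e618380048f8d83c88c9b5777af600095c6b03069734449b2b010623e2ae30c1a01e1936ae35800095c6b0179860e0012b8d6060d2e691f157342051c1cb9a3610286326c60d) i2)) (g1 i1) (g1 (Nat.succ i1)) List.nil) fun j => (pk61d (nat_lit 7) 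
    (nat_lit 0xb7466c880e58ab486ca0a1410000) j))))) (nat_lit 0) (nat_lit 15) List.nil)) : Rw)
    = ?xq9097 → (Rw)) ?hq9097; (case hq9097 => (set_option maxRecDepth 1000000 in conv => lhs; reduce)); intro _; exact ?xq9097 : Rw)

/-- D4 -/
noncomputable def rE8_31 : Rw :=
  (by
  refine (?fq9098 : ((_root_.Cfsg.Agent.N2.Ex.Al.Ck.Rw.mk (nat_lit 11692766229301631178445529304092084076046987920403) (pk61l (fun i1 => (pk61d (nat_lit 4) 
    (nat_lit 0xa410) i1)) (nat_lit 0) (nat_lit 4) List.nil) (pk61l (fun i1 => (_root_.Prod.mk (pk61d (nat_lit 8) 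
    (nat_lit 0xefeeedeceadfdcdad8d5d0cbc8c5c2bfbebcb7b09c86807f7e77767566625f5d58534d4946433c231b15130e0d070605) i1) (_root_.Prod.mk (pk61d (nat_lit 6) 
    (nat_lit 0xd64) (pk61d (nat_lit 1) 
    (nat_lit 0x1e8b7a0a17e9) i1)) ((fun g1 : Nat → Nat => pk61l (fun i2 => (pk61d (nat_lit 7) 
    (nat_lit 0x465f0572ac3f50008cbe0ae55f50008cbe0ae5586ec3c8197c155f51e4008918cba800588002ba001197c15cabba001580008cbe0ae5586c4001197c15cab1d7400232f82b957347900224632ba001197c15cab0d4c7900224632b03c8197c155cd0008cbe0ae558e9a3c8011231906b03c8197c155c61e40cbe0aac346000a3580008cbe0ae5587000800232f82b956187000465f0572ac00232f82b9563bb000465f0572ac3750008cbe0ae55f61e40cbe0aaf1000465f0572ac35d1e4008918ca9800465f0572af1000465f0572ac3e20008cbe0ae55869a001197c15caba6001530008cbe0ae5587a60014d000a30f200448c643879002246320c3c8197c1558e1e4008918c800232f82b9561838f2065f05561800232f82b9563800232f82b9561879032f82ab) i2))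 (g1 i1) (g1 (Nat.succ i1)) List.nil) fun j => (pk61d (nat_lit 9) 
    (nat_lit 0x155a6512773496caa4f1f8e44e15027dbc9d6e46db4d98c4602e16cad53275288c429f0ea6d3216ca65023910823a198b04c1d0b0380c00) j))))) (nat_lit 0) (nat_lit 48) List.nil)) : Rw)
    = ?xq9098 → (Rw)) ?hq9098; (case hq9098 => (set_option maxRecDepth 1000000 in conv => lhs; reduce)); intro _; exact ?xq9098 : Rw)

/-- A4A1A1 -/
noncomputable def rE8_32 : Rw :=
  (by
  refine (?fq9099 : ((_root_.Cfsg.Agent.N2.Ex.Al.Ck.Rw.mk (nat_lit 5708469319998005084875867205903460811769775) (pk61l (fun i1 => (pk61d (nat_lit 3) 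
    (nat_lit 0x3d688) i1)) (nat_lit 0) (nat_lit 6) List.nil) (pk61l (fun i1 => (_root_.Prod.mk (pk61d (nat_lit 8) 
    (nat_lit 0xefedebe2dcd2cdbcb8aa8d7674695b5149362f140604) i1) (_root_.Prod.mk (pk61d (nat_lit 7) 
    (nat_lit 0x142872e9d3190c63465ea143974e98c863197c6) i1) ((fun g1 : Nat → Nat => pk61l (fun i2 => (pk61d (nat_lit 7) 
    (nat_lit 0x774edd8286ec3c82b8d60274ee3c82b8d602051a1fb0f20ae35809d3b9e44855dd39d03f71e415c6b01028d0fd8790571ac04e9dc790571ac040a343f61a387740e143761e415c6b010286ec3470d1c001193718e050c1c68e) i2)) (g1 i1) (g1 (Nat.succ i1)) List.nil) fun j => (pk61d (nat_lit 7) 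
    (nat_lit 0x19b1e2bf5e6c578c95203c6cc0f1a345820400000) j))))) (nat_lit 0) (nat_lit 22) List.nil)) : Rw)
    = ?xq9099 → (Rw)) ?hq9099; (case hq9099 => (set_option maxRecDepth 1000000 in conv => lhs; reduce)); intro _; exact ?xq9099 : Rw)

/-- A3A3 -/
noncomputable def rE8_33 : Rw :=
  (by
  refine (?fq9100 : ((_root_.Cfsg.Agent.N2.Ex.Al.Ck.Rw.mk (nat_lit 29778570632686199755083721695005772817456734916285910520693015) (pk61l (fun i1 => (pk61d (nat_lit 7) 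
    (nat_lit 0xfcb0808080) i1)) (nat_lit 0) (nat_lit 6) List.nil) (pk61l (fun i1 => (_root_.Prod.mk (pk61d (nat_lit 8) 
    (nat_lit 0xefeeedeceadfdcd8c2bcb7b07e77494323150e0706) i1) (_root_.Prod.mk (pk61d (nat_lit 7) 
    (nat_lit 0x2666cdf3e66ce0be7cf9f264ccd9be7ccd9a6) i1) ((fun g1 : Nat → Nat => pk61l (fun i2 => (pk61d (nat_lit 7) 
    (nat_lit 0x2122ec0c1a1faf70e1bb87ee2051126fec05281faf710284be73602050fd7b8a8624386ee2a1890fdd5d80fd440a12f82050c205097c1028814449ab0a1840a224d585000848b5630686000848bb030687ea2a1890e2a1890e1840a12f9cd808143f510288937f602940fd43870c0010916ac60d) i2)) (g1 i1) (g1 (Nat.succ i1)) List.nil) fun j => (pk61d (nat_lit 8) 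
    (nat_lit 0x867c79776c615b56524b453e383027231e140a090700) j))))) (nat_lit 0) (nat_lit 21) List.nil)) : Rw)
    = ?xq9100 → (Rw)) ?hq9100; (case hq9100 => (set_option maxRecDepth 1000000 in conv => lhs; reduce)); intro _; exact ?xq9100 : Rw)

/-- A3A3 -/
noncomputable def rE8_34 : Rw :=
  (by
  refine (?fq9101 : ((_root_.Cfsg.Agent.N2.Ex.Al.Ck.Rw.mk (nat_lit 983447702934288743876204456140210035351787677606674605845512471) (pk61l (fun i1 => (pk61d (nat_lit 7) 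
    (nat_lit 0x1e520808080) i1)) (nat_lit 0) (nat_lit 6) List.nil) (pk61l (fun i1 => (_root_.Prod.mk (pk61d (nat_lit 8) 
    (nat_lit 0xefeeedeceae4dbd8cbc5bcb09d948462451f0e06) i1) (_root_.Prod.mk (pk61d (nat_lit 7) 
    (nat_lit 0x66be42f7f21fb35f217bf90bdfaf5ecd7b3) i1) ((fun g1 : Nat → Nat => pk61l (fun i2 => (pk61d (nat_lit 7) 
    (nat_lit 0x326d5d8183477600090a3a6102f7010d5e2ee38f22326d5dd09d03771dd840a133195d09cc30eec2051936e2c04283bb08142660c1a3854312af10e00090a371602050fd80439a38f2242fc2050e3840a326d905e61bb08140418c1a7911936e02140e2051936e2c150e38002224e3580bcc3763c890abc4379f71dd85431238002224dc142a3860d) i2)) (g1 i1) (g1 (Nat.succ i1)) List.nil) fun j => (pk61d (nat_lit 8) 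
    (nat_lit 0x9c948c867a6f655e584e4a4239332b22180e0a0200) j))))) (nat_lit 0) (nat_lit 20) List.nil)) : Rw)
    = ?xq9101 → (Rw)) ?hq9101; (case hq9101 => (set_option maxRecDepth 1000000 in conv => lhs; reduce)); intro _; exact ?xq9101 : Rw)

/-- A2A2A2A2 -/
noncomputable def rE8_35 : Rw :=
  (by
  refine (?fq9102 : ((_root_.Cfsg.Agent.N2.Ex.Al.Ck.Rw.mk (nat_lit 1325135298583788645636313750688298089086721863169272782665841283059159479) (pk61l (fun i1 => (pk61d (nat_lit 7) 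
    (nat_lit 0x7dd83850808080) i1)) (nat_lit 0) (nat_lit 8) List.nil) (pk61l (fun i1 => (_root_.Prod.mk (pk61d (nat_lit 8) 
    (nat_lit 0xedeae4dcd1c5b09d) i1) (_root_.Prod.mk (pk61d (nat_lit 7) 
    (nat_lit 0x691da348f1da47) i1) ((fun g1 : Nat → Nat => pk61l (fun i2 => (pk61d (nat_lit 7) 
    (nat_lit 0x5cd23e2ae68de6183f71bcc70f2064dd80a1bb0f208f8ab8d6060d0e99509afa46f31c1fb9be2ae68438383f647c55c62bcc77700095c6b010a06) i2)) (g1 i1) (g1 (Nat.succ i1)) List.nil) fun j => (pk61d (nat_lit 7) 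
    (nat_lit 0x4370d56a33240400) j))))) (nat_lit 0) (nat_lit 8) List.nil)) : Rw)
    = ?xq9102 → (Rw)) ?hq9102; (case hq9102 => (set_option maxRecDepth 1000000 in conv => lhs; reduce)); intro _; exact ?xq9102 : Rw)

/-- D4A1 -/
noncomputable def rE8_36 : Rw :=
  (by
  refine (?fq9103 : ((_root_.Cfsg.Agent.N2.Ex.Al.Ck.Rw.mk (nat_lit 112305687657020110858532616709715640418196349101996413922324775175) (pk61l (fun i1 => (pk61d (nat_lit 6) 
    (nat_lit 0x3c7c2040) i1)) (nat_lit 0) (nat_lit 5) List.nil) (pk61l (fun i1 => (_root_.Prod.mk (pk61d (nat_lit 8) 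
    (nat_lit 0xefeeedecebead6d2d1cdccc7c2bcb7b1b0aa7e7c775b575652231c150e070604) i1) (_root_.Prod.mk (pk61d (nat_lit 7) 
    (nat_lit 0x4eddbb76f055ab56ae0c18305bb76edd3a74ead5ab5705bb76edd3a7) i1) ((fun g1 : Nat → Nat => pk61l (fun i2 => (pk61d (nat_lit 7) 
    (nat_lit 0x15d80a503f51028c9b7160af31c2051936e2c15e6383081464db8b0503f509dc40a326dc58281faf710284cb57602940fd4543034a68e0818543034a68e0c2a181a534704150c0d29a3840a132c2081426588142658528205099614a061028c9b64343081464db21a103081464db21a2051936c86840a5022bb014a07ebdc543034a68eee2a181a534704ee2a181a534706ee2a181a5347040ddc40a132d5d80a503f5ee2051936e2c140fd440a326dc58281fa841028c9b7160af31c1bb881464db8b05798eee14a06) i2)) (g1 i1) (g1 (Nat.succ i1)) List.nil) fun j => (pk61d (nat_lit 8) 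
    (nat_lit 0xe6e0d7cdc2b8aea69f98928d89837c756d67605e5d564f473f362b22180d030000) j))))) (nat_lit 0) (nat_lit 32) List.nil)) : Rw)
    = ?xq9103 → (Rw)) ?hq9103; (case hq9103 => (set_option maxRecDepth 1000000 in conv => lhs; reduce)); intro _; exact ?xq9103 : Rw)

/-- A4A2 -/
noncomputable def rE8_37 : Rw :=
  (by
  refine (?fq9104 : ((_root_.Cfsg.Agent.N2.Ex.Al.Ck.Rw.mk (nat_lit 5719273285147744881090829349689419452491631) (pk61l (fun i1 => (pk61d (nat_lit 3) 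
    (nat_lit 0x35688) i1)) (nat_lit 0) (nat_lit 6) List.nil) (pk61l (fun i1 => (_root_.Prod.mk (pk61d (nat_lit 8) 
    (nat_lit 0xefeeebe2d8d2c7b8b18d77746956513d2f1c0704) i1) (_root_.Prod.mk (pk61d (nat_lit 7) 
    (nat_lit 0x50bddbf64fdf3b94bd42f76fd93f7ced7ca) i1) ((fun g1 : Nat → Nat => pk61l (fun i2 => (pk61d (nat_lit 7) 
    (nat_lit 0x77ee14307efdc790571ac040a18790571ac040a1bb8f20ae358081430f20ae35809d3b8f20ae35808143050c1c2860fdc790571ac04e83c82b8d602050c14307) i2)) (g1 i1) (g1 (Nat.succ i1)) List.nil) fun j => (pk61d (nat_lit 7) 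
    (nat_lit 0x49911e1c274c54a13258b12160c1830600000) j))))) (nat_lit 0) (nat_lit 20) List.nil)) : Rw)
    = ?xq9104 → (Rw)) ?hq9104; (case hq9104 => (set_option maxRecDepth 1000000 in conv => lhs; reduce)); intro _; exact ?xq9104 : Rw)

/-- A3A3A1 -/
noncomputable def rE8_38 : Rw :=
  (by
  refine (?fq9105 : ((_root_.Cfsg.Agent.N2.Ex.Al.Ck.Rw.mk (nat_lit 112305686037172312377078057338128190837897175074019874288006345079) (pk61l (fun i1 => (pk61d (nat_lit 7) 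
    (nat_lit 0x1603050808080) i1)) (nat_lit 0) (nat_lit 7) List.nil) (pk61l (fun i1 => (_root_.Prod.mk (pk61d (nat_lit 8) 
    (nat_lit 0xefeeeae4dbccbea5774c372307) i1) (_root_.Prod.mk (pk61d (nat_lit 7) 
    (nat_lit 0x2980f603d650a5297b01ec0) i1) ((fun g1 : Nat → Nat => pk61l (fun i2 => (pk61d (nat_lit 7) 
    (nat_lit 0x771e411f1b010286eddc790571ac05e6183f700091f1714ca8e0fdd32a428e30c2a1fb9734449b2b0106007864dab8d60002571ac0c1a9952147186150e00123e2e29951c1c790571ac05e61838f208f8d80814376) i2)) (g1 i1) (g1 (Nat.succ i1)) List.nil) fun j => (pk61d (nat_lit 7) 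
    (nat_lit 0x30e0ad3213962a91a33648480) j))))) (nat_lit 0) (nat_lit 13) List.nil)) : Rw)
    = ?xq9105 → (Rw)) ?hq9105; (case hq9105 => (set_option maxRecDepth 1000000 in conv => lhs; reduce)); intro _; exact ?xq9105 : Rw)

/-- D4A1A1 -/
noncomputable def rE8_39 : Rw :=
  (by
  refine (?fq9106 : ((_root_.Cfsg.Agent.N2.Ex.Al.Ck.Rw.mk (nat_lit 112305687657020110858532616730983288350755003068457326886810288407) (pk61l (fun i1 => (pk61d (nat_lit 6) 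
    (nat_lit 0xf1f102040) i1)) (nat_lit 0) (nat_lit 6) List.nil) (pk61l (fun i1 => (_root_.Prod.mk (pk61d (nat_lit 8) 
    (nat_lit 0xefeeedecead6d1ccc2bcb7b07e77575223150e0706) i1) (_root_.Prod.mk (pk61d (nat_lit 7) 
    (nat_lit 0x2c72e614266ce0c2850a12c58cd9c284e5cac) i1) ((fun g1 : Nat → Nat => pk61l (fun i2 => (pk61d (nat_lit 7) 
    (nat_lit 0x8d603f5ee2051936e2c15e63840a326dc582bcc7061028c9b716020d0fd7b8814265abb030687ebdc543123bb8a8624706eeaec08142658c1a1840a132c60d1028c9b64343081464db21a1a3580fd4543123830a862470814265abb030687ea2051936e2c041a1fa881464db8b05798e0ddc40a326dc582bcc777) i2)) (g1 i1) (g1 (Nat.succ i1)) List.nil) fun j => (pk61d (nat_lit 8) 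
    (nat_lit 0x8c877e74695e5953514a443d3736322d291f150a0000) j))))) (nat_lit 0) (nat_lit 21) List.nil)) : Rw)
    = ?xq9106 → (Rw)) ?hq9106; (case hq9106 => (set_option maxRecDepth 1000000 in conv => lhs; reduce)); intro _; exact ?xq9106 : Rw)

/-- A4A2A1 -/
noncomputable def rE8_40 : Rw :=
  (by
  refine (?fq9107 : ((_root_.Cfsg.Agent.N2.Ex.Al.Ck.Rw.mk (nat_lit 883423532389192164791648750377178531863503691211358244862396050238973807) (pk61l (fun i1 => (pk61d (nat_lit 7) 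
    (nat_lit 0x1dc3050608080) i1)) (nat_lit 0) (nat_lit 7) List.nil) (pk61l (fun i1 => (_root_.Prod.mk (pk61d (nat_lit 8) 
    (nat_lit 0xeeebe2d8d2c7b8b18d512f04) i1) (_root_.Prod.mk (pk61d (nat_lit 7) 
    (nat_lit 0x6d1e63499023cb6cd204b) i1) ((fun g1 : Nat → Nat => pk61l (fun i2 => (pk61d (nat_lit 7) 
    (nat_lit 0xbd3b06e81c792428d5d8281ba761e415c6b0102864ca848b643068e1e415c6b0102861e415c6b013a07ee3c82b8d602050c14307) i2)) (g1 i1) (g1 (Nat.succ i1)) List.nil) fun j => (pk61d (nat_lit 6) 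
    (nat_lit 0x3ce76b247142c3000000) j))))) (nat_lit 0) (nat_lit 12) List.nil)) : Rw)
    = ?xq9107 → (Rw)) ?hq9107; (case hq9107 => (set_option maxRecDepth 1000000 in conv => lhs; reduce)); intro _; exact ?xq9107 : Rw)

/-- A3A3A1A1 -/
noncomputable def rE8_41 : Rw :=
  (by
  refine (?fq9108 : ((_root_.Cfsg.Agent.N2.Ex.Al.Ck.Rw.mk (nat_lit 883423644694878201963961127449516596706546784227442489532580918792827255) (pk61l (fun i1 => (pk61d (nat_lit 7) 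
    (nat_lit 0xef603050808080) i1)) (nat_lit 0) (nat_lit 8) List.nil) (pk61l (fun i1 => (_root_.Prod.mk (pk61d (nat_lit 8) 
    (nat_lit 0xeeeae4dbccbea5) i1) (_root_.Prod.mk (pk61d (nat_lit 7) 
    (nat_lit 0x101ec07ad21cb) i1) ((fun g1 : Nat → Nat => pk61l (fun i2 => (pk61d (nat_lit 7) 
    (nat_lit 0xf208f8d80814376ee3c82b8d602f30c1fb80048f8b8a654707ee9952147186150fdcb9a224d958083003c326d5c6b00012b8d6060d) i2)) (g1 i1) (g1 (Nat.succ i1)) List.nil) fun j => (pk61d (nat_lit 6) 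
    (nat_lit 0xf73a5f58e1c0) j))))) (nat_lit 0) (nat_lit 7) List.nil)) : Rw)
    = ?xq9108 → (Rw)) ?hq9108; (case hq9108 => (set_option maxRecDepth 1000000 in conv => lhs; reduce)); intro _; exact ?xq9108 : Rw)

/-- A5 -/
noncomputable def rE8_42 : Rw :=
  (by
  refine (?fq9109 : ((_root_.Cfsg.Agent.N2.Ex.Al.Ck.Rw.mk (nat_lit 398547801824003761528211153645971609199129929417163376399) (pk61l (fun i1 => (pk61d (nat_lit 6) 
    (nat_lit 0x2f0c2040) i1)) (nat_lit 0) (nat_lit 5) List.nil) (pk61l (fun i1 => (_root_.Prod.mk (pk61d (nat_lit 8) 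
    (nat_lit 0xefeeedecebdcd8cdc8c7c2aaa37f7d77765f5b491c15140e0d070605) i1) (_root_.Prod.mk (pk61d (nat_lit 7) 
    (nat_lit 0x5cb9c3883060b870e1c4488b96ae5ce1c4182e20b870b9c2d) i1) ((fun g1 : Nat → Nat => pk61l (fun i2 => (pk61d (nat_lit 7) 
    (nat_lit 0xc57b062a1fb860bd83761bd840a132d5d8083438814265abb01068814262b2b0303050e205098acac0c0c1c40a1315958181828814262b2b03030004449c6b01030004449c6b0103050c542862a1fb062bdc40a1315958181bb0814262b2b030305ec2050996aec041bd86870c1c6860a1c3062a1c305) i2)) (g1 i1) (g1 (Nat.succ i1)) List.nil) fun j => (pk61d (nat_lit 8) 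
    (nat_lit 0x8885817e7c7a71695f564d453d3432312d2a21170e0c0a090605020000) j))))) (nat_lit 0) (nat_lit 28) List.nil)) : Rw)
    = ?xq9109 → (Rw)) ?hq9109; (case hq9109 => (set_option maxRecDepth 1000000 in conv => lhs; reduce)); intro _; exact ?xq9109 : Rw)

/-- D4A2 -/
noncomputable def rE8_43 : Rw :=
  (by
  refine (?fq9110 : ((_root_.Cfsg.Agent.N2.Ex.Al.Ck.Rw.mk (nat_lit 883423564842912906646216355216926131425678445510289336892863221057192279) (pk61l (fun i1 => (pk61d (nat_lit 7) 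
    (nat_lit 0x29060808080) i1)) (nat_lit 0) (nat_lit 6) List.nil) (pk61l (fun i1 => (_root_.Prod.mk (pk61d (nat_lit 8) 
    (nat_lit 0xeeeceae4dfdbd8cbc8bfbeada39486583c1f) i1) (_root_.Prod.mk (pk61d (nat_lit 7) 
    (nat_lit 0x1dbb912243b6721dc867219bb76cd9b3) i1) ((fun g1 : Nat → Nat => pk61l (fun i2 => (pk61d (nat_lit 7) 
    (nat_lit 0x3c8848b717469cec7910916e2e8ce838f2242aee85e61baf7010d5e22bcc3f5ee021abc41faf73c890abc4379f5ee64dabb03069e44265abba34e06ee79121578baf73c884cb57742051ddc002571ac0c1a02189a4af115e618002571ac1e44265b8ba107773c884cb717469c0c1fb800464dc6183460d) i2)) (g1 i1) (g1 (Nat.succ i1)) List.nil) fun j => (pk61d (nat_lit 8) 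
    (nat_lit 0x887f766c635c534d433c322b221d1409020000) j))))) (nat_lit 0) (nat_lit 18) List.nil)) : Rw)
    = ?xq9110 → (Rw)) ?hq9110; (case hq9110 => (set_option maxRecDepth 1000000 in conv => lhs; reduce)); intro _; exact ?xq9110 : Rw)

/-- D4A1A1A1 -/
noncomputable def rE8_44 : Rw :=
  (by
  refine (?fq9111 : ((_root_.Cfsg.Agent.N2.Ex.Al.Ck.Rw.mk (nat_lit 112305687657020110858532616816053880080989618934300978744752341335) (pk61l (fun i1 => (pk61d (nat_lit 6) 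
    (nat_lit 0x3c7c6102040) i1)) (nat_lit 0) (nat_lit 7) List.nil) (pk61l (fun i1 => (_root_.Prod.mk (pk61d (nat_lit 8) 
    (nat_lit 0xefeeecead6ccc2b77752231507) i1) (_root_.Prod.mk (pk61d (nat_lit 7) 
    (nat_lit 0x30870e1bc850a130790e1c3) i1) ((fun g1 : Nat → Nat => pk61l (fun i2 => (pk61d (nat_lit 7) 
    (nat_lit 0x1dc40a326dc582bcc7081464db8b010687ebdc40a132d5d818343f5efdd5d8576060d326d5d8183440a132d5d818343f51028c9b716020d0fd440a326dc582bcc777) i2)) (g1 i1) (g1 (Nat.succ i1)) List.nil) fun j => (pk61d (nat_lit 7) 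
    (nat_lit 0x25ca82d95aa5090f1e3c50500) j))))) (nat_lit 0) (nat_lit 13) List.nil)) : Rw)
    = ?xq9111 → (Rw)) ?hq9111; (case hq9111 => (set_option maxRecDepth 1000000 in conv => lhs; reduce)); intro _; exact ?xq9111 : Rw)

/-- A5A1 -/
noncomputable def rE8_45 : Rw :=
  (by
  refine (?fq9112 : ((_root_.Cfsg.Agent.N2.Ex.Al.Ck.Rw.mk (nat_lit 398547801824003761570746449511088917132051755346134402863) (pk61l (fun i1 => (pk61d (nat_lit 6) 
    (nat_lit 0xbc50c2040) i1)) (nat_lit 0) (nat_lit 6) List.nil) (pk61l (fun i1 => (_root_.Prod.mk (pk61d (nat_lit 8) 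
    (nat_lit 0xefeeedebdcd8cdc7aa7f77765b491c140e0706) i1) (_root_.Prod.mk (pk61d (nat_lit 7) 
    (nat_lit 0xc58be850a13e7d118b162fa14284f98be) i1) ((fun g1 : Nat → Nat => pk61l (fun i2 => (pk61d (nat_lit 7) 
    (nat_lit 0x7eddfb050dd840a132d5d8081430710284cb57602050c205097ce6c140e205097ce6c141e415c6b01028d0fd83f710284be7360a7610284cb57602050dd82860e14307) i2)) (g1 i1) (g1 (Nat.succ i1)) List.nil) fun j => (pk61d (nat_lit 7) 
    (nat_lit 0x9b2e5498cf19ab4870d9a30403030200000) j))))) (nat_lit 0) (nat_lit 19) List.nil)) : Rw)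
    = ?xq9112 → (Rw)) ?hq9112; (case hq9112 => (set_option maxRecDepth 1000000 in conv => lhs; reduce)); intro _; exact ?xq9112 : Rw)

/-- A5A1 -/
noncomputable def rE8_46 : Rw :=
  (by
  refine (?fq9113 : ((_root_.Cfsg.Agent.N2.Ex.Al.Ck.Rw.mk (nat_lit 1864462420054964240564797488396494870927527990706813299398379311) (pk61l (fun i1 => (pk61d (nat_lit 7) 
    (nat_lit 0x24850608080) i1)) (nat_lit 0) (nat_lit 6) List.nil) (pk61l (fun i1 => (_root_.Prod.mk (pk61d (nat_lit 8) 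
    (nat_lit 0xefeeedebe2cdc7b8b18d857f7456512f0704) i1) (_root_.Prod.mk (pk61d (nat_lit 7) 
    (nat_lit 0x1d3a650a53f7f1a33f7ec593a75098ca) i1) ((fun g1 : Nat → Nat => pk61l (fun i2 => (pk61d (nat_lit 7) 
    (nat_lit 0x1e415c6b01028dec1c790571ac040a37b0f20ae3580814376122e3580a1bb081464db9b0306f610284cc6574674ec1c40a133195d19d3b0004449c6b013a770e00111271ac04e9dc2860e1430d1c1c790571ac040a37b0004068d8ec00101a363b0710284cb57602050dd868e2e684be7360a76) i2)) (g1 i1) (g1 (Nat.succ i1)) List.nil) fun j => (pk61d (nat_lit 8) 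
    (nat_lit 0x847a716861584e453b322f2d2a211b140a0800) j))))) (nat_lit 0) (nat_lit 18) List.nil)) : Rw)
    = ?xq9113 → (Rw)) ?hq9113; (case hq9113 => (set_option maxRecDepth 1000000 in conv => lhs; reduce)); intro _; exact ?xq9113 : Rw)

/-- A4A3 -/
noncomputable def rE8_47 : Rw :=
  (by
  refine (?fq9114 : ((_root_.Cfsg.Agent.N2.Ex.Al.Ck.Rw.mk (nat_lit 8528814647630473304676181795949813692491759) (pk61l (fun i1 => (pk61d (nat_lit 3) 
    (nat_lit 0x1f5688) i1)) (nat_lit 0) (nat_lit 7) List.nil) (pk61l (fun i1 => (_root_.Prod.mk (pk61d (nat_lit 8) 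
    (nat_lit 0xefebe2d2b87469512f04) i1) (_root_.Prod.mk (pk61d (nat_lit 7) 
    (nat_lit 0x1b3d8b266367b164cc) i1) ((fun g1 : Nat → Nat => pk61l (fun i2 => (pk61d (nat_lit 7) 
    (nat_lit 0xbd3b77e83c82b8d60274ee7911936aee9c0a57b0f20ae35809d3b8f20ae35809d0c9b3814307) i2)) (g1 i1) (g1 (Nat.succ i1)) List.nil) fun j => (pk61d (nat_lit 6) 
    (nat_lit 0x2ca277d534d186000) j))))) (nat_lit 0) (nat_lit 10) List.nil)) : Rw)
    = ?xq9114 → (Rw)) ?hq9114; (case hq9114 => (set_option maxRecDepth 1000000 in conv => lhs; reduce)); intro _; exact ?xq9114 : Rw)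

/-- D4A1A1A1A1 -/
noncomputable def rE8_48 : Rw :=
  (by
  refine (?fq9115 : ((_root_.Cfsg.Agent.N2.Ex.Al.Ck.Rw.mk (nat_lit 883423644694879821811759608904076074632236027319886349813685375538823511) (pk61l (fun i1 => (pk61d (nat_lit 7) 
    (nat_lit 0xeef0f860808080) i1)) (nat_lit 0) (nat_lit 8) List.nil) (pk61l (fun i1 => (_root_.Prod.mk (pk61d (nat_lit 8) 
    (nat_lit 0xeeecead6ccc2b7) i1) (_root_.Prod.mk (pk61d (nat_lit 7) 
    (nat_lit 0x10e1c3790e1c3) i1) ((fun g1 : Nat → Nat => pk61l (fun i2 => (pk61d (nat_lit 7) 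
    (nat_lit 0x1028c9b7160af31c2051936e2c041a1faf710284cb576060d0fd7bf757615d81834c9b576060d) i2)) (g1 i1) (g1 (Nat.succ i1)) List.nil) fun j => (pk61d (nat_lit 6) 
    (nat_lit 0xb2360d30a180) j))))) (nat_lit 0) (nat_lit 7) List.nil)) : Rw)
    = ?xq9115 → (Rw)) ?hq9115; (case hq9115 => (set_option maxRecDepth 1000000 in conv => lhs; reduce)); intro _; exact ?xq9115 : Rw)

/-- A5A1A1 -/
noncomputable def rE8_49 : Rw :=
  (by
  refine (?fq9116 : ((_root_.Cfsg.Agent.N2.Ex.Al.Ck.Rw.mk (nat_lit 398547801824003761740887632971558148863739059062018508719) (pk61l (fun i1 => (pk61d (nat_lit 6) 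
    (nat_lit 0x2f1c50c2040) i1)) (nat_lit 0) (nat_lit 7) List.nil) (pk61l (fun i1 => (_root_.Prod.mk (pk61d (nat_lit 8) 
    (nat_lit 0xefedebdccdaa765b491406) i1) (_root_.Prod.mk (pk61d (nat_lit 7) 
    (nat_lit 0xd20439726334810e5c9) i1) ((fun g1 : Nat → Nat => pk61l (fun i2 => (pk61d (nat_lit 7) 
    (nat_lit 0x1e415c6b0107740fd8286ec2051936e6c0c1dd132a52aec0c0dd3b8f20ae3580814687ec3c82b8d6020ee9dc40a12f9cd829d840a132d5d808143762e684be7360a0ee9d8c9b3814307) i2)) (g1 i1) (g1 (Nat.succ i1)) List.nil) fun j => (pk61d (nat_lit 7) 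
    (nat_lit 0xa92e5477cd55a23440300) j))))) (nat_lit 0) (nat_lit 11) List.nil)) : Rw)
    = ?xq9116 → (Rw)) ?hq9116; (case hq9116 => (set_option maxRecDepth 1000000 in conv => lhs; reduce)); intro _; exact ?xq9116 : Rw)

/-- A5A2 -/
noncomputable def rE8_50 : Rw :=
  (by
  refine (?fq9117 : ((_root_.Cfsg.Agent.N2.Ex.Al.Ck.Rw.mk (nat_lit 112334610921968974202042121300486460721309381658709872451040421743) (pk61l (fun i1 => (pk61d (nat_lit 7) 
    (nat_lit 0x1443050608080) i1)) (nat_lit 0) (nat_lit 7) List.nil) (pk61l (fun i1 => (_root_.Prod.mk (pk61d (nat_lit 8) 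
    (nat_lit 0xefeeebe2c7b1773d1c07) i1) (_root_.Prod.mk (pk61d (nat_lit 7) 
    (nat_lit 0x1a458f15f4a69163c5) i1) ((fun g1 : Nat → Nat => pk61l (fun i2 => (pk61d (nat_lit 7) 
    (nat_lit 0x3bf7122e358e81c790326ec1c2bdc790571ac040a18790571ac040a18790326ec1c2a245c6b1d03f7) i2)) (g1 i1) (g1 (Nat.succ i1)) List.nil) fun j => (pk61d (nat_lit 6) 
    (nat_lit 0x2eb6c99e58e387000) j))))) (nat_lit 0) (nat_lit 10) List.nil)) : Rw)
    = ?xq9117 → (Rw)) ?hq9117; (case hq9117 => (set_option maxRecDepth 1000000 in conv => lhs; reduce)); intro _; exact ?xq9117 : Rw)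

/-- D4A3 -/
noncomputable def rE8_51 : Rw :=
  (by
  refine (?fq9118 : ((_root_.Cfsg.Agent.N2.Ex.Al.Ck.Rw.mk (nat_lit 883423564842912906646228141428372497242376224835825050823708336738795863) (pk61l (fun i1 => (pk61d (nat_lit 7) 
    (nat_lit 0x148f860808080) i1)) (nat_lit 0) (nat_lit 7) List.nil) (pk61l (fun i1 => (_root_.Prod.mk (pk61d (nat_lit 8) 
    (nat_lit 0xeeeceadfd8c8bf863c) i1) (_root_.Prod.mk (pk61d (nat_lit 7) 
    (nat_lit 0x3d9325cbc9325ebc) i1) ((fun g1 : Nat → Nat => pk61l (fun i2 => (pk61d (nat_lit 7) 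
    (nat_lit 0x7910997a421c0dd532a135d90c1a1baf74ca94abb0379f51028c9b7160af30ddbbc6b0995299a306a65426babb010687ee7910996e2e8d38183f7) i2)) (g1 i1) (g1 (Nat.succ i1)) List.nil) fun j => (pk61d (nat_lit 7) 
    (nat_lit 0x21ba60a0e9b2a2c000) j))))) (nat_lit 0) (nat_lit 9) List.nil)) : Rw)
    = ?xq9118 → (Rw)) ?hq9118; (case hq9118 => (set_option maxRecDepth 1000000 in conv => lhs; reduce)); intro _; exact ?xq9118 : Rw)

/-- A5A2A1 -/
noncomputable def rE8_52 : Rw :=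
  (by
  refine (?fq9119 : ((_root_.Cfsg.Agent.N2.Ex.Al.Ck.Rw.mk (nat_lit 883423644723803086760622952413580559064816667639649074222579081826903919) (pk61l (fun i1 => (pk61d (nat_lit 7) 
    (nat_lit 0xef443050608080) i1)) (nat_lit 0) (nat_lit 8) List.nil) (pk61l (fun i1 => (_root_.Prod.mk (pk61d (nat_lit 8) 
    (nat_lit 0xeeebe2c7b1) i1) (_root_.Prod.mk (pk61d (nat_lit 7) 
    (nat_lit 0x458f1604b) i1) ((fun g1 : Nat → Nat => pk61l (fun i2 => (pk61d (nat_lit 7) 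
    (nat_lit 0x1dc48b8d63a071e40c9bb070af71e415c6b0102861e415c6b010286) i2)) (g1 i1) (g1 (Nat.succ i1)) List.nil) fun j => (pk61d (nat_lit 5) 
    (nat_lit 0x3fec4100) j))))) (nat_lit 0) (nat_lit 5) List.nil)) : Rw)
    = ?xq9119 → (Rw)) ?hq9119; (case hq9119 => (set_option maxRecDepth 1000000 in conv => lhs; reduce)); intro _; exact ?xq9119 : Rw)

/-- D5 -/
noncomputable def rE8_53 : Rw :=
  (by
  refine (?fq9120 : ((_root_.Cfsg.Agent.N2.Ex.Al.Ck.Rw.mk (nat_lit 11786964755003853166195611559895516126657255018271) (pk61l (fun i1 => i1) (nat_lit 0) (nat_lit 5) List.nil) (pk61l (fun i1 => (_root_.Prod.mk (pk61d (nat_lit 8) 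
    (nat_lit 0xefeeedecdfdcd8c8c2bc867f7e7776755f49433c150e0d070605) i1) (_root_.Prod.mk (pk61d (nat_lit 7) 
    (nat_lit 0x1bb76f120c183122446eddbb76ede241830623788ddbc4) i1) ((fun g1 : Nat → Nat => pk61l (fun i2 => (pk61d (nat_lit 7) 
    (nat_lit 0xeec1baf6ebdba87ea245c6b01c48b8d6048b8d603060e38307ebd4376122e358ec3838e0e1830e) i2)) (g1 i1) (g1 (Nat.succ i1)) List.nil) fun j => (pk61d (nat_lit 6) 
    (nat_lit 0x2dae9a279a58de6954d244f38c1c6145103080000) j))))) (nat_lit 0) (nat_lit 26) List.nil)) : Rw)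
    = ?xq9120 → (Rw)) ?hq9120; (case hq9120 => (set_option maxRecDepth 1000000 in conv => lhs; reduce)); intro _; exact ?xq9120 : Rw)

/-- A4A4 -/
noncomputable def rE8_54 : Rw :=
  (by
  refine (?fq9121 : ((_root_.Cfsg.Agent.N2.Ex.Al.Ck.Rw.mk (nat_lit 1656419123229735308984341406955014924482047872673927585882274746417145839) (pk61l (fun i1 => (pk61d (nat_lit 7) 
    (nat_lit 0xe81c3050608080) i1)) (nat_lit 0) (nat_lit 8) List.nil) (pk61l (fun i1 => (_root_.Prod.mk (pk61d (nat_lit 8) 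
    (nat_lit 0xebe2d2b8) i1) (_root_.Prod.mk (pk61d (nat_lit 7) 
    (nat_lit 0x7b164cc) i1) ((fun g1 : Nat → Nat => pk61l (fun i2 => (pk61d (nat_lit 7) 
    (nat_lit 0x1d0790571ac04e9dcf22326d5dd3814af61e415c6b013a77) i2)) (g1 i1) (g1 (Nat.succ i1)) List.nil) fun j => (pk61d (nat_lit 5) 
    (nat_lit 0x1bd4900) j))))) (nat_lit 0) (nat_lit 4) List.nil)) : Rw)
    = ?xq9121 → (Rw)) ?hq9121; (case hq9121 => (set_option maxRecDepth 1000000 in conv => lhs; reduce)); intro _; exact ?xq9121 : Rw)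

/-- D5A1 -/
noncomputable def rE8_55 : Rw :=
  (by
  refine (?fq9122 : ((_root_.Cfsg.Agent.N2.Ex.Al.Ck.Rw.mk (nat_lit 11786964755088923757925846175761359778515197071199) (pk61l (fun i1 => (pk61d (nat_lit 3) 
    (nat_lit 0x34688) i1)) (nat_lit 0) (nat_lit 6) List.nil) (pk61l (fun i1 => (_root_.Prod.mk (pk61d (nat_lit 8) 
    (nat_lit 0xefeeecdfd8c8c28677755f433c150705) i1) (_root_.Prod.mk (pk61d (nat_lit 7) 
    (nat_lit 0x72ee348851a53b72ee3488519dca) i1) ((fun g1 : Nat → Nat => pk61l (fun i2 => (pk61d (nat_lit 7) 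
    (nat_lit 0x3bf70c1fbf7122e358122e3580dd7b89171ac060e183f7122e3580dd4307) i2)) (g1 i1) (g1 (Nat.succ i1)) List.nil) fun j => (pk61d (nat_lit 6) 
    (nat_lit 0x2286075c61134b2c8082080000) j))))) (nat_lit 0) (nat_lit 16) List.nil)) : Rw)
    = ?xq9122 → (Rw)) ?hq9122; (case hq9122 => (set_option maxRecDepth 1000000 in conv => lhs; reduce)); intro _; exact ?xq9122 : Rw)

/-- A6 -/
noncomputable def rE8_56 : Rw :=
  (by
  refine (?fq9123 : ((_root_.Cfsg.Agent.N2.Ex.Al.Ck.Rw.mk (nat_lit 881211395491208861876668812761363038944858702207262618912559) (pk61l (fun i1 => (pk61d (nat_lit 6) 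
    (nat_lit 0xd850c2040) i1)) (nat_lit 0) (nat_lit 6) List.nil) (pk61l (fun i1 => (_root_.Prod.mk (pk61d (nat_lit 8) 
    (nat_lit 0xefeeedebd8d2bcb18577561c0e07) i1) (_root_.Prod.mk (pk61d (nat_lit 7) 
    (nat_lit 0x1d487f2253f7d29f3a7f21fc8) i1) ((fun g1 : Nat → Nat => pk61l (fun i2 => (pk61d (nat_lit 7) 
    (nat_lit 0x3c82b8d602740e001193718e050c1fb87ee14307ee2051936e6c0c1a0011126e0e07ee0011937182050c3c90916ac2050c1430f20ae35809d03f7000889370703850c1c3800464dc63814307) i2)) (g1 i1) (g1 (Nat.succ i1)) List.nil) fun j => (pk61d (nat_lit 7) 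
    (nat_lit 0x15e7c586fdbaf4e7ce941a28480) j))))) (nat_lit 0) (nat_lit 14) List.nil)) : Rw)
    = ?xq9123 → (Rw)) ?hq9123; (case hq9123 => (set_option maxRecDepth 1000000 in conv => lhs; reduce)); intro _; exact ?xq9123 : Rw)

/-- D5A1A1 -/
noncomputable def rE8_57 : Rw :=
  (by
  refine (?fq9124 : ((_root_.Cfsg.Agent.N2.Ex.Al.Ck.Rw.mk (nat_lit 883423532389192164791660537336214347502113872176443176872485145983553375) (pk61l (fun i1 => (pk61d (nat_lit 7) 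
    (nat_lit 0x1dc3040608080) i1)) (nat_lit 0) (nat_lit 7) List.nil) (pk61l (fun i1 => (_root_.Prod.mk (pk61d (nat_lit 8) 
    (nat_lit 0xeeecdfd8c8c2863c05) i1) (_root_.Prod.mk (pk61d (nat_lit 7) 
    (nat_lit 0x3d97221cb96f61cb) i1) ((fun g1 : Nat → Nat => pk61l (fun i2 => (pk61d (nat_lit 7) 
    (nat_lit 0x1ba87ebdc3f5122e3580fd448b8d60307) i2)) (g1 i1) (g1 (Nat.succ i1)) List.nil) fun j => (pk61d (nat_lit 5) 
    (nat_lit 0x2717b98610000) j))))) (nat_lit 0) (nat_lit 9) List.nil)) : Rw)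
    = ?xq9124 → (Rw)) ?hq9124; (case hq9124 => (set_option maxRecDepth 1000000 in conv => lhs; reduce)); intro _; exact ?xq9124 : Rw)

/-- A6A1 -/
noncomputable def rE8_58 : Rw :=
  (by
  refine (?fq9125 : ((_root_.Cfsg.Agent.N2.Ex.Al.Ck.Rw.mk (nat_lit 2022045493728061161500518532428236407857246346599076761937534617519) (pk61l (fun i1 => (pk61d (nat_lit 7) 
    (nat_lit 0x1443850608080) i1)) (nat_lit 0) (nat_lit 7) List.nil) (pk61l (fun i1 => (_root_.Prod.mk (pk61d (nat_lit 8) 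
    (nat_lit 0xefedebe2bcaa4906) i1) (_root_.Prod.mk (pk61d (nat_lit 7) 
    (nat_lit 0x81325c59732045) i1) ((fun g1 : Nat → Nat => pk61l (fun i2 => (pk61d (nat_lit 7) 
    (nat_lit 0x3c82b8d6020ee81d32a122d90c1a3bb09171ac0ee81c40a428dc5d2818a873c8808356107740e3c81126e040a12f9cd8283ba76) i2)) (g1 i1) (g1 (Nat.succ i1)) List.nil) fun j => (pk61d (nat_lit 6) 
    (nat_lit 0x3bca98983ca000) j))))) (nat_lit 0) (nat_lit 8) List.nil)) : Rw)
    = ?xq9125 → (Rw)) ?hq9125; (case hq9125 => (set_option maxRecDepth 1000000 in conv => lhs; reduce)); intro _; exact ?xq9125 : Rw)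

/-- D5A2 -/
noncomputable def rE8_59 : Rw :=
  (by
  refine (?fq9126 : ((_root_.Cfsg.Agent.N2.Ex.Al.Ck.Rw.mk (nat_lit 11786964777037136424326377069149021957864246726623) (pk61l (fun i1 => (pk61d (nat_lit 3) 
    (nat_lit 0x1f4688) i1)) (nat_lit 0) (nat_lit 7) List.nil) (pk61l (fun i1 => (_root_.Prod.mk (pk61d (nat_lit 8) 
    (nat_lit 0xefecdfc8755f3c05) i1) (_root_.Prod.mk (pk61d (nat_lit 7) 
    (nat_lit 0x7b1e4cc7b1e4cc) i1) ((fun g1 : Nat → Nat => pk61l (fun i2 => (pk61d (nat_lit 7) 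
    (nat_lit 0xdd7bf5122e3580dd7b89171ac06ebdc48b8d60375) i2)) (g1 i1) (g1 (Nat.succ i1)) List.nil) fun j => (pk61d (nat_lit 5) 
    (nat_lit 0x18ad1a630000) j))))) (nat_lit 0) (nat_lit 8) List.nil)) : Rw)
    = ?xq9126 → (Rw)) ?hq9126; (case hq9126 => (set_option maxRecDepth 1000000 in conv => lhs; reduce)); intro _; exact ?xq9126 : Rw)

/-- D4D4 -/
noncomputable def rE8_60 : Rw :=
  (by
  refine (?fq9127 : ((_root_.Cfsg.Agent.N2.Ex.Al.Ck.Rw.mk (nat_lit 883423677148600563666327213749542491554355972273763865188020289651343703) (pk61l (fun i1 => (pk61d (nat_lit 7) 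
    (nat_lit 0xa4f0f860808080) i1)) (nat_lit 0) (nat_lit 8) List.nil) (pk61l (fun i1 => (_root_.Prod.mk (pk61d (nat_lit 8) 
    (nat_lit 0xeeecea) i1) (_root_.Prod.mk (nat_lit 67) ((fun g1 : Nat → Nat => pk61l (fun i2 => (pk61d (nat_lit 7) 
    (nat_lit 0x2051936e2c15e63840a326dc5808343f5ee2050996aec0c1a1faf7) i2)) (g1 i1) (g1 (Nat.succ i1)) List.nil) fun j => (pk61d (nat_lit 5) 
    (nat_lit 0xfd960) j))))) (nat_lit 0) (nat_lit 3) List.nil)) : Rw)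
    = ?xq9127 → (Rw)) ?hq9127; (case hq9127 => (set_option maxRecDepth 1000000 in conv => lhs; reduce)); intro _; exact ?xq9127 : Rw)

/-- D5A3 -/
def rE8_61 : Rw := (beta% (fun (vq0 : type_of% @_root_.List.nil.{0}) (vq1 : type_of% @_root_.List.cons.{0}) (vq2 : type_of% @_root_.Prod.mk.{0, 0}) => (
    ⟨1545991181681086288385397100114830739648547232455037126169194468123070431, (vq1 0 (vq1 1 (vq1 2 (vq1 3 (vq1 4 (vq1 6 (vq1 7 (vq1 117 vq0)))))))), (vq1 (vq2 200 (vq2 76 (vq1 119 (vq1 117 (vq1 6 (vq1 88 (vq1 70 (vq1 11 (vq1 9 vq0))))))))) (vq1 (vq2 223 (vq2 73 (vq1 119 (vq1 117 (vq1 6 (vq1 88 (vq1 70 (vq1 11 (vq1 9 vq0))))))))) (vq1 (vq2 236 (vq2 71 (vq1 117 vq0))) vq0)))⟩ :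
    Cfsg.Agent.N2.Ex.Al.Ck.Rw))
    (@_root_.List.nil.{0}) (@_root_.List.cons.{0}) (@_root_.Prod.mk.{0, 0}))

/-- A7 -/
noncomputable def rE8_62 : Rw :=
  (by
  refine (?fq9128 : ((_root_.Cfsg.Agent.N2.Ex.Al.Ck.Rw.mk (nat_lit 881609943293032859940914486729529777664549066452538350479215) (pk61l (fun i1 => (pk61d (nat_lit 6) 
    (nat_lit 0x2f1850c2040) i1)) (nat_lit 0) (nat_lit 7) List.nil) (pk61l (fun i1 => (_root_.Prod.mk (pk61d (nat_lit 8) 
    (nat_lit 0xefeeebd8771c07) i1) (_root_.Prod.mk (pk61d (nat_lit 7) 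
    (nat_lit 0x1024c985024c9) i1) ((fun g1 : Nat → Nat => pk61l (fun i2 => (pk61d (nat_lit 7) 
    (nat_lit 0x3b9936702860fdc2860fdc40a132d5d808143050c1cc9b3814307) i2)) (g1 i1) (g1 (Nat.succ i1)) List.nil) fun j => (pk61d (nat_lit 5) 
    (nat_lit 0xf76d24a4c0) j))))) (nat_lit 0) (nat_lit 7) List.nil)) : Rw)
    = ?xq9128 → (Rw)) ?hq9128; (case hq9128 => (set_option maxRecDepth 1000000 in conv => lhs; reduce)); intro _; exact ?xq9128 : Rw)

/-- A7 -/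
noncomputable def rE8_63 : Rw :=
  (by
  refine (?fq9129 : ((_root_.Cfsg.Agent.N2.Ex.Al.Ck.Rw.mk (nat_lit 1924230141532583449440109453015223134178839120071172202787088239) (pk61l (fun i1 => (pk61d (nat_lit 6) 
    (nat_lit 0x3d1850c2040) i1)) (nat_lit 0) (nat_lit 7) List.nil) (pk61l (fun i1 => (_root_.Prod.mk (pk61d (nat_lit 8) 
    (nat_lit 0xefeeebb88d51) i1) (_root_.Prod.mk (pk61d (nat_lit 7) 
    (nat_lit 0x264593324c5) i1) ((fun g1 : Nat → Nat => pk61l (fun i2 => (pk61d (nat_lit 7) 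
    (nat_lit 0x1e490a35760a06e9dbb8f20ae35809d048b8d63a0f24245ab0814307326ce0d1c3c8193760e15) i2)) (g1 i1) (g1 (Nat.succ i1)) List.nil) fun j => (pk61d (nat_lit 6) 
    (nat_lit 0x2c85a54c1c0) j))))) (nat_lit 0) (nat_lit 6) List.nil)) : Rw)
    = ?xq9129 → (Rw)) ?hq9129; (case hq9129 => (set_option maxRecDepth 1000000 in conv => lhs; reduce)); intro _; exact ?xq9129 : Rw)

/-- A7A1 -/
def rE8_64 : Rw := (beta% (fun (vq0 : type_of% @_root_.List.nil.{0}) (vq1 : type_of% @_root_.List.cons.{0}) (vq2 : type_of% @_root_.Prod.mk.{0, 0}) => (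
    ⟨883423532390073774734941783231400173065085476107931964579159169136961391, (vq1 0 (vq1 1 (vq1 2 (vq1 3 (vq1 5 (vq1 6 (vq1 47 (vq1 119 vq0)))))))), (vq1 (vq2 216 (vq2 67 (vq1 6 (vq1 5 (vq1 4 (vq1 88 (vq1 43 (vq1 75 (vq1 9 (vq1 10 (vq1 8 vq0))))))))))) (vq1 (vq2 235 (vq2 73 (vq1 119 (vq1 7 (vq1 6 (vq1 5 vq0)))))) (vq1 (vq2 238 (vq2 73 (vq1 119 (vq1 7 (vq1 6 (vq1 5 (vq1 28 (vq1 27 (vq1 25 vq0))))))))) vq0)))⟩ :
    Cfsg.Agent.N2.Ex.Al.Ck.Rw))
    (@_root_.List.nil.{0}) (@_root_.List.cons.{0}) (@_root_.Prod.mk.{0, 0}))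

/-- D6 -/
noncomputable def rE8_65 : Rw :=
  (by
  refine (?fq9130 : ((_root_.Cfsg.Agent.N2.Ex.Al.Ck.Rw.mk (nat_lit 112335466227652785272829561983188843112549891190703709586790518559) (pk61l (fun i1 => (pk61d (nat_lit 6) 
    (nat_lit 0xf040c2040) i1)) (nat_lit 0) (nat_lit 6) List.nil) (pk61l (fun i1 => (_root_.Prod.mk (pk61d (nat_lit 8) 
    (nat_lit 0xefeeedecc2bc7e77150e0706) i1) (_root_.Prod.mk (pk61d (nat_lit 7) 
    (nat_lit 0x852244a952a1429522442) i1) ((fun g1 : Nat → Nat => pk61l (fun i2 => (pk61d (nat_lit 7) 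
    (nat_lit 0x48b8d603f5ee1c3770fdcb9a12f9cd8281fa9734659062e68cb20c245c6b01fa973425f39b0503f5ee1c386) i2)) (g1 i1) (g1 (Nat.succ i1)) List.nil) fun j => (pk61d (nat_lit 6) 
    (nat_lit 0x32ae899d6144cd0c2000) j))))) (nat_lit 0) (nat_lit 12) List.nil)) : Rw)
    = ?xq9130 → (Rw)) ?hq9130; (case hq9130 => (set_option maxRecDepth 1000000 in conv => lhs; reduce)); intro _; exact ?xq9130 : Rw)

/-- D6A1 -/
noncomputable def rE8_66 : Rw :=
  (by
  refine (?fq9131 : ((_root_.Cfsg.Agent.N2.Ex.Al.Ck.Rw.mk (nat_lit 112335466227652785272829562068259434842784507056547361444732571487) (pk61l (fun i1 => (pk61d (nat_lit 6) 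
    (nat_lit 0x3c1840c2040) i1)) (nat_lit 0) (nat_lit 7) List.nil) (pk61l (fun i1 => (_root_.Prod.mk (pk61d (nat_lit 8) 
    (nat_lit 0xefeeecc2771507) i1) (_root_.Prod.mk (pk61d (nat_lit 7) 
    (nat_lit 0x10e4cb950e5c9) i1) ((fun g1 : Nat → Nat => pk61l (fun i2 => (pk61d (nat_lit 7) 
    (nat_lit 0x77ee5cd097ce6c140fd448b8d60b9a12f9cd8281faf7) i2)) (g1 i1) (g1 (Nat.succ i1)) List.nil) fun j => (pk61d (nat_lit 5) 
    (nat_lit 0xce2ee52800) j))))) (nat_lit 0) (nat_lit 7) List.nil)) : Rw)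
    = ?xq9131 → (Rw)) ?hq9131; (case hq9131 => (set_option maxRecDepth 1000000 in conv => lhs; reduce)); intro _; exact ?xq9131 : Rw)

/-- D6A1A1 -/
def rE8_67 : Rw := (beta% (fun (vq0 : type_of% @_root_.List.nil.{0}) (vq1 : type_of% @_root_.List.cons.{0}) (vq2 : type_of% @_root_.Prod.mk.{0, 0}) => (
    ⟨883423644724658392444434023201021326837790789114774472060068075519053663, (vq1 0 (vq1 1 (vq1 2 (vq1 3 (vq1 4 (vq1 6 (vq1 60 (vq1 119 vq0)))))))), (vq1 (vq2 194 (vq2 75 (vq1 88 (vq1 70 (vq1 11 (vq1 9 vq0)))))) (vq1 (vq2 236 (vq2 75 (vq1 117 (vq1 7 (vq1 20 (vq1 88 (vq1 57 (vq1 62 (vq1 9 (vq1 26 (vq1 23 vq0))))))))))) (vq1 (vq2 238 (vq2 73 (vq1 119 vq0))) vq0)))⟩ :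
    Cfsg.Agent.N2.Ex.Al.Ck.Rw))
    (@_root_.List.nil.{0}) (@_root_.List.cons.{0}) (@_root_.Prod.mk.{0, 0}))

/-- E6 -/
noncomputable def rE8_68 : Rw :=
  (by
  refine (?fq9132 : ((_root_.Cfsg.Agent.N2.Ex.Al.Ck.Rw.mk (nat_lit 398549334493374901066331660697860418769062686847530934079) (pk61l (fun i1 => i1) (nat_lit 0) (nat_lit 6) List.nil) (pk61l (fun i1 => (_root_.Prod.mk (pk61d (nat_lit 8) 
    (nat_lit 0xefeeeddcd87f7776490e0706) i1) (_root_.Prod.mk (pk61d (nat_lit 7) 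
    (nat_lit 0x8d1a54a951a346952a34a) i1) ((fun g1 : Nat → Nat => pk61l (fun i2 => (pk61d (nat_lit 7) 
    (nat_lit 0xfdbbf62e684be7360a072e684be7360a07ec1fb973425f39b053b07) i2)) (g1 i1) (g1 (Nat.succ i1)) List.nil) fun j => (pk61d (nat_lit 6) 
    (nat_lit 0x2079d71434c2c9040000) j))))) (nat_lit 0) (nat_lit 12) List.nil)) : Rw)
    = ?xq9132 → (Rw)) ?hq9132; (case hq9132 => (set_option maxRecDepth 1000000 in conv => lhs; reduce)); intro _; exact ?xq9132 : Rw)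

/-- A8 -/
def rE8_69 : Rw := ⟨161757754891126816497651999780345807081191358941016803268550872655855, [0, 1, 2, 3, 5, 6, 7, 81], [(235, 71, [7, 116, 88, 70, 11, 9]), (239, 73, [119, 14, 13, 28, 93, 43, 27, 25, 34, 30])]⟩

/-- E6A1 -/
def rE8_70 : Rw := (beta% (fun (vq0 : type_of% @_root_.List.nil.{0}) (vq1 : type_of% @_root_.List.cons.{0}) (vq2 : type_of% @_root_.Prod.mk.{0, 0}) => (
    ⟨398549334493374901236472844158329650500749990563415039935, (vq1 0 (vq1 1 (vq1 2 (vq1 3 (vq1 4 (vq1 5 (vq1 7 vq0))))))), (vq1 (vq2 6 (vq2 76 vq0)) (vq1 (vq2 73 (vq2 75 (vq1 118 (vq1 20 (vq1 88 (vq1 57 (vq1 62 (vq1 9 (vq1 26 (vq1 23 vq0)))))))))) (vq1 (vq2 118 (vq2 71 vq0)) (vq1 (vq2 220 (vq2 76 (vq1 118 (vq1 7 (vq1 20 (vq1 88 (vq1 57 (vq1 62 (vq1 9 (vq1 26 (vq1 23 vq0))))))))))) (vq1 (vq2 237 (vq2 75 (vq1 118 vq0))) (vq1 (vq2 239 (vq2 71 (vq1 118 (vq1 7 vq0)))) vq0))))))⟩ :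
    Cfsg.Agent.N2.Ex.Al.Ck.Rw))
    (@_root_.List.nil.{0}) (@_root_.List.cons.{0}) (@_root_.Prod.mk.{0, 0}))

/-- E6A2 -/
def rE8_71 : Rw := ⟨1325135298583788645736807618932090124340378077825051624019050509594763199, [0, 1, 2, 3, 4, 5, 7, 118], [(220, 76, [118, 7, 20, 88, 57, 62, 9, 26, 23]), (237, 75, [118])]⟩

/-- D7 -/
def rE8_72 : Rw := (beta% (fun (vq0 : type_of% @_root_.List.nil.{0}) (vq1 : type_of% @_root_.List.cons.{0}) (vq2 : type_of% @_root_.Prod.mk.{0, 0}) => (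
    ⟨883442744857510176209159934936201962661780660373754756396737115225296735, (vq1 0 (vq1 1 (vq1 2 (vq1 3 (vq1 4 (vq1 6 (vq1 67 vq0))))))), (vq1 (vq2 134 (vq2 73 (vq1 7 (vq1 6 vq0)))) (vq1 (vq2 200 (vq2 76 (vq1 7 (vq1 6 (vq1 50 (vq1 25 (vq1 26 (vq1 23 vq0)))))))) (vq1 (vq2 236 (vq2 76 (vq1 117 (vq1 20 (vq1 88 (vq1 57 (vq1 62 (vq1 9 (vq1 26 (vq1 23 vq0)))))))))) (vq1 (vq2 238 (vq2 73 (vq1 117 (vq1 6 (vq1 88 (vq1 70 (vq1 11 (vq1 9 vq0)))))))) vq0))))⟩ :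
    Cfsg.Agent.N2.Ex.Al.Ck.Rw))
    (@_root_.List.nil.{0}) (@_root_.List.cons.{0}) (@_root_.Prod.mk.{0, 0}))

/-- D8 -/
def rE8_73 : Rw := ⟨1546010506484870527455669983579625334143890937590680000881029366900314079, [0, 1, 2, 3, 4, 6, 7, 60], [(236, 75, [117, 7, 20, 88, 57, 62, 9, 26, 23])]⟩

/-- E7 -/
def rE8_74 : Rw := ⟨112335492532111770931364568269696290074761409739011903174966493055, [0, 1, 2, 3, 4, 5, 6], [(7, 76, []), (119, 75, []), (238, 76, [119]), (239, 75, [119])]⟩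

/-- E7A1 -/
def rE8_75 : Rw := ⟨883423644724684696903419681736027528274646021091677154524609805752975231, [0, 1, 2, 3, 4, 5, 6, 119], [(238, 76, [119])]⟩

/-- E8 -/
def rE8_76 : Rw := ⟨1766847064778384329583297500742918515827483896875618958121606201292619775, [0, 1, 2, 3, 4, 5, 6, 7], []⟩

/-- the rows -/
noncomputable def rwE8 : List Rw := (beta% (fun (vq0 : List Cfsg.Agent.N2.Ex.Al.Ck.Rw) (vq1 : type_of% @_root_.List.nil.{0}) (vq2 : type_of% @_root_.List.cons.{0}) => (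
    (let vqy1 : type_of% vq0 := (let vqy2 : type_of% vq0 := (let vqy3 : type_of% vq0 := (let vqy4 : type_of% vq0 := (vq2 rE8_72 (vq2 rE8_73 (vq2 rE8_74 (vq2 rE8_75 (vq2 rE8_76 vq1)))));
    (vq2 rE8_67 (vq2 rE8_68 (vq2 rE8_69 (vq2 rE8_70 (vq2 rE8_71 vqy4))))));
    (let vqy5 : type_of% vqy3 := (vq2 rE8_62 (vq2 rE8_63 (vq2 rE8_64 (vq2 rE8_65 (vq2 rE8_66 vqy3)))));
    (vq2 rE8_57 (vq2 rE8_58 (vq2 rE8_59 (vq2 rE8_60 (vq2 rE8_61 vqy5)))))));
    (let vqy6 : type_of% vqy2 := (let vqy7 : type_of% vqy2 := (vq2 rE8_52 (vq2 rE8_53 (vq2 rE8_54 (vq2 rE8_55 (vq2 rE8_56 vqy2)))));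
    (vq2 rE8_47 (vq2 rE8_48 (vq2 rE8_49 (vq2 rE8_50 (vq2 rE8_51 vqy7))))));
    (let vqy8 : type_of% vqy6 := (vq2 rE8_42 (vq2 rE8_43 (vq2 rE8_44 (vq2 rE8_45 (vq2 rE8_46 vqy6)))));
    (vq2 rE8_38 (vq2 rE8_39 (vq2 rE8_40 (vq2 rE8_41 vqy8)))))));
    (let vqy9 : type_of% vqy1 := (let vqy10 : type_of% vqy1 := (let vqy11 : type_of% vqy1 := (vq2 rE8_33 (vq2 rE8_34 (vq2 rE8_35 (vq2 rE8_36 (vq2 rE8_37 vqy1)))));
    (vq2 rE8_28 (vq2 rE8_29 (vq2 rE8_30 (vq2 rE8_31 (vq2 rE8_32 vqy11))))));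
    (let vqy12 : type_of% vqy10 := (vq2 rE8_23 (vq2 rE8_24 (vq2 rE8_25 (vq2 rE8_26 (vq2 rE8_27 vqy10)))));
    (vq2 rE8_19 (vq2 rE8_20 (vq2 rE8_21 (vq2 rE8_22 vqy12))))));
    (let vqy13 : type_of% vqy9 := (let vqy14 : type_of% vqy9 := (vq2 rE8_14 (vq2 rE8_15 (vq2 rE8_16 (vq2 rE8_17 (vq2 rE8_18 vqy9)))));
    (vq2 rE8_9 (vq2 rE8_10 (vq2 rE8_11 (vq2 rE8_12 (vq2 rE8_13 vqy14))))));
    (let vqy15 : type_of% vqy13 := (vq2 rE8_4 (vq2 rE8_5 (vq2 rE8_6 (vq2 rE8_7 (vq2 rE8_8 vqy13)))));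
    (vq2 rE8_0 (vq2 rE8_1 (vq2 rE8_2 (vq2 rE8_3 vqy15)))))))) :
    List Cfsg.Agent.N2.Ex.Al.Ck.Rw))
    _ (@_root_.List.nil.{0}) (@_root_.List.cons.{0}))

/-- the larger invariant sets -/
noncomputable def kiE8 : List Ki :=
  (by
  refine (?fq9133 : ((pk61l (fun i1 => (_root_.Cfsg.Agent.N2.Ex.Al.Ck.Ki.mk (pk61d (nat_lit 240) (Nat.add 
    (nat_lit 0x880000000810800001170000000000000000000000004187af0000000000000000000000004187af000000000000000000080021c58413000000000000000000080021c5841380000000000000000000000010317780000000000000000000000010317700000000000000000000000041872f00000000000000000000000041872f8000000000000000000810800001578000000000000000000810800001570000000000001040000000000011b70000000000001040000000000011b700000000000000000000000010317700000000000000000000000010317700000000000000000000000041870f00000000000000000000000041870f000000000000000000081080000157000000000000000000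0810800001570000000000001040000000000011370000000000001040000000000011370000000012880000000000000001170000000012880000000000000001170000000000000000000000000000000000000000000000000000000000000000000000000000000000000011b70000000000000000000000000011b700000000000042100000000000011700000000000042100000000000011700000000000000000008108000011700000000000000000008108000011700000001000040000008000000005300000001000040000008000000005300000000000000000000000000010500000000000000000000000000010500000000000000000000000000113700000000000000000000000000113700000000000000000008108000010700000000000000000008108000010700000000000040000008000000005300000000000040000008000000005300000000000000000000000000015700000000000000000000000000015700000000000010400000000000010700000000000010400000000000010700000000000000000000000041840300000000000000000000000041840300000000000000000008000000005300000000000000000008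0000000053000000000000000000000000000117000000000000000000000000000117000000000000000000080000000013000000000000000000080000000013000000000000000000000000000053000000000000000000000000000053000000000000000000000000000107000000000000000000000000000107000000000000000000000000000013000000000000000000000000000013000000000000000000000000000105000000000000000000000000000105000000000000000000000000000003000000000000000000000000000003000000000000000000000000000001000000000000000000000000000001000000000000000000000000000000000000000000000000000000000000) (Nat.shiftLeft (Nat.add 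
    (nat_lit 0x10a1c78f5f0000011112884210000810a1c78f5f0000011112884210000810a1c78f1f0000011112884210000810a1c78f1f80000000008c72d54880000041a76f80000000008c72d54880000041a76f00000004ad738c200000000041a76f00000004ad738c200000000041a76f00000000008c72d54880000041a76f00000000008c72d54880000041a76fe000000000000000000810a1c7cfdfe000000000000000000810a1c7cfdf0000000000000000000000000000000000000000000000000000000000000000000000000000000810a1c7cfdf0000000000000000000810a1c7cfdf0000133352000000000000004187af0000133352000000000000004187af8000000000000000000810a1c78f5f8000000000000000000810a1c78f5f00000000008c62944000000041872f00000000008c62944000000041872f0000000000000000000810a1c78f5f0000000000000000000810a1c78f5f0000000000000000000000000000000000000000000000000000000000000000000000000000000810a1c78f1f0000000000000000000810a1c78f1f00000111120000000000000041870f00000111120000000000000041870f800000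4ee4000000000810800001578000004ee40000000008108000015700000111120000000000000041a76f00000111120000000000000041a76f0000000000001041088000004187af0000000000001041088000004187af80000111000042100008108000015780000111000042100008108000015700000000000000000000000061e7ef00000000000000000000000061e7ef00000004884200000000000041872f00000004884200000000000041872f00000000000010410880000041872f00000000000010410880000041872f0000011100004210000810800001570000011100004210000810800001578000004ee4000000000000000001578000004ee40000000000000000015700000000000010410880000041870f00000000000010410880000041870f80000111000000000000000010317780000111000000000000000010317780000000000000000000000041a76f80000000000000000000000041a76f00000111000042100008108000011700000111000042100008108000011700000111000000000000000010317700000111000000000000000010317700000000000000000000000041a76f00000000000000000000000041a76f0000011100004210000810800001070000011100004210000810800001070000000000000000000000000000000000000000000000000000000000000000000264004210000000000001170000000264004210000000000001170000000012880000000810800001170000000012)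 (Nat.shiftLeft 
    (nat_lit 0x111128c72d75db9f7efdfbf7f00000111128c72d75db9f7efdfbf7f0000000000000000000000000000000000000000000000000000000000008000b66eec630800000810a1c78f5f8000b66eec630800000810a1c78f5f00000000000000000000000000000000000000000000000000000000000000000000000010410c98b1e7cf9fbf00000000000010410c98b1e7cf9fbf00000000000000000000000000000000000000000000000000000000000000000000000010410c98b1e7cf9f3f00000000000010410c98b1e7cf9f3f8000011112884210000810a1c78f5f8000011112884210000810a1c78f5f00000111128842100008) (nat_lit 8000))) (nat_lit 8000))) i1) (pk61d (nat_lit 10) 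
    (nat_lit 0xf9c1402000) (pk61d (nat_lit 2) 
    (nat_lit 0x3333fffcffceffffffff3ffffff3fdfffffffc) i1)) (pk61d (nat_lit 7) 
    (nat_lit 0x1f803c01200485079e1a4060e005479412280140c2048818247860e243060c1840518003041630484081020a100c3000e1c10306181020a181040810103020c10100) i1) (pk61d (nat_lit 3) 
    (nat_lit 0x820c34924904d24134d26926924920954924aa4c349349369349a690) i1) ((fun g1 : Nat → Nat => pk61l (fun i2 => (pk61d (nat_lit 2) 
    (nat_lit 0x4000040010001000040040000400400001004000040004000100040040004000040042000400420011000400010010001000400000401000004040000400404040000400404004000100005000401000040010004000010000401000004000404440040040000040100004000050004000400050001000400010401000400410004000100010) i2)) (g1 i1) (g1 (Nat.succ i1)) List.nil) fun j => (pk61d (nat_lit 10) 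
    (nat_lit 0x86218862108420882200801f87c1e8781d8741c8701c06e1b06a1a06619864188601785c1685815854148501384c1284811844108421003e0f03a0e0360d0320c02e0b02a0a02809824088200781c0681805814048100380c028080180400800000) j)) (pk61d (nat_lit 7) 
    (nat_lit 0x1dc00701d80070e143040e11e00ea183840a0031c0670a52a3d02030a10f84068c25200141f40d60203060c287061403e2a0c1057c0c28708103850c0df030210080) i1))) (nat_lit 0) (nat_lit 77) List.nil) : List Ki)
    = ?xq9133 → (List Ki)) ?hq9133; (case hq9133 => (set_option maxRecDepth 1000000 in set_option simprocs false in conv => lhs; reduce; dsimp only)); intro _; exact ?xq9133 : List Ki)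

/-- sums of roots -/
def spE8 : List (ℕ × ℕ) := []

/-- the surviving masks -/
def smE8 : List ℕ := [0, 883423532800569873397395799593491270714318654428720779203080545590313043, 1325135298583788645636313750688298089086721863169272782665841283059159479, 1656419123229735308984341406955014924482047872673927585882274746417145839, 883423677148600563666327213749542491554355972273763865188020289651343703, 161757754891126816497651999780345807081191358941016803268550872655855, 1325135298583788645736807618932090124340378077825051624019050509594763199, 1546010506484870527455669983579625334143890937590680000881029366900314079, 883423644724684696903419681736027528274646021091677154524609805752975231]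

private theorem rowKE8 : ∀ j < 77, tbE8.row rwE8 j = true :=
  row_of_K _ _ _ (by (first | (rewrite [Cfsg.Agent.KOa46981a.e0, Cfsg.Agent.KOa46981a.e10, Cfsg.Agent.KOa46981a.e11, Cfsg.Agent.KOa46981a.e13, Cfsg.Agent.KOa46981a.e1]; decide +kernel) | decide +kernel))

theorem rowE8_0 : aL (fun j => tbE8.row rwE8 (j + 0)) 8 = true :=
  aL_iff.2 fun j hj => rowKE8 _ (by omega)

theorem rowE8_8 : aL (fun j => tbE8.row rwE8 (j + 8)) 8 = true :=
  aL_iff.2 fun j hj => rowKE8 _ (by omega)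

theorem rowE8_16 : aL (fun j => tbE8.row rwE8 (j + 16)) 8 = true :=
  aL_iff.2 fun j hj => rowKE8 _ (by omega)

theorem rowE8_24 : aL (fun j => tbE8.row rwE8 (j + 24)) 8 = true :=
  aL_iff.2 fun j hj => rowKE8 _ (by omega)

theorem rowE8_32 : aL (fun j => tbE8.row rwE8 (j + 32)) 8 = true :=
  aL_iff.2 fun j hj => rowKE8 _ (by omega)

theorem rowE8_40 : aL (fun j => tbE8.row rwE8 (j + 40)) 8 = true :=
  aL_iff.2 fun j hj => rowKE8 _ (by omega)

theorem rowE8_48 : aL (fun j => tbE8.row rwE8 (j + 48)) 8 = true :=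
  aL_iff.2 fun j hj => rowKE8 _ (by omega)

theorem rowE8_56 : aL (fun j => tbE8.row rwE8 (j + 56)) 8 = true :=
  aL_iff.2 fun j hj => rowKE8 _ (by omega)

theorem rowE8_64 : aL (fun j => tbE8.row rwE8 (j + 64)) 8 = true :=
  aL_iff.2 fun j hj => rowKE8 _ (by omega)

theorem rowE8_72 : aL (fun j => tbE8.row rwE8 (j + 72)) 5 = true :=
  aL_iff.2 fun j hj => rowKE8 _ (by omega)

theorem rowE8 : ∀ j < rwE8.length, tbE8.row rwE8 j = true := fun j (hj : j < 77) => by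
  by_cases h : j < 8
  · simpa only [Nat.sub_add_cancel (show 0 ≤ j by omega)] using aL_iff.1 rowE8_0 (j - 0) (by omega)
  by_cases h : j < 16
  · simpa only [Nat.sub_add_cancel (show 8 ≤ j by omega)] using aL_iff.1 rowE8_8 (j - 8) (by omega)
  by_cases h : j < 24
  · simpa only [Nat.sub_add_cancel (show 16 ≤ j by omega)] using aL_iff.1 rowE8_16 (j - 16) (by omega)
  by_cases h : j < 32
  · simpa only [Nat.sub_add_cancel (show 24 ≤ j by omega)] using aL_iff.1 rowE8_24 (j - 24) (by omega)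
  by_cases h : j < 40
  · simpa only [Nat.sub_add_cancel (show 32 ≤ j by omega)] using aL_iff.1 rowE8_32 (j - 32) (by omega)
  by_cases h : j < 48
  · simpa only [Nat.sub_add_cancel (show 40 ≤ j by omega)] using aL_iff.1 rowE8_40 (j - 40) (by omega)
  by_cases h : j < 56
  · simpa only [Nat.sub_add_cancel (show 48 ≤ j by omega)] using aL_iff.1 rowE8_48 (j - 48) (by omega)
  by_cases h : j < 64
  · simpa only [Nat.sub_add_cancel (show 56 ≤ j by omega)] using aL_iff.1 rowE8_56 (j - 56) (by omega)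
  by_cases h : j < 72
  · simpa only [Nat.sub_add_cancel (show 64 ≤ j by omega)] using aL_iff.1 rowE8_64 (j - 64) (by omega)
  simpa only [Nat.sub_add_cancel (show 72 ≤ j by omega)] using aL_iff.1 rowE8_72 (j - 72) (by omega)

private noncomputable def _root_.Cfsg.Agent.KOa46981a.k14 : type_of% @Bool.and := @(fun x0 x1 => @Bool.rec.{1} @(fun x2 => @Bool) @Bool.false @x1 @x0)
private theorem _root_.Cfsg.Agent.KOa46981a.e14 : @Bool.and = @_root_.Cfsg.Agent.KOa46981a.k14 := by delta _root_.Cfsg.Agent.KOa46981a.k14; rfl'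
private noncomputable def _root_.Cfsg.Agent.KOa46981a.oEq.{ku} (α : Sort ku) (a b : Nat) (f t : α) : α := @Decidable.rec (a = b) (fun _ => α) (fun _ => f) (fun _ => t) (Nat.decEq a b)
private noncomputable def _root_.Cfsg.Agent.KOa46981a.k15.{ku} (α : Sort ku) (a b : Nat) (f t : α) : α := @Bool.rec (fun _ => α) f t (Nat.beq a b)
private theorem _root_.Cfsg.Agent.KOa46981a.e15.{ku} : @_root_.Cfsg.Agent.KOa46981a.oEq.{ku} = @_root_.Cfsg.Agent.KOa46981a.k15.{ku} := funext fun α => funext fun a => funext fun b => funext fun f => funext fun t => by delta _root_.Cfsg.Agent.KOa46981a.oEq _root_.Cfsg.Agent.KOa46981a.k15; cases h : Nat.beq a b <;> cases Nat.decEq a b <;> rename_i g <;> first | rfl | exact absurd g (Nat.ne_of_beq_eq_false h) | exact absurd (Nat.eq_of_beq_eq_true h) g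
private noncomputable def _root_.Cfsg.Agent.KOa46981a.k16.{ku0, ku1} : type_of% @Quot.rec.{ku0, ku1} := @(fun x0 x1 x2 x3 x4 x5 => @Eq.rec.{ku1, ku0} (@Quot.{ku0} _ @x1) (@PSigma.fst.{ku0, ku1} _ _ (@Quot.lift.{ku0, (max (max 1 ku1) ku0)} _ _ _ (@Quot.indep.{ku0, ku1} _ _ _ @x3) (@Quot.indepCoherent.{ku0, ku1} _ _ _ @x3 @x4) @x5)) @(fun x6 x7 => @x2 @x6) (@PSigma.snd.{ku0, ku1} _ _ (@Quot.lift.{ku0, (max (max 1 ku1) ku0)} _ _ _ (@Quot.indep.{ku0, ku1} _ _ _ @x3) (@Quot.indepCoherent.{ku0, ku1} _ _ _ @x3 @x4) @x5)) @x5 (@Quot.liftIndepPr1.{ku0, ku1} _ _ _ @x3 @x4 @x5))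
private theorem _root_.Cfsg.Agent.KOa46981a.e16.{ku0, ku1} : @Quot.rec.{ku0, ku1} = @_root_.Cfsg.Agent.KOa46981a.k16.{ku0, ku1} := by delta _root_.Cfsg.Agent.KOa46981a.k16; rfl'
private noncomputable def _root_.Cfsg.Agent.KOa46981a.k17.{ku0, ku1} : type_of% @Quot.recOnSubsingleton.{ku0, ku1} := @(fun x0 x1 x2 x3 x4 x5 => @Cfsg.Agent.KOa46981a.k16.{ku0, ku1} _ _ @(fun x6 => @x2 @x6) @(fun x6 => @x5 @x6) (@Quot.recOnSubsingleton._proof_1.{ku1, ku0} _ _ _ _ @x5) @x4)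
private theorem _root_.Cfsg.Agent.KOa46981a.e17.{ku0, ku1} : @Quot.recOnSubsingleton.{ku0, ku1} = @_root_.Cfsg.Agent.KOa46981a.k17.{ku0, ku1} := by delta _root_.Cfsg.Agent.KOa46981a.k17; rewrite [← Cfsg.Agent.KOa46981a.e16.{ku0, ku1}]; rfl'
private noncomputable def _root_.Cfsg.Agent.KOa46981a.k18.{ku0} : type_of% @List.decidableBAll.{ku0} := @(fun x0 x1 x2 x3 => @List.rec.{1, ku0} @x0 @(fun x4 => @Decidable ((x5 : @x0) → (@Membership.mem.{ku0, ku0} _ _ _ @x4 @x5) → @x1 @x5)) (@Decidable.isTrue _ (@List.decidableBAll._proof_1.{ku0} _ @x1)) @(fun x4 x5 x6 => @Decidable.rec.{1} _ @(fun x7 => @Decidable ((x8 : @x0) → (@Membership.mem.{ku0, ku0} _ _ _ (@x4 :: @x5) @x8) → @x1 @x8)) @(fun x7 => @Decidable.isFalse _ (@List.decidableBAll._proof_4.{ku0} _ @x1 @x4 @x5 @x7)) @(fun x7 => @Decidable.rec.{1} _ @(fun x8 => @Decidable ((x9 : @x0) → (@Membership.mem.{ku0, ku0} _ _ _ (@x4 :: @x5) @x9) → @x1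 @x9)) @(fun x8 => @Decidable.isFalse _ (@List.decidableBAll._proof_3.{ku0} _ @x1 @x4 @x5 @x8)) @(fun x8 => @Decidable.isTrue _ (@List.decidableBAll._proof_2.{ku0} _ @x1 @x4 @x5 @x7 @x8)) @x6) (@x2 @x4)) @x3)
private theorem _root_.Cfsg.Agent.KOa46981a.e18.{ku0} : @List.decidableBAll.{ku0} = @_root_.Cfsg.Agent.KOa46981a.k18.{ku0} := by delta _root_.Cfsg.Agent.KOa46981a.k18; funext a0 a1 a2 a3; refine (_root_.Cfsg.Agent.KOa46981a.e4 (fun a3 => @List.decidableBAll.{ku0} a0 a1 a2 a3) ?_ (fun c0 c1 => ?_) a3 :) <;> (rfl')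
private noncomputable def _root_.Cfsg.Agent.KOa46981a.k19.{ku0} : type_of% @Multiset.decidableForallMultiset.{ku0} := @(fun (x0 : Sort (ku0+1)) (x1 : @Multiset.{ku0} @x0) (x2 : (x0 → Prop)) (x3 : ((x3 : x0) → @Decidable (@x2 @x3))) => @Cfsg.Agent.KOa46981a.k17.{(ku0+1), 1} (@List.{ku0} @x0) (@Setoid.r.{(ku0+1)} (@List.{ku0} @x0) (@List.isSetoid.{ku0} @x0)) @(fun (x4 : @Quotient.{(ku0+1)} (@List.{ku0} @x0) (@List.isSetoid.{ku0} @x0)) => @Decidable ((x5 : x0) → ((@Membership.mem.{ku0, ku0} @x0 (@Multiset.{ku0} @x0) (@Multiset.instMembership.{ku0} @x0) @x4 @x5) → @x2 @x5))) (@Multiset.decidableForallMultiset._proof_2.{ku0} @x0 @x2) @x1 @(fun (x4 : @List.{ku0} @x0) => @Decidable.rec.{1} ((x5 : x0) → ((@Membership.mem.{ku0, ku0} @x0 (@List.{ku0} @x0) (@List.instMembership.{ku0} @x0) @x4 @x5) → @x2 @x5)) @(fun (x5 : @Decidable ((x5 : x0) → ((@Membership.mem.{ku0, ku0} @x0 (@List.{ku0} @x0) (@List.instMembership.{ku0}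 @x0) @x4 @x5) → @x2 @x5))) => @Decidable ((x6 : x0) → ((@Membership.mem.{ku0, ku0} @x0 (@Multiset.{ku0} @x0) (@Multiset.instMembership.{ku0} @x0) (@Quotient.mk.{(ku0+1)} (@List.{ku0} @x0) (@List.isSetoid.{ku0} @x0) @x4) @x6) → @x2 @x6))) @(fun (x5 : @Not ((x5 : x0) → ((@Membership.mem.{ku0, ku0} @x0 (@List.{ku0} @x0) (@List.instMembership.{ku0} @x0) @x4 @x5) → @x2 @x5))) => @Decidable.isFalse ((x6 : x0) → ((@Membership.mem.{ku0, ku0} @x0 (@Multiset.{ku0} @x0) (@Multiset.instMembership.{ku0} @x0) (@Quotient.mk.{(ku0+1)} (@List.{ku0} @x0) (@List.isSetoid.{ku0} @x0) @x4) @x6) → @x2 @x6)) (@decidable_of_decidable_of_iff._proof_1 ((x6 : x0) → ((@Membership.mem.{ku0, ku0} @x0 (@List.{ku0} @x0) (@List.instMembership.{ku0} @x0) @x4 @x6) → @x2 @x6)) ((x6 : x0) → ((@Membership.mem.{ku0, ku0} @x0 (@Multiset.{ku0} @x0) (@Multiset.instMembership.{ku0} @x0) (@Quotient.mk.{(ku0+1)} (@List.{ku0} @x0) (@List.isSetoid.{ku0}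 @x0) @x4) @x6) → @x2 @x6)) (@Multiset.decidableForallMultiset._proof_1.{ku0} @x0 @x2 @x4) @x5)) @(fun (x5 : ((x5 : x0) → ((@Membership.mem.{ku0, ku0} @x0 (@List.{ku0} @x0) (@List.instMembership.{ku0} @x0) @x4 @x5) → @x2 @x5))) => @Decidable.isTrue ((x6 : x0) → ((@Membership.mem.{ku0, ku0} @x0 (@Multiset.{ku0} @x0) (@Multiset.instMembership.{ku0} @x0) (@Quotient.mk.{(ku0+1)} (@List.{ku0} @x0) (@List.isSetoid.{ku0} @x0) @x4) @x6) → @x2 @x6)) (@Iff.mp ((x6 : x0) → ((@Membership.mem.{ku0, ku0} @x0 (@List.{ku0} @x0) (@List.instMembership.{ku0} @x0) @x4 @x6) → @x2 @x6)) ((x6 : x0) → ((@Membership.mem.{ku0, ku0} @x0 (@Multiset.{ku0} @x0) (@Multiset.instMembership.{ku0} @x0) (@Quotient.mk.{(ku0+1)} (@List.{ku0} @x0) (@List.isSetoid.{ku0} @x0) @x4) @x6) → @x2 @x6)) (@Multiset.decidableForallMultiset._proof_1.{ku0} @x0 @x2 @x4) @x5)) (@Cfsg.Agent.KOa46981a.k18.{ku0} @x0 @x2 @x3 @x4)))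
private theorem _root_.Cfsg.Agent.KOa46981a.e19.{ku0} : @Multiset.decidableForallMultiset.{ku0} = @_root_.Cfsg.Agent.KOa46981a.k19.{ku0} := by delta _root_.Cfsg.Agent.KOa46981a.k19; rewrite [← Cfsg.Agent.KOa46981a.e18.{ku0}, ← Cfsg.Agent.KOa46981a.e17.{(ku0+1), 1}]; rfl'
private noncomputable def _root_.Cfsg.Agent.KOa46981a.k23.{ku0} : type_of% @Multiset.decidableDforallMultiset.{ku0} := @(fun x0 x1 x2 x3 => @Decidable.rec.{1} _ @(fun x4 => @Decidable ((x5 : @x0) → (x6 : @Membership.mem.{ku0, ku0} _ _ _ @x1 @x5) → @x2 @x5 @x6)) @(fun x4 => @Decidable.isFalse _ (@decidable_of_decidable_of_iff._proof_1 _ _ (@Multiset.decidableDforallMultiset._proof_2.{ku0} _ _ _) @x4)) @(fun x4 => @Decidable.isTrue _ (@Iff.mp _ _ (@Multiset.decidableDforallMultiset._proof_2.{ku0} _ _ _) @x4)) (@Cfsg.Agent.KOa46981a.k19.{ku0} _ _ @(fun x4 => @x2 (@Subtype.val.{(ku0+1)} _ @(fun x5 => @Membership.mem.{ku0, ku0}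 _ _ _ @x1 @x5) @x4) (@Multiset.decidableDforallMultiset._proof_1.{ku0} _ _ @x4)) @(fun x4 => @x3 (@Subtype.val.{(ku0+1)} _ @(fun x5 => @Membership.mem.{ku0, ku0} _ _ _ @x1 @x5) @x4) (@Multiset.decidableDforallMultiset._proof_1.{ku0} _ _ @x4))))
private theorem _root_.Cfsg.Agent.KOa46981a.e23.{ku0} : @Multiset.decidableDforallMultiset.{ku0} = @_root_.Cfsg.Agent.KOa46981a.k23.{ku0} := by delta _root_.Cfsg.Agent.KOa46981a.k23; rewrite [← Cfsg.Agent.KOa46981a.e19.{ku0}]; rfl'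
private noncomputable def _root_.Cfsg.Agent.KOa46981a.k24.{ku0} : type_of% @Finset.decidableDforallFinset.{ku0} := @(fun x0 x1 x2 x3 => @Cfsg.Agent.KOa46981a.k23.{ku0} _ _ _ @x3)
private theorem _root_.Cfsg.Agent.KOa46981a.e24.{ku0} : @Finset.decidableDforallFinset.{ku0} = @_root_.Cfsg.Agent.KOa46981a.k24.{ku0} := by delta _root_.Cfsg.Agent.KOa46981a.k24; rewrite [← Cfsg.Agent.KOa46981a.e23.{ku0}]; rfl'
private noncomputable def _root_.Cfsg.Agent.KOa46981a.k25.{ku0, ku1} : type_of% @Fintype.decidablePiFintype.{ku0, ku1} := @(fun x0 x1 x2 x3 x4 x5 => @Decidable.rec.{1} _ @(fun x6 => @Decidable (@Eq.{(max (ku0+1) (ku1+1))} _ @x4 @x5)) @(fun x6 => @Decidable.isFalse _ (@decidable_of_decidable_of_iff._proof_1 _ _ (@Fintype.decidablePiFintype._proof_2.{ku1, ku0} _ _ _ @x4 @x5) @x6)) @(fun x6 => @Decidable.isTrue _ (@Iff.mp _ _ (@Fintype.decidablePiFintype._proof_2.{ku1, ku0} _ _ _ @x4 @x5) @x6))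 (@Cfsg.Agent.KOa46981a.k24.{ku1} _ _ @(fun x6 x7 => @Eq.{(ku0+1)} _ (@x4 @x6) (@x5 @x6)) @(fun x6 x7 => @x2 @x6 (@x4 @x6) (@x5 @x6))))
private theorem _root_.Cfsg.Agent.KOa46981a.e25.{ku0, ku1} : @Fintype.decidablePiFintype.{ku0, ku1} = @_root_.Cfsg.Agent.KOa46981a.k25.{ku0, ku1} := by delta _root_.Cfsg.Agent.KOa46981a.k25; rewrite [← Cfsg.Agent.KOa46981a.e24.{ku1}]; rfl'
private noncomputable def _root_.Cfsg.Agent.KOa46981a.k26 : type_of% @Nat.decEq := @(fun x0 x1 => @Bool.rec.{1} @(fun x2 => (@Eq.{1} _ (@Nat.beq @x0 @x1) @x2) → @Decidable (@Eq.{1} _ @x0 @x1)) @(fun x2 => @Decidable.isFalse _ (@Nat.ne_of_beq_eq_false _ _ @x2)) @(fun x2 => @Decidable.isTrue _ (@Nat.eq_of_beq_eq_true _ _ @x2)) (@Nat.beq @x0 @x1) (@Eq.refl.{1} _ (@Nat.beq @x0 @x1)))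
private theorem _root_.Cfsg.Agent.KOa46981a.e26 : @Nat.decEq = @_root_.Cfsg.Agent.KOa46981a.k26 := by delta _root_.Cfsg.Agent.KOa46981a.k26; rfl'
private noncomputable def _root_.Cfsg.Agent.KOa46981a.k27 : type_of% @Int.decEq := @(fun x0 x1 => @Int.rec.{1} @(fun x2 => @Decidable (@Eq.{1} _ @x2 @x1)) @(fun x2 => @Int.rec.{1} @(fun x3 => @Decidable (@Eq.{1} _ (@Int.ofNat @x2) @x3)) @(fun x3 => @Decidable.rec.{1} _ @(fun x4 => @Decidable (@Eq.{1} _ (@Int.ofNat @x2) (@Int.ofNat @x3))) @(fun x4 => @Decidable.isFalse _ (@Int.decEq._proof_2 @x2 @x3 @x4)) @(fun x4 => @Decidable.isTrue _ (@Int.decEq._proof_1 @x2 @x3 @x4)) (@Cfsg.Agent.KOa46981a.k26 @x2 @x3)) @(fun x3 => @Decidable.isFalse _ (@Int.decEq._proof_3 @x2 @x3)) @x1) @(fun x2 => @Int.rec.{1} @(fun x3 => @Decidable (@Eq.{1} _ (@Int.negSucc @x2) @x3)) @(fun x3 => @Decidable.isFalse _ (@Int.decEq._proof_4 @x2 @x3)) @(fun x3 => @Decidable.rec.{1}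 _ @(fun x4 => @Decidable (@Eq.{1} _ (@Int.negSucc @x2) (@Int.negSucc @x3))) @(fun x4 => @Decidable.isFalse _ (@Int.decEq._proof_6 @x2 @x3 @x4)) @(fun x4 => @Decidable.isTrue _ (@Int.decEq._proof_5 @x2 @x3 @x4)) (@Cfsg.Agent.KOa46981a.k26 @x2 @x3)) @x1) @x0)
private theorem _root_.Cfsg.Agent.KOa46981a.e27 : @Int.decEq = @_root_.Cfsg.Agent.KOa46981a.k27 := by delta _root_.Cfsg.Agent.KOa46981a.k27; rewrite [← Cfsg.Agent.KOa46981a.e26]; rfl'
private noncomputable def _root_.Cfsg.Agent.KOa46981a.k28 : type_of% @Int.add := @(fun x0 x1 => @Int.rec.{1} @(fun x2 => ℤ) @(fun x2 => @Int.rec.{1} @(fun x3 => ℤ) @(fun x3 => @Int.ofNat (@Nat.add @x2 @x3)) @(fun x3 => @Nat.rec.{1} @(fun x4 => ℤ) (@Int.ofNat (@Nat.sub @x2 (@Nat.succ @x3))) @(fun x4 x5 => @Int.negSucc @x4) (@Nat.sub (@Nat.succ @x3) @x2)) @x1) @(fun x2 => @Int.rec.{1} @(fun x3 => ℤ) @(fun x3 => @Nat.rec.{1} @(fun x4 => ℤ) (@Int.ofNat (@Nat.sub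 @x3 (@Nat.succ @x2))) @(fun x4 x5 => @Int.negSucc @x4) (@Nat.sub (@Nat.succ @x2) @x3)) @(fun x3 => @Int.negSucc (@Nat.succ (@Nat.add @x2 @x3))) @x1) @x0)
private theorem _root_.Cfsg.Agent.KOa46981a.e28 : @Int.add = @_root_.Cfsg.Agent.KOa46981a.k28 := by delta _root_.Cfsg.Agent.KOa46981a.k28; rfl'
private noncomputable def _root_.Cfsg.Agent.KOa46981a.k29 : (by first | exact type_of% @Cfsg.Agent.N2.Ex.Al.Ck.Tb.u | exact Unit : Sort _) := by first | (refine @Subtype.val _ (fun g => @Cfsg.Agent.N2.Ex.Al.Ck.Tb.u = @g) (@Subtype.mk _ _ (@(fun x0 x1 x2 => @Nat.mod (@Nat.shiftRight (@Cfsg.Agent.N2.Ex.Al.Ck.Tb.V @x0) (@Nat.mul (nat_lit 4) (@Nat.add (@Nat.mul (nat_lit 8) @x1) @x2))) (nat_lit 16))) ?_); rfl') | exact @Cfsg.Agent.N2.Ex.Al.Ck.Tb.u | exact ()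
private theorem _root_.Cfsg.Agent.KOa46981a.e29 : (by first | exact @Cfsg.Agent.N2.Ex.Al.Ck.Tb.u = @_root_.Cfsg.Agent.KOa46981a.k29 | exact True : Prop) := by first | (delta _root_.Cfsg.Agent.KOa46981a.k29; exact @Subtype.property _ (fun g => @Cfsg.Agent.N2.Ex.Al.Ck.Tb.u = @g) _) | rfl | trivial
private noncomputable def _root_.Cfsg.Agent.KOa46981a.k30 : (by first | exact type_of% @Cfsg.Agent.N2.Ex.Al.Ck.Tb.vec | exact Unit : Sort _) := by first | (refine @Subtype.val _ (fun g => @Cfsg.Agent.N2.Ex.Al.Ck.Tb.vec = @g) (@Subtype.mk _ _ (@(fun x0 x1 x2 x3 => @Cfsg.Agent.KOa46981a.k28 (@Int.ofNat (@Cfsg.Agent.KOa46981a.k29 @x0 @x2 (@Fin.val _ @x3))) (@Nat.rec.{1} @(fun x4 => ℤ) (@Int.ofNat (nat_lit 0)) @(fun x4 x5 => @Int.negSucc @x4) (nat_lit 8)))) ?_); rewrite [← Cfsg.Agent.KOa46981a.e29, ← Cfsg.Agent.KOa46981a.e28]; (try delta Cfsg.Agent.N2.Ex.Al.Ck.Tb.vec); (try generalize @Cfsg.Agent.N2.Ex.Al.Ck.Tb.u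 = g0); rfl') | exact @Cfsg.Agent.N2.Ex.Al.Ck.Tb.vec | exact ()
private theorem _root_.Cfsg.Agent.KOa46981a.e30 : (by first | exact @Cfsg.Agent.N2.Ex.Al.Ck.Tb.vec = @_root_.Cfsg.Agent.KOa46981a.k30 | exact True : Prop) := by first | (delta _root_.Cfsg.Agent.KOa46981a.k30; exact @Subtype.property _ (fun g => @Cfsg.Agent.N2.Ex.Al.Ck.Tb.vec = @g) _) | rfl | trivial
private noncomputable def _root_.Cfsg.Agent.KOa46981a.k31 : (by first | exact type_of% @Cfsg.Agent.N2.Ex.Al.Ck.Tb.spn | exact Unit : Sort _) := by first | (refine @Subtype.val _ (fun g => @Cfsg.Agent.N2.Ex.Al.Ck.Tb.spn = @g) (@Subtype.mk _ _ (@(fun x0 x1 x2 x3 => @Nat.rec.{1} @(fun x4 => @Bool) @Bool.true @(fun x4 x5 => @Bool.rec.{1} @(fun x6 => @Bool) @Bool.false @x5 (@Bool.rec.{1} @(fun x6 => @Bool) (@List.rec.{1, 0} (ℕ × ℕ) @(fun x6 => @Bool) @Bool.false @(fun x6 x7 x8 => @Bool.rec.{1} @(fun x9 => @Bool) @x8 @Bool.true (@Bool.rec.{1}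 @(fun x9 => @Bool) @Bool.false (@Decidable.rec.{1} _ @(fun x9 => @Bool) @(fun x9 => @Bool.false) @(fun x9 => @Bool.true) (@Cfsg.Agent.KOa46981a.k25.{0, 0} _ @(fun x9 => ℤ) @(fun x9 => @Cfsg.Agent.KOa46981a.k27) (@Fin.fintype @x1) (@Cfsg.Agent.KOa46981a.k30 @x0 @x1 @x4) @(fun x9 => @Int.add (@Cfsg.Agent.KOa46981a.k30 @x0 @x1 (@Prod.fst.{0, 0} _ _ @x6) @x9) (@Cfsg.Agent.KOa46981a.k30 @x0 @x1 (@Prod.snd.{0, 0} _ _ @x6) @x9)))) (@Bool.rec.{1} @(fun x9 => @Bool) @Bool.false (@Bool.rec.{1} @(fun x9 => @Bool) @Bool.true @Bool.false (@Cfsg.Agent.KOa46981a.k15.{1} @Bool (@Nat.land (nat_lit 1) (@Nat.shiftRight @x2 (@Prod.snd.{0, 0} _ _ @x6))) (nat_lit 0) @Bool.false @Bool.true)) (@Bool.rec.{1} @(fun x9 => @Bool) @Bool.false (@Bool.rec.{1} @(fun x9 => @Bool) @Bool.true @Bool.false (@Cfsg.Agent.KOa46981a.k15.{1} @Bool (@Nat.land (nat_lit 1) (@Nat.shiftRight @x2 (@Prod.fst.{0, 0} _ _ @x6))) (nat_lit 0)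 @Bool.false @Bool.true)) (@Bool.rec.{1} @(fun x9 => @Bool) @Bool.false (@Nat.ble (@Nat.succ (@Prod.snd.{0, 0} _ _ @x6)) (@Cfsg.Agent.N2.Ex.Al.Ck.Tb.n @x0)) (@Nat.ble (@Nat.succ (@Prod.fst.{0, 0} _ _ @x6)) (@Cfsg.Agent.N2.Ex.Al.Ck.Tb.n @x0))))))) @x3) @Bool.true (@Bool.rec.{1} @(fun x6 => @Bool) @Bool.true @Bool.false (@Cfsg.Agent.KOa46981a.k15.{1} @Bool (@Nat.land (nat_lit 1) (@Nat.shiftRight @x2 @x4)) (nat_lit 0) @Bool.false @Bool.true)))) @x1)) ?_); rewrite [← Cfsg.Agent.KOa46981a.e15.{1}, ← Cfsg.Agent.KOa46981a.e30, ← Cfsg.Agent.KOa46981a.e27, ← Cfsg.Agent.KOa46981a.e25.{0, 0}]; (try delta Cfsg.Agent.N2.Ex.Al.Ck.Tb.spn Cfsg.Agent.N2.Ex.Al.Ck.aL Cfsg.Agent.N2.Ex.Al.Ck.lE); (try generalize @Cfsg.Agent.N2.Ex.Al.Ck.Tb.vec = g0); rfl') | exact @Cfsg.Agent.N2.Ex.Al.Ck.Tb.spn | exact ()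
private theorem _root_.Cfsg.Agent.KOa46981a.e31 : (by first | exact @Cfsg.Agent.N2.Ex.Al.Ck.Tb.spn = @_root_.Cfsg.Agent.KOa46981a.k31 | exact True : Prop) := by first | (delta _root_.Cfsg.Agent.KOa46981a.k31; exact @Subtype.property _ (fun g => @Cfsg.Agent.N2.Ex.Al.Ck.Tb.spn = @g) _) | rfl | trivial
private noncomputable def _root_.Cfsg.Agent.KOa46981a.k32 : (by first | exact type_of% @Cfsg.Agent.N2.Ex.Al.Ck.Tb.dot | exact Unit : Sort _) := by first | (refine @Subtype.val _ (fun g => @Cfsg.Agent.N2.Ex.Al.Ck.Tb.dot = @g) (@Subtype.mk _ _ (@(fun x0 x1 x2 x3 => @List.rec.{1, 0} ℕ @(fun x4 => ℕ → ℕ) @(fun x4 => nat_lit 0) @(fun x4 x5 x6 x7 => @Nat.add (@Nat.mul (@Nat.add (@Cfsg.Agent.KOa46981a.k29 @x0 @x1 @x7) @x2) @x4) (@x6 (@Nat.succ @x7))) @x3)) ?_); rewrite [← Cfsg.Agent.KOa46981a.e29]; (try delta Cfsg.Agent.N2.Ex.Al.Ck.Tb.dot); (try generalize @Cfsg.Agent.N2.Ex.Al.Ck.Tb.u = g0); rfl') | exact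 @Cfsg.Agent.N2.Ex.Al.Ck.Tb.dot | exact ()
private theorem _root_.Cfsg.Agent.KOa46981a.e32 : (by first | exact @Cfsg.Agent.N2.Ex.Al.Ck.Tb.dot = @_root_.Cfsg.Agent.KOa46981a.k32 | exact True : Prop) := by first | (delta _root_.Cfsg.Agent.KOa46981a.k32; exact @Subtype.property _ (fun g => @Cfsg.Agent.N2.Ex.Al.Ck.Tb.dot = @g) _) | rfl | trivial
private noncomputable def _root_.Cfsg.Agent.KOa46981a.k33 : (by first | exact type_of% @Cfsg.Agent.N2.Ex.Al.Ck.Tb.ev | exact Unit : Sort _) := by first | (refine @Subtype.val _ (fun g => @Cfsg.Agent.N2.Ex.Al.Ck.Tb.ev = @g) (@Subtype.mk _ _ (@(fun x0 x1 x2 x3 => @Nat.mod (@Cfsg.Agent.KOa46981a.k32 @x0 @x3 (@Nat.mul (nat_lit 8) (@Nat.rec.{1} @(fun x4 => ℕ) (nat_lit 0) @(fun x4 x5 => @x4) @x1)) @x2 (nat_lit 0)) @x1)) ?_); rewrite [← Cfsg.Agent.KOa46981a.e32]; (try delta Cfsg.Agent.N2.Ex.Al.Ck.Tb.ev); (try generalize @Cfsg.Agent.N2.Ex.Al.Ck.Tb.dot = g0); rfl')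 | exact @Cfsg.Agent.N2.Ex.Al.Ck.Tb.ev | exact ()
private theorem _root_.Cfsg.Agent.KOa46981a.e33 : (by first | exact @Cfsg.Agent.N2.Ex.Al.Ck.Tb.ev = @_root_.Cfsg.Agent.KOa46981a.k33 | exact True : Prop) := by first | (delta _root_.Cfsg.Agent.KOa46981a.k33; exact @Subtype.property _ (fun g => @Cfsg.Agent.N2.Ex.Al.Ck.Tb.ev = @g) _) | rfl | trivial
private noncomputable def _root_.Cfsg.Agent.KOa46981a.k34 : type_of% @Bool.decEq := @(fun x0 x1 => @Bool.rec.{1} @(fun x2 => @Decidable (@Eq.{1} _ @x2 @x1)) (@Bool.rec.{1} @(fun x2 => @Decidable (@Eq.{1} _ @Bool.false @x2)) (@Decidable.isTrue _ (@rfl.{1} _ _)) (@Decidable.isFalse _ @(fun x2 => @Bool.noConfusion.{0} _ _ _ @x2)) @x1) (@Bool.rec.{1} @(fun x2 => @Decidable (@Eq.{1} _ @Bool.true @x2)) (@Decidable.isFalse _ @(fun x2 => @Bool.noConfusion.{0} _ _ _ @x2)) (@Decidable.isTrue _ (@rfl.{1} _ _)) @x1) @x0)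
private theorem _root_.Cfsg.Agent.KOa46981a.e34 : @Bool.decEq = @_root_.Cfsg.Agent.KOa46981a.k34 := by delta _root_.Cfsg.Agent.KOa46981a.k34; rfl'
private noncomputable def _root_.Cfsg.Agent.KOa46981a.k35 : (by first | exact type_of% @Cfsg.Agent.N2.Ex.Al.Ck.Tb.nz | exact Unit : Sort _) := by first | (refine @Subtype.val _ (fun g => @Cfsg.Agent.N2.Ex.Al.Ck.Tb.nz = @g) (@Subtype.mk _ _ (@(fun x0 x1 x2 x3 => @Bool.rec.{1} @(fun x4 => @Bool) @Bool.false (@Bool.rec.{1} @(fun x4 => @Bool) @Bool.false (@Nat.rec.{1} @(fun x4 => @Bool) @Bool.false @(fun x4 x5 => @Bool.rec.{1} @(fun x6 => @Bool) @x5 @Bool.true (@Nat.ble (@Nat.succ (nat_lit 0)) (@Cfsg.Agent.KOa46981a.k33 @x0 @x2 @x3 @x4))) @x1) (@Nat.beq (@Cfsg.Agent.KOa46981a.k8.{0} _ @x3) @x1)) (@Nat.ble (@Nat.succ (nat_lit 0)) @x2))) ?_); rewrite [← Cfsg.Agent.KOa46981a.e8.{0}, ← Cfsg.Agent.KOa46981a.e33]; (try delta Cfsg.Agent.N2.Ex.Al.Ck.Tb.nz Cfsg.Agent.N2.Ex.Al.Ck.eL);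 (try generalize @Cfsg.Agent.N2.Ex.Al.Ck.Tb.ev = g0); rfl') | exact @Cfsg.Agent.N2.Ex.Al.Ck.Tb.nz | exact ()
private theorem _root_.Cfsg.Agent.KOa46981a.e35 : (by first | exact @Cfsg.Agent.N2.Ex.Al.Ck.Tb.nz = @_root_.Cfsg.Agent.KOa46981a.k35 | exact True : Prop) := by first | (delta _root_.Cfsg.Agent.KOa46981a.k35; exact @Subtype.property _ (fun g => @Cfsg.Agent.N2.Ex.Al.Ck.Tb.nz = @g) _) | rfl | trivial
private noncomputable def _root_.Cfsg.Agent.KOa46981a.k36 : (by first | exact type_of% @Cfsg.Agent.N2.Ex.Al.Ck.stK | exact Unit : Sort _) := by first | (refine @Subtype.val _ (fun g => @Cfsg.Agent.N2.Ex.Al.Ck.stK = @g) (@Subtype.mk _ _ (@(fun x0 x1 x2 x3 x4 x5 x6 x7 x8 => @Cfsg.Agent.N2.Ex.Al.Ck.Rw.rec.{1} @(fun x9 => @Bool) @(fun x9 x10 x11 => @Bool.rec.{1} @(fun x12 => @Bool) (@Cfsg.Agent.KOa46981a.k31 @x0 @x3 @x9 @x6) @Bool.true (@Bool.rec.{1} @(fun x12 => @Bool) (@Cfsg.Agent.N2.Ex.Al.Ck.Ki.rec.{1}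 @(fun x12 => @Bool) @(fun x12 x13 x14 x15 x16 x17 => @Bool.rec.{1} @(fun x18 => @Bool) @Bool.false (@Nat.rec.{1} @(fun x18 => @Bool) @Bool.true @(fun x18 x19 => @Bool.rec.{1} @(fun x20 => @Bool) @Bool.false @x19 (@Bool.rec.{1} @(fun x20 => @Bool) (@Bool.rec.{1} @(fun x20 => @Bool) @Bool.false (@Bool.rec.{1} @(fun x20 => @Bool) @Bool.true @Bool.false (@Nat.beq (@x2 @x12 @x18) @x14)) (@Bool.rec.{1} @(fun x20 => @Bool) @Bool.true @Bool.false (@x1 @x9 @x18))) @Bool.true (@Nat.beq (@Cfsg.Agent.KOa46981a.k33 @x0 @x15 @x16 @x18) (nat_lit 0)))) (@Cfsg.Agent.N2.Ex.Al.Ck.Tb.n @x0)) (@Bool.rec.{1} @(fun x18 => @Bool) @Bool.false (@Bool.rec.{1} @(fun x18 => @Bool) (@Nat.rec.{1} @(fun x18 => @Bool) @Bool.true @(fun x18 x19 => @Bool.rec.{1} @(fun x20 => @Bool) @Bool.false @x19 (@Decidable.rec.{1} _ @(fun x20 => @Bool) @(fun x20 => @Bool.false) @(fun x20 => @Bool.true) (@Cfsg.Agent.KOa46981a.k34 (@x1 @x12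 @x18) (@Bool.rec.{1} @(fun x20 => @Bool) @Bool.false (@Nat.beq (@x2 @x9 @x18) @x13) (@x1 @x9 @x18))))) (@Cfsg.Agent.N2.Ex.Al.Ck.Tb.n @x0)) @Bool.true (@Nat.beq @x12 @x9)) (@Bool.rec.{1} @(fun x18 => @Bool) @Bool.false (@Nat.beq (@x2 @x12 @x17) @x14) (@Bool.rec.{1} @(fun x18 => @Bool) @Bool.false (@Bool.rec.{1} @(fun x18 => @Bool) @Bool.true @Bool.false (@x1 @x9 @x17)) (@Bool.rec.{1} @(fun x18 => @Bool) @Bool.false (@Nat.ble (@Nat.succ @x17) (@Cfsg.Agent.N2.Ex.Al.Ck.Tb.n @x0)) (@Cfsg.Agent.KOa46981a.k35 @x0 @x3 @x15 @x16)))))) (@Option.rec.{1, 0} @Cfsg.Agent.N2.Ex.Al.Ck.Ki @(fun x12 => @Cfsg.Agent.N2.Ex.Al.Ck.Ki) (@Cfsg.Agent.N2.Ex.Al.Ck.Ki.mk (nat_lit 0) (nat_lit 0) (nat_lit 0) (nat_lit 0) [] (nat_lit 0)) @(fun x12 => @x12) (@Cfsg.Agent.KOa46981a.k6.{0} _ @x5 @x8))) @Bool.true (@List.rec.{1, 0} ℕ @(fun x12 => @Bool) @Bool.false @(fun x12 x13 x14 => @Bool.rec.{1} @(fun x15 => @Bool) @x14 @Bool.true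 (@Nat.beq @x12 @x9)) @x7))) (@Cfsg.Agent.KOa46981a.k7 @x4 @x8))) ?_); rewrite [← Cfsg.Agent.KOa46981a.e7, ← Cfsg.Agent.KOa46981a.e6.{0}, ← Cfsg.Agent.KOa46981a.e35, ← Cfsg.Agent.KOa46981a.e34, ← Cfsg.Agent.KOa46981a.e33, ← Cfsg.Agent.KOa46981a.e31]; (try delta Cfsg.Agent.N2.Ex.Al.Ck.stK Cfsg.Agent.N2.Ex.Al.Ck.lE Cfsg.Agent.N2.Ex.Al.Ck.aL); (try generalize @Cfsg.Agent.N2.Ex.Al.Ck.Tb.spn = g0); (try generalize @Cfsg.Agent.N2.Ex.Al.Ck.Tb.ev = g1); (try generalize @Cfsg.Agent.N2.Ex.Al.Ck.Tb.nz = g2); (try generalize @Cfsg.Agent.N2.Ex.Al.Ck.rw0 = g3); rfl') | exact @Cfsg.Agent.N2.Ex.Al.Ck.stK | exact ()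
private theorem _root_.Cfsg.Agent.KOa46981a.e36 : (by first | exact @Cfsg.Agent.N2.Ex.Al.Ck.stK = @_root_.Cfsg.Agent.KOa46981a.k36 | exact True : Prop) := by first | (delta _root_.Cfsg.Agent.KOa46981a.k36; exact @Subtype.property _ (fun g => @Cfsg.Agent.N2.Ex.Al.Ck.stK = @g) _) | rfl | trivial
private noncomputable def _root_.Cfsg.Agent.KOa46981a.k37 : (by first | exact type_of% @Cfsg.Agent.N2.Ex.Al.Ck.spK | exact Unit : Sort _) := by first | (refine @Subtype.val _ (fun g => @Cfsg.Agent.N2.Ex.Al.Ck.spK = @g) (@Subtype.mk _ _ (@(fun x0 x1 => @Nat.rec.{1} @(fun x2 => ℕ) (nat_lit 0) @(fun x2 x3 => @Bool.rec.{1} @(fun x4 => ℕ) @x3 (@Nat.add (@Nat.shiftLeft (nat_lit 1) (@Nat.mul (nat_lit 8) @x2)) @x3) (@x0 @x2)) @x1)) ?_); rfl') | exact @Cfsg.Agent.N2.Ex.Al.Ck.spK | exact ()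
private theorem _root_.Cfsg.Agent.KOa46981a.e37 : (by first | exact @Cfsg.Agent.N2.Ex.Al.Ck.spK = @_root_.Cfsg.Agent.KOa46981a.k37 | exact True : Prop) := by first | (delta _root_.Cfsg.Agent.KOa46981a.k37; exact @Subtype.property _ (fun g => @Cfsg.Agent.N2.Ex.Al.Ck.spK = @g) _) | rfl | trivial
private noncomputable def _root_.Cfsg.Agent.KOa46981a.k38 : (by first | exact type_of% @Cfsg.Agent.N2.Ex.Al.Ck.Tb.c | exact Unit : Sort _) := by first | (refine @Subtype.val _ (fun g => @Cfsg.Agent.N2.Ex.Al.Ck.Tb.c = @g) (@Subtype.mk _ _ (@(fun x0 x1 x2 => @Nat.mod (@Nat.shiftRight (@Cfsg.Agent.N2.Ex.Al.Ck.Tb.C @x0) (@Nat.mul (nat_lit 3) (@Nat.add (@Nat.mul (@Cfsg.Agent.N2.Ex.Al.Ck.Tb.n @x0) @x1) @x2))) (nat_lit 8))) ?_); rfl') | exact @Cfsg.Agent.N2.Ex.Al.Ck.Tb.c | exact ()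
private theorem _root_.Cfsg.Agent.KOa46981a.e38 : (by first | exact @Cfsg.Agent.N2.Ex.Al.Ck.Tb.c = @_root_.Cfsg.Agent.KOa46981a.k38 | exact True : Prop) := by first | (delta _root_.Cfsg.Agent.KOa46981a.k38; exact @Subtype.property _ (fun g => @Cfsg.Agent.N2.Ex.Al.Ck.Tb.c = @g) _) | rfl | trivial
private noncomputable def _root_.Cfsg.Agent.KOa46981a.k39 : (by first | exact type_of% @Cfsg.Agent.N2.Ex.Al.Ck.cnK | exact Unit : Sort _) := by first | (refine @Subtype.val _ (fun g => @Cfsg.Agent.N2.Ex.Al.Ck.cnK = @g) (@Subtype.mk _ _ (@(fun x0 x1 x2 => @Nat.mod (@Nat.land (@Cfsg.Agent.KOa46981a.k37 (@Cfsg.Agent.KOa46981a.k11 @x1) (@Cfsg.Agent.N2.Ex.Al.Ck.Tb.n @x0)) (@Cfsg.Agent.KOa46981a.k37 @(fun x3 => @Nat.beq (@Cfsg.Agent.KOa46981a.k38 @x0 @x3 @x2) (nat_lit 2)) (@Cfsg.Agent.N2.Ex.Al.Ck.Tb.n @x0))) (nat_lit 255))) ?_); rewrite [← Cfsg.Agent.KOa46981a.e38, ← Cfsg.Agent.KOa46981a.e11, ← Cfsg.Agent.KOa46981a.e37];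 (try delta Cfsg.Agent.N2.Ex.Al.Ck.cnK); (try generalize @Cfsg.Agent.N2.Ex.Al.Ck.spK = g0); (try generalize @Cfsg.Agent.N2.Ex.Al.Ck.tbK = g1); (try generalize @Cfsg.Agent.N2.Ex.Al.Ck.Tb.c = g2); rfl') | exact @Cfsg.Agent.N2.Ex.Al.Ck.cnK | exact ()
private theorem _root_.Cfsg.Agent.KOa46981a.e39 : (by first | exact @Cfsg.Agent.N2.Ex.Al.Ck.cnK = @_root_.Cfsg.Agent.KOa46981a.k39 | exact True : Prop) := by first | (delta _root_.Cfsg.Agent.KOa46981a.k39; exact @Subtype.property _ (fun g => @Cfsg.Agent.N2.Ex.Al.Ck.cnK = @g) _) | rfl | trivial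

private theorem staKE8 : ∀ j < 77, tbE8.sta 8 rwE8 kiE8 spE8 smE8 j = true :=
  sta_of_K _ _ _ _ _ _ _ (by (first | (rewrite [Cfsg.Agent.KOa46981a.e14, Cfsg.Agent.KOa46981a.e0, Cfsg.Agent.KOa46981a.e36, Cfsg.Agent.KOa46981a.e11, Cfsg.Agent.KOa46981a.e39]; decide +kernel) | decide +kernel))

theorem staE8_0 : aL (fun j => tbE8.sta 8 rwE8 kiE8 spE8 smE8 (j + 0)) 8 = true :=
  aL_iff.2 fun j hj => staKE8 _ (by omega)

theorem staE8_8 : aL (fun j => tbE8.sta 8 rwE8 kiE8 spE8 smE8 (j + 8)) 8 = true :=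
  aL_iff.2 fun j hj => staKE8 _ (by omega)

theorem staE8_16 : aL (fun j => tbE8.sta 8 rwE8 kiE8 spE8 smE8 (j + 16)) 8 = true :=
  aL_iff.2 fun j hj => staKE8 _ (by omega)

theorem staE8_24 : aL (fun j => tbE8.sta 8 rwE8 kiE8 spE8 smE8 (j + 24)) 8 = true :=
  aL_iff.2 fun j hj => staKE8 _ (by omega)

theorem staE8_32 : aL (fun j => tbE8.sta 8 rwE8 kiE8 spE8 smE8 (j + 32)) 8 = true :=
  aL_iff.2 fun j hj => staKE8 _ (by omega)

theorem staE8_40 : aL (fun j => tbE8.sta 8 rwE8 kiE8 spE8 smE8 (j + 40)) 8 = true :=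
  aL_iff.2 fun j hj => staKE8 _ (by omega)

theorem staE8_48 : aL (fun j => tbE8.sta 8 rwE8 kiE8 spE8 smE8 (j + 48)) 8 = true :=
  aL_iff.2 fun j hj => staKE8 _ (by omega)

theorem staE8_56 : aL (fun j => tbE8.sta 8 rwE8 kiE8 spE8 smE8 (j + 56)) 8 = true :=
  aL_iff.2 fun j hj => staKE8 _ (by omega)

theorem staE8_64 : aL (fun j => tbE8.sta 8 rwE8 kiE8 spE8 smE8 (j + 64)) 8 = true :=
  aL_iff.2 fun j hj => staKE8 _ (by omega)

theorem staE8_72 : aL (fun j => tbE8.sta 8 rwE8 kiE8 spE8 smE8 (j + 72)) 5 = true :=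
  aL_iff.2 fun j hj => staKE8 _ (by omega)

theorem staE8 : ∀ j < rwE8.length, tbE8.sta 8 rwE8 kiE8 spE8 smE8 j = true := fun j (hj : j < 77) => by
  by_cases h : j < 8
  · simpa only [Nat.sub_add_cancel (show 0 ≤ j by omega)] using aL_iff.1 staE8_0 (j - 0) (by omega)
  by_cases h : j < 16
  · simpa only [Nat.sub_add_cancel (show 8 ≤ j by omega)] using aL_iff.1 staE8_8 (j - 8) (by omega)
  by_cases h : j < 24
  · simpa only [Nat.sub_add_cancel (show 16 ≤ j by omega)] using aL_iff.1 staE8_16 (j - 16) (by omega)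
  by_cases h : j < 32
  · simpa only [Nat.sub_add_cancel (show 24 ≤ j by omega)] using aL_iff.1 staE8_24 (j - 24) (by omega)
  by_cases h : j < 40
  · simpa only [Nat.sub_add_cancel (show 32 ≤ j by omega)] using aL_iff.1 staE8_32 (j - 32) (by omega)
  by_cases h : j < 48
  · simpa only [Nat.sub_add_cancel (show 40 ≤ j by omega)] using aL_iff.1 staE8_40 (j - 40) (by omega)
  by_cases h : j < 56
  · simpa only [Nat.sub_add_cancel (show 48 ≤ j by omega)] using aL_iff.1 staE8_48 (j - 48) (by omega)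
  by_cases h : j < 64
  · simpa only [Nat.sub_add_cancel (show 56 ≤ j by omega)] using aL_iff.1 staE8_56 (j - 56) (by omega)
  by_cases h : j < 72
  · simpa only [Nat.sub_add_cancel (show 64 ≤ j by omega)] using aL_iff.1 staE8_64 (j - 64) (by omega)
  simpa only [Nat.sub_add_cancel (show 72 ≤ j by omega)] using aL_iff.1 staE8_72 (j - 72) (by omega)

end Cfsg.Agent.N2.Ex.Al.Ck
end

private theorem dce_adb7b9c644dd : _root_.True := by
  try have : _root_.True := by simp only [_root_.Cfsg.Agent.N2.Ex.Al.Ck.Tb.svd.eq_1]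
  try have : _root_.True := by simp only [_root_.Cfsg.Agent.N2.Ex.Al.Ck.Tb.ps.eq_1]
  try have : _root_.True := by simp only [_root_.Cfsg.Agent.N2.Ex.Al.Ck.Tb.en.eq_1]
  try have : _root_.True := by simp only [_root_.Cfsg.Agent.N2.Ex.Al.Ck.Tb.lng.eq_1]
  try have : _root_.True := by simp only [_root_.Cfsg.Agent.N2.Ex.Al.Ck.Tb.inv.eq_1]
  try have : _root_.True := by simp only [_root_.Cfsg.Agent.N2.Ex.Al.Ck.Tb.chkA.eq_1]
  try have : _root_.True := by simp only [_root_.Cfsg.Agent.N2.Ex.Al.Ck.npp.eq_1]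
  try have : _root_.True := by simp only [_root_.Cfsg.Agent.N2.Ex.Al.Ck.Tb.chk.eq_1]
  try have : _root_.True := by simp only [_root_.Cfsg.Agent.N2.Ex.Al.Ck.Tb.shs.eq_1]
  try have : _root_.True := by simp only [_root_.Cfsg.Agent.N2.Ex.Al.Ck.Tb.chkT.eq_1]
  try have : _root_.True := by simp only [_root_.Cfsg.Agent.N2.Ex.Al.Ck.ct.eq_1]
  try have : _root_.True := by simp only [_root_.Cfsg.Agent.N2.Ex.Al.Ck.Tb.svc.eq_1]
  try have : _root_.True := by simp only [_root_.Cfsg.Agent.N2.Ex.Al.Ck.ix.eq_1]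
  try have : _root_.True := by simp only [_root_.Cfsg.Agent.N2.Ex.Al.Ck.Tb.chkV.eq_1]
  try have : _root_.True := by simp only [_root_.Cfsg.Agent.N2.Ex.Al.Ck.Tb.cls.eq_1]
  try have : _root_.True := by simp only [_root_.Cfsg.Agent.N2.Ex.Al.Ck.Tb.bas.eq_1]
  try have : _root_.True := by simp only [_root_.Cfsg.Agent.N2.Ex.Al.Ck.Tb.rch.eq_1]
  try have : _root_.True := by simp only [_root_.Cfsg.Agent.N2.Ex.Al.Ck.Tb.kil.eq_1]
  try have : _root_.True := by simp only [_root_.Cfsg.Agent.N2.Ex.Al.Ck.Tb.nz.eq_1]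
  try have : _root_.True := by simp only [_root_.Cfsg.Agent.N2.Ex.Al.Ck.Tb.ch.eq_1]
  try have : _root_.True := by simp only [_root_.Cfsg.Agent.N2.Ex.Al.Ck.Tb.sta.eq_1]
  try have : _root_.True := by simp only [_root_.Cfsg.Agent.N2.Ex.Al.Ck.Tb.lfc.eq_1]
  try have : _root_.True := by simp only [_root_.Cfsg.Agent.N2.Ex.Al.nk.eq_1]
  try have : _root_.True := by simp only [_root_.Cfsg.Agent.N2.Ex.Al.Ck.Tb.chkU.eq_1]
  try have : _root_.True := by simp only [_root_.Cfsg.Agent.N2.Ex.Al.Ck.gE.congr_simp]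
  try have : _root_.True := by simp only [_root_.Cfsg.Agent.N2.Ex.Al.Ck.Tb.spn.eq_1]
  try have : _root_.True := by simp only [_root_.Cfsg.Agent.N2.Ex.Al.Ck.Tb.svs.eq_1]
  try have : _root_.True := by simp only [_root_.Cfsg.Agent.N2.Ex.Al.Ck.Tb.row.eq_1]
  exact _root_.True.intro
end

-- part: N2/Ex/Mu/LatA
section
set_option linter.all false
open scoped Cfsg.Agent.FastGrp

/-!
# N2, multiplicities: lattice tools (helper40)

* `pk`, `dg`, `eng` : enumeration of all functionals modulo `N` which kill a list of vectors;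
* `cp_aut` : automorphisms of the root system preserve the Cartan integers;
* `pow_ncard`, `ord_le` : the order of the multiplier of a functional;
* `dvd_of_smul` : the roots killed by a functional modulo a large prime are closed in their rational span.
-/

set_option autoImplicit false
set_option linter.unusedSectionVars false

namespace Cfsg.Agent.N2.Ex.Mu.Lt

open CoxeterSystem Cfsg Cfsg.Lie Cfsg.Lie.ChevalleyDatum
open Cfsg.Agent.ChevalleyStructure Cfsg.Agent.ChevalleyStructure.CoxeterGeom Cfsg.Agent.ChevalleyStructure.CoxeterGeomTypes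
  Cfsg.Agent.Tits.Roots Cfsg.Agent.Nodes Cfsg.Agent.Nodes.RGDChev Cfsg.Agent.Nodes.Coroot
open Cfsg.Agent.DS.Ex Cfsg.Agent.DS.Nt Cfsg.Agent.H931.KC
open Cfsg.Agent.DS.Ex.Tor (RT)
open Cfsg.Agent.N2.Ex.Al Cfsg.Agent.N2.Ex.Al.Ck

/-- packing -/
noncomputable def pk (g : ℕ → ℕ) (n : ℕ) : ℕ :=
  Nat.rec (motive := fun _ => ℕ) 0 (fun k ih => Nat.add ih (Nat.shiftLeft (g k) (Nat.mul 16 k))) n

/-- the digits -/
def dg (V a : ℕ) : ℕ := Nat.mod (Nat.shiftRight V (Nat.mul 16 a)) 65536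

theorem pk_succ (g : ℕ → ℕ) (n : ℕ) : pk g (n + 1) = pk g n + g n * 2 ^ (16 * n) := by
  show pk g n + g n <<< (16 * n) = _
  rw [Nat.shiftLeft_eq]

theorem dg_eq (V a : ℕ) : dg V a = V / 2 ^ (16 * a) % 65536 := by
  show V >>> (16 * a) % 65536 = _
  rw [Nat.shiftRight_eq_div_pow]

theorem pk_lt {g : ℕ → ℕ} {n : ℕ} (h : ∀ k < n, g k < 65536) : pk g n < 2 ^ (16 * n) := by
  induction n with
  | zero => exact Nat.one_pos
  | succ n ih =>
    have h1 := ih fun k hk => h k (Nat.lt_succ_of_lt hk)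
    have h2 := Nat.mul_le_mul_right (2 ^ (16 * n)) (Nat.le_of_lt_succ (h n (Nat.lt_succ_self n)))
    rw [pk_succ, Nat.mul_succ, pow_add]
    omega

theorem dg_pk {g : ℕ → ℕ} {n : ℕ} (h : ∀ k < n, g k < 65536) {a : ℕ} (ha : a < n) : dg (pk g n) a = g a := by
  induction n with
  | zero => omega
  | succ n ih =>
    have h1 : ∀ k < n, g k < 65536 := fun k hk => h k (Nat.lt_succ_of_lt hk)
    rcases (Nat.lt_succ_iff.1 ha).lt_or_eq with h2 | rfl
    · obtain ⟨k, rfl⟩ := Nat.exists_eq_add_of_lt h2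
      rw [dg_eq, pk_succ, show g (a + k + 1) * 2 ^ (16 * (a + k + 1)) =
        2 ^ (16 * a) * (65536 * (g (a + k + 1) * 2 ^ (16 * k))) by ring, Nat.add_mul_div_left _ _ (by positivity),
        Nat.add_mul_mod_self_left, ← dg_eq, ih h1 h2]
    · rw [dg_eq, pk_succ, Nat.add_mul_div_right _ _ (by positivity), Nat.div_eq_of_lt (pk_lt h1), zero_add,
        Nat.mod_eq_of_lt (h a ha)]

theorem pk_sum (f : ℕ → ℕ) (g : ℕ → ℕ → ℕ) (k n : ℕ) :
    ∑ i ∈ Finset.range k, f i * pk (g i) n = pk (fun a => ∑ i ∈ Finset.range k, f i * g i a) n := by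
  induction n with
  | zero => exact Finset.sum_eq_zero fun i _ => mul_zero _
  | succ n ih => simp only [pk_succ, mul_add, Finset.sum_add_distrib, ih, Finset.sum_mul, mul_assoc]

/-- all digit strings of length `k` -/
noncomputable def en (N : ℕ) (G H : ℕ → ℕ) (leaf : ℕ → ℕ → Bool) (k : ℕ) : ℕ → ℕ → Bool :=
  Nat.rec (motive := fun _ => ℕ → ℕ → Bool) leaf
    (fun i ih V W => aL (fun c => ih (Nat.add V (Nat.mul c (G i))) (Nat.add W (Nat.mul c (H i)))) N) k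

theorem en_spec {N : ℕ} {G H : ℕ → ℕ} {leaf : ℕ → ℕ → Bool} {f : ℕ → ℕ} (hf : ∀ i, f i < N) (k V W : ℕ)
    (h : en N G H leaf k V W = true) :
    leaf (V + ∑ i ∈ Finset.range k, f i * G i) (W + ∑ i ∈ Finset.range k, f i * H i) = true := by
  induction k generalizing V W with
  | zero => exact h
  | succ k ih =>
    have h1 := ih _ _ (aL_iff.1 h (f k) (hf k))
    rw [Finset.sum_range_succ, Finset.sum_range_succ, add_comm _ (f k * G k), add_comm _ (f k * H k), ← add_assoc, ← add_assoc]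
    exact h1

/-- the digit vanishes modulo `N` -/
def zr (N V a : ℕ) : Bool := Nat.beq (Nat.mod (dg V a) N) 0

/-- a vector -/
def vz (l : ℕ) (z : List ℤ) : LL l := fun i => z.getD i 0

/-- the enumeration of the functionals modulo `N` which kill `Z` -/
noncomputable def eng (T : Tb) (l N : ℕ) (Z : List (List ℤ)) (ck : ℕ → Bool) : Bool :=
  en N (fun i => pk (fun a => Nat.add (T.u a i) (Nat.mul 8 (Nat.pred N))) T.n)
    (fun i => pk (fun k => (((Z.getD k []).getD i 0) % (N : ℤ)).toNat) Z.length)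
    (fun V W => or (not (aL (zr N W) Z.length)) (ck V)) l 0 0

theorem zr_pk {l N : ℕ} (hl : l ≤ 8) (h0 : 0 < N) (hN : N ≤ 3) (χ : LL l →+ ℤ) {f : ℕ → ℕ} (hf : ∀ i, f i < N)
    (hf' : ∀ i : Fin l, (f i : ℤ) ≡ χ (sr i) [ZMOD N]) {g : ℕ → ℕ → ℕ} (hg : ∀ i a, g i a < 32) {n a : ℕ} (ha : a < n)
    {x : LL l} (hx : ∀ i : Fin l, (g i a : ℤ) ≡ x i [ZMOD N]) :
    zr N (0 + ∑ i ∈ Finset.range l, f i * pk (g i) n) a = true ↔ (N : ℤ) ∣ χ x := by
  have h1 : ∀ k < n, ∑ i ∈ Finset.range l, f i * g i k < 65536 := fun k _ => by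
    have := Finset.sum_le_card_nsmul (Finset.range l) (fun i => f i * g i k) (3 * 32) fun i _ =>
      Nat.mul_le_mul ((hf i).le.trans hN) (hg i k).le
    rw [Finset.card_range, smul_eq_mul] at this
    omega
  rw [zero_add, pk_sum, zr, dg_pk h1 ha, Nat.beq_eq]
  show _ % N = 0 ↔ _
  rw [← Nat.dvd_iff_mod_eq_zero, ← Int.natCast_dvd_natCast, eq_psi, Finset.sum_range]
  refine Int.ModEq.dvd_iff (Int.modEq_iff_dvd.2 ?_)
  push_cast
  rw [← Finset.sum_sub_distrib]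
  exact Finset.dvd_sum fun i _ => by rw [mul_comm (x i)]; exact ((hf' i).mul (hx i)).dvd

theorem eng_spec {T : Tb} {l N : ℕ} (hl : l ≤ 8) (h0 : 0 < N) (hN : N ≤ 3) {Z : List (List ℤ)} {ck : ℕ → Bool}
    (h : eng T l N Z ck = true) (χ : LL l →+ ℤ) (hZ : ∀ z ∈ Z, (N : ℤ) ∣ χ (vz l z)) :
    ∃ V, ck V = true ∧ ∀ a < T.n, zr N V a = true ↔ (N : ℤ) ∣ χ (T.vec l a) := by
  have k0 : (0 : ℤ) < N := by exact_mod_cast h0
  have k1 : ∀ y : ℤ, (y % N).toNat < N ∧ (((y % N).toNat : ℕ) : ℤ) ≡ y [ZMOD N] := fun y => by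
    have a1 := Int.emod_nonneg y k0.ne'
    have a2 := Int.emod_lt_of_pos y k0
    exact ⟨by omega, by rw [Int.toNat_of_nonneg a1]; exact Int.mod_modEq _ _⟩
  let f : ℕ → ℕ := fun i => if h : i < l then (χ (sr ⟨i, h⟩) % N).toNat else 0
  have hf : ∀ i, f i < N := fun i => by
    simp only [f]
    split_ifs
    exacts [(k1 _).1, h0]
  have hf' : ∀ i : Fin l, (f i : ℤ) ≡ χ (sr i) [ZMOD N] := fun i => by
    simp only [f, dif_pos i.2]
    exact (k1 _).2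
  have h1 := en_spec hf l 0 0 h
  rw [Bool.or_eq_true, Bool.not_eq_true', ← Bool.not_eq_true, aL_iff] at h1
  refine ⟨_, h1.resolve_left (not_not.2 fun k hk => ?_), fun a ha => ?_⟩
  · refine (zr_pk hl h0 hN χ hf hf' (fun i a => (k1 _).1.trans_le (by omega)) hk (x := vz l (Z.getD k []))
      fun i => (k1 _).2).2 (hZ _ ?_)
    rw [List.getD_eq_getElem _ _ hk]
    exact List.getElem_mem hk
  · refine zr_pk hl h0 hN χ hf hf' (fun i a => ?_) ha fun i => ?_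
    · have : T.u a i < 16 := Nat.mod_lt _ (by norm_num)
      show T.u a i + 8 * (N - 1) < 32
      omega
    · obtain ⟨N, rfl⟩ := Nat.exists_eq_succ_of_ne_zero h0.ne'
      show ((T.u a i + 8 * N : ℕ) : ℤ) ≡ (T.u a i : ℤ) - 8 [ZMOD (N + 1 : ℕ)]
      exact Int.modEq_iff_dvd.2 ⟨-8, by push_cast; ring⟩

/-- the list of the numbers below `n` with `p` -/
noncomputable def fl (p : ℕ → Bool) (n : ℕ) : List ℕ :=
  Nat.rec (motive := fun _ => List ℕ) [] (fun k ih => cond (p k) (k :: ih) ih) n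

/-- counting in a list -/
noncomputable def lC (f : ℕ → Bool) (L : List ℕ) : ℕ :=
  List.rec (motive := fun _ => ℕ) 0 (fun a _ ih => cond (f a) (Nat.succ ih) ih) L

theorem lC_fl (f p : ℕ → Bool) (n : ℕ) : lC f (fl p n) = cL (fun a => p a && f a) n := by
  induction n with
  | zero => rfl
  | succ n ih =>
    show lC f (cond (p n) (n :: fl p n) (fl p n)) = cond (p n && f n) (Nat.succ (cL _ n)) (cL _ n)
    rw [← ih]
    cases p n
    · rfl
    · rfl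

theorem mem_fl {p : ℕ → Bool} {n a : ℕ} : a ∈ fl p n ↔ a < n ∧ p a = true := by
  induction n with
  | zero => exact ⟨fun h => absurd h List.not_mem_nil, fun h => absurd h.1 (Nat.not_lt_zero _)⟩
  | succ n ih =>
    show a ∈ cond (p n) (n :: fl p n) (fl p n) ↔ _
    rw [Nat.lt_succ_iff_lt_or_eq]
    cases h : p n
    · rw [cond_false, ih]
      exact ⟨fun k => ⟨Or.inl k.1, k.2⟩, fun k => ⟨k.1.resolve_right fun e => by simp [e, h] at k, k.2⟩⟩
    · rw [cond_true, List.mem_cons, ih]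
      exact ⟨fun k => k.elim (fun e => ⟨Or.inr e, e ▸ h⟩) fun k => ⟨Or.inl k.1, k.2⟩,
        fun k => k.1.elim (fun e => Or.inr ⟨e, k.2⟩) Or.inl⟩

variable {D : ChevalleyDatum} {l : ℕ} {M : CoxeterMatrix (Fin l)} {hp : IsType D l M} {T : Tb}

theorem cp_sub (x y : LL l) {a : LL l} (ha : RT hp a) : cp hp (x - y) a = cp hp x a - cp hp y a := by
  rw [sub_eq_add_neg, cp_add hp _ _ ha, cp_neg hp _ ha, sub_eq_add_neg]

/-- **automorphisms of the root system preserve the Cartan integers** -/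
theorem cp_aut (G : Gs hp T) {u : LL l ≃+ LL l} (hu : ∀ b, RT hp (u b) ↔ RT hp b) {a b : LL l} (ha : RT hp a)
    (hb : RT hp b) : cp hp (u a) (u b) = cp hp a b := by
  have hc := (hu b).2 hb
  have k : ∀ n : ℕ, RT hp (u a + (n * (cp hp a b - cp hp (u a) (u b))) • u b) := fun n => by
    induction n with
    | zero => simpa using (hu a).2 ha
    | succ n ih =>
      rw [← map_zsmul, ← map_add, hu] at ih
      have h1 := rt_ac hp (rw' hp (u b)) ((hu _).2 (rt_ac hp (rw' hp b) ih))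
      rw [ac_rw hp hc, ac_rw hp hb, map_sub, map_add, map_zsmul, map_zsmul, cp_sub _ _ hc, cp_add hp _ _ hc,
        cp_add hp _ _ hb, cp_smul hp _ _ hc, cp_smul hp _ _ hc, cp_smul hp _ _ hb, cp_self hp hc, cp_self hp hb] at h1
      convert h1 using 1
      push_cast
      module
  have h1 := G.cp_le (k 3) hc
  have h2 := G.cp_le (k 3).neg hc
  have h3 := G.cp_le ((hu a).2 ha) hc
  have h4 := G.cp_le ((hu a).2 ha).neg hc
  rw [cp_neg hp _ hc] at h2 h4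
  rw [cp_add hp _ _ hc, cp_smul hp _ _ hc, cp_self hp hc] at h1 h2
  push_cast at h1 h2
  omega

theorem ok_aut (G : Gs hp T) {u : LL l ≃+ LL l} (hu : ∀ b, RT hp (u b) ↔ RT hp b) : Ok hp True u :=
  ⟨⟨fun a ha => (hu a).2 ha, u.injective.injOn, fun a ha => ⟨u.symm a, (hu _).1 (by rwa [u.apply_symm_apply]),
    u.apply_symm_apply a⟩⟩, fun a _ => map_neg u a, fun a b ha hb => by rw [cp_aut G hu ha hb], Or.inl trivial⟩

section Ord

variable {K : Type} [Field K] {β : LL l → K} {k : K} {u : LL l ≃+ LL l} {X : Set (LL l)}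

/-- **the product trick** -/
theorem pow_ncard (hX : X.Finite) (hu : Set.MapsTo u X X) (h0 : ∀ x ∈ X, β x ≠ 0) (hk : ∀ x, β (u x) = k * β x) :
    orderOf k ∣ X.ncard := by
  have hb := (hX.injOn_iff_bijOn_of_mapsTo hu).1 u.injective.injOn
  have h1 : ∏ x ∈ hX.toFinset, β (u x) = ∏ x ∈ hX.toFinset, β x :=
    Finset.prod_nbij u (fun a ha => hX.mem_toFinset.2 (hu (hX.mem_toFinset.1 ha))) u.injective.injOn
      (by rw [hX.coe_toFinset]; exact hb.surjOn) fun _ _ => rfl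
  simp only [hk, Finset.prod_mul_distrib, Finset.prod_const] at h1
  rw [Set.ncard_eq_toFinset_card X hX]
  exact orderOf_dvd_of_pow_eq_one
    ((mul_eq_right₀ (Finset.prod_ne_zero_iff.2 fun x hx => h0 x (hX.mem_toFinset.1 hx))).1 h1)

/-- the order is at most the number of values -/
theorem ord_le (hu : Set.MapsTo u X X) {x : LL l} (hx : x ∈ X) (h0 : β x ≠ 0) (hk : ∀ x, β (u x) = k * β x)
    {L : List K} (hL : ∀ y ∈ X, β y ∈ L) : orderOf k ≤ L.length := by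
  classical
  have h1 : ∀ i : ℕ, ∃ y ∈ X, β y = k ^ i * β x := fun i => by
    induction i with
    | zero => exact ⟨x, hx, by rw [pow_zero, one_mul]⟩
    | succ i ih =>
      obtain ⟨y, hy, e⟩ := ih
      exact ⟨u y, hu hy, by rw [hk, e, pow_succ', mul_assoc]⟩
  rw [← Finset.card_range (orderOf k)]
  refine (Finset.card_le_card_of_injOn (t := L.toFinset) (fun i => k ^ i * β x) (fun i _ => ?_)
    fun i hi j hj e => ?_).trans (List.toFinset_card_le L)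
  · obtain ⟨y, hy, e⟩ := h1 i
    exact List.mem_toFinset.2 (show k ^ i * β x ∈ L from e ▸ hL y hy)
  · exact pow_injOn_Iio_orderOf (Finset.mem_range.1 hi) (Finset.mem_range.1 hj) (mul_right_cancel₀ h0 e)

end Ord

theorem kl_sy (r : ℕ) (F : LL l →+ ℤ) : Sy hp (Kl hp r F) :=
  ⟨fun _ h => h.1, fun a h => ⟨h.1.neg, by rw [map_neg]; exact h.2.neg_right⟩⟩

theorem kl_rc (r : ℕ) (F : LL l →+ ℤ) : Rc hp (Kl hp r F) := fun a ha b hb =>
  ⟨ac_rw hp ha.1 b ▸ rt_ac hp _ hb.1, by rw [map_sub, map_zsmul]; exact hb.2.sub (ha.2.mul_left _)⟩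

theorem kl_image (r : ℕ) (F : LL l →+ ℤ) (v : M.Group) :
    ac hp v '' Kl hp r F = Kl hp r (F.comp (ac hp v⁻¹).toAddMonoidHom) := by
  ext a
  constructor
  · rintro ⟨b, hb, rfl⟩
    exact ⟨rt_ac hp v hb.1, by show _ ∣ F (ac hp v⁻¹ _); rw [ac_inv]; exact hb.2⟩
  · exact fun h => ⟨_, ⟨rt_ac hp v⁻¹ h.1, h.2⟩, ac_inv' hp v a⟩

/-- **rational closure** -/
theorem dvd_of_smul {r : ℕ} (hr' : r.Prime) (h : ∀ i, hr D l i < r) (F : LL l →+ ℤ) {x : LL l} {m : ℤ} (hm : m ≠ 0)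
    (hx : m • x ∈ AddSubgroup.closure (Kl hp r F)) : (r : ℤ) ∣ F x := by
  obtain ⟨w, c, c0, K, hw⟩ := exists_alcove hp hr'.pos F
  have k1 : ∀ y, (r : ℤ) ∣ bb c (ac hp w⁻¹ y) ↔ (r : ℤ) ∣ F y := fun y => by
    have h1 : (r : ℤ) ∣ bb c (ac hp w⁻¹ y) - F (ac hp w (ac hp w⁻¹ y)) := hw _
    rw [ac_inv'] at h1
    exact dvd_iff_dvd_of_dvd_sub h1
  obtain ⟨j, hj⟩ := (AddSubgroup.closure_le ((Cb.EE c (Cb.hz D l (decide (c0 = 0)))).comap (ac hp w⁻¹).toAddMonoidHom)).2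
    (fun a ha => Cb.mem_of_dvd hp K (rt_ac hp w⁻¹ ha.1) ((k1 a).2 ha.2)) hx
  rw [AddEquiv.coe_toAddMonoidHom, map_zsmul] at hj
  have k2 := Cb.bb_congr (y := j • Cb.hz D l (decide (c0 = 0))) hj
  rw [map_zsmul, map_zsmul, smul_eq_mul, smul_eq_mul] at k2
  rw [← k1]
  by_cases h0 : c0 = 0
  · obtain ⟨i, hi⟩ := K.ne h0
    have k3 := hj i hi
    rw [decide_eq_true h0, Cb.hz, cond_true] at k2 k3
    rw [bb_hr K, h0, Nat.cast_zero, sub_zero] at k2
    rw [Pi.smul_apply, smul_eq_mul] at k3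
    have k4 : hr D l i * bb c (ac hp w⁻¹ x) = r * ac hp w⁻¹ x i :=
      mul_left_cancel₀ hm (by linear_combination hr D l i * k2 - r * k3)
    exact ((Nat.prime_iff_prime_int.1 hr').dvd_or_dvd (Dvd.intro _ k4.symm)).resolve_left fun k5 =>
      absurd (Int.le_of_dvd (hr_pos hp i) k5) (not_le.2 (h i))
  · rw [decide_eq_false h0, Cb.hz, cond_false, map_zero, mul_zero] at k2
    rw [(mul_eq_zero.1 k2).resolve_left hm]
    exact dvd_zero _

end Cfsg.Agent.N2.Ex.Mu.Lt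

private theorem dce_09fbbb1e6238 : _root_.True := by
  try have : _root_.True := by simp only [_root_.Cfsg.Agent.N2.Ex.Mu.Lt.zr.eq_1]
  exact _root_.True.intro
end

-- part: N2/Ex/Mu/LatB
section
set_option linter.all false
open scoped Cfsg.Agent.FastGrp

/-!
# N2, multiplicities: the check of a row (helper40)

`Si` : the situation on the lattice; `Cn` : the conclusion; `rowT` : the check; `cn_of` : the theorem.
-/

set_option autoImplicit false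
set_option linter.unusedSectionVars false

namespace Cfsg.Agent.N2.Ex.Mu.Lt

open CoxeterSystem Cfsg Cfsg.Lie Cfsg.Lie.ChevalleyDatum
open Cfsg.Agent.ChevalleyStructure Cfsg.Agent.ChevalleyStructure.CoxeterGeom Cfsg.Agent.ChevalleyStructure.CoxeterGeomTypes
  Cfsg.Agent.Tits.Roots Cfsg.Agent.Nodes Cfsg.Agent.Nodes.RGDChev Cfsg.Agent.Nodes.Coroot
open Cfsg.Agent.DS.Ex Cfsg.Agent.DS.Nt Cfsg.Agent.H931.KC
open Cfsg.Agent.DS.Ex.Tor (RT)
open Cfsg.Agent.N2.Ex.Al Cfsg.Agent.N2.Ex.Al.Ck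

/-- the certificate of a row -/
structure Rt where
  kN : ℕ
  kβ : ℕ
  kc : List ℤ
  xc : List ℕ
  xb : List (ℕ × List ℕ)
  Z : List (List ℤ)
  mx : ℕ
  ex : Bool

section Chk

variable (T : Tb) (l : ℕ)

/-- a multiple of a root outside lies in the span -/
noncomputable def kl (R : Rw) (x : Rt) : Bool :=
  Nat.beq x.kN 0 || (Nat.blt x.kβ T.n && !R.m.testBit x.kβ &&
    decide ((x.kN : ℤ) • T.vec l x.kβ = ((x.kc.zip R.Δ).map fun z => z.1 • T.vec l z.2).sum))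

/-- an invariant set of roots outside -/
noncomputable def xm (m c b : ℕ) : Bool := !m.testBit b && Nat.beq (T.cnt m b) c

/-- representatives of the orbits on an invariant set -/
noncomputable def xr (m : ℕ) (e : ℕ × List ℕ) : Bool :=
  eL (xm T m e.1) T.n && aL (fun b => !xm T m e.1 b || lE (fun a => Nat.beq a b) e.2 ||
    lE (fun d => Nat.blt (T.f d b) b && xm T m e.1 (T.f d b)) (fl m.testBit T.n)) T.n

/-- the admissible orders -/
noncomputable def adm (tp : List (ℕ × ℕ)) (m : ℕ) (x : Rt) (h : ℕ) : Bool :=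
  Nat.beq (h % 2) 0 && lE (fun f => Nat.beq (f.1 % h) 0 && Nat.beq f.2 (cL m.testBit T.n)) tp &&
    lA (fun c => Nat.beq (cL (xm T m c) T.n % h) 0) x.xc && lA (fun e => Nat.ble h e.2.length) x.xb

/-- the enumeration -/
noncomputable def eno (N : ℕ) (nr : ℕ → ℕ → Bool) (R : Rw) (x : Rt) : Bool :=
  Nat.ble (cL R.m.testBit T.n) x.mx ||
    (lA (fun z => lA (fun d => decide (∑ i : Fin l, vz l z i * ((T.c i d : ℤ) - 2) = 0)) R.Δ) x.Z &&
      eng T l N x.Z fun V => or (Nat.blt (lC (zr N V) (fl R.m.testBit T.n)) x.mx)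
        (or (Nat.beq (lC (zr N V) (fl R.m.testBit T.n)) (cL R.m.testBit T.n)) (and x.ex (nr R.m V))))

/-- the bounds -/
noncomputable def gd (B : ℕ × ℕ × ℕ × ℕ) (et m : ℕ) (x : Rt) (h : ℕ) : Bool :=
  (!Nat.beq (h % 4) 0 || (!x.ex && Nat.ble x.mx B.1)) && (!Nat.beq (h % 6) 0 || (!x.ex && Nat.ble x.mx B.2.1)) &&
    (Nat.beq (4 % h) 0 || Nat.beq (6 % h) 0 || (!x.ex && Nat.ble x.mx B.2.2.1)) &&
    (Nat.ble x.mx B.2.2.2 || Nat.beq (cL m.testBit T.n) et)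

/-- the check if the order divides `g` -/
noncomputable def rk (N : ℕ) (tp : List (ℕ × ℕ)) (B : ℕ × ℕ × ℕ × ℕ) (et : ℕ) (nr : ℕ → ℕ → Bool) (R : Rw) (x : Rt) (g : ℕ) :
    Bool :=
  eno T l N nr R x && aL (fun h => !Nat.beq (g % h) 0 || !adm T tp R.m x h || gd T B et R.m x h) 31

/-- **the check of a row** -/
noncomputable def rowT (N : ℕ) (tp : List (ℕ × ℕ)) (B : ℕ × ℕ × ℕ × ℕ) (et : ℕ) (nr : ℕ → ℕ → Bool) (R : Rw) (x : Rt) : Bool :=
  kl T l R x && lA (xr T R.m) x.xb && cond (Nat.beq x.kN 0) (rk T l N tp B et nr R x 0)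
    (aL (fun r => !Nat.beq (x.kN % r) 0 || Nat.beq (r % 2) 0 || Nat.beq r 1 || Nat.beq r N ||
      rk T l N tp B et nr R x (r - 1)) (x.kN + 1))

end Chk

variable {D : ChevalleyDatum} {l : ℕ} {M : CoxeterMatrix (Fin l)} {hp : IsType D l M} {T : Tb}

variable (hp) in
/-- **the situation** -/
structure Si (r N h : ℕ) (tp : List (ℕ × ℕ)) (F G : LL l →+ ℤ) : Prop where
  odd : r ≠ 2
  ne : r ≠ N
  h1 : ∀ x, (∀ a ∈ Kl hp r F, cp hp x a = 0) → (N : ℤ) ∣ G x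
  nz : ∃ a ∈ Kl hp r F, ¬ (N : ℤ) ∣ G a
  ev : 2 ∣ h
  dv : h ∣ r - 1
  au : ∃ (u : LL l ≃+ LL l) (k : ZMod r), (∀ b, RT hp (u b) ↔ RT hp b) ∧ k ≠ 0 ∧ orderOf k = h ∧
    ∀ x, ((F (u x) : ℤ) : ZMod r) = k * (F x : ℤ)
  tp : ∃ f ∈ tp, h ∣ f.1 ∧ (Kl hp r F).ncard = f.2

/-- **the conclusion** -/
def Cn (h : ℕ) (B : ℕ × ℕ × ℕ × ℕ) (et : ℕ) (Ne : Set (LL l) → Set (LL l) → Prop) (A A' : Set (LL l)) : Prop :=
  (4 ∣ h → (A ∩ A').ncard < B.1) ∧ (6 ∣ h → (A ∩ A').ncard < B.2.1) ∧ (¬ h ∣ 4 → ¬ h ∣ 6 → (A ∩ A').ncard < B.2.2.1) ∧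
    ((A ∩ A').ncard < B.2.2.2 ∨ A.ncard = et ∨ Ne A A')

theorem ncard_ac (v : M.Group) (A : Set (LL l)) : (ac hp v '' A).ncard = A.ncard :=
  Set.ncard_image_of_injective _ (ac hp v).injective

theorem rt_ac_iff (v : M.Group) (a : LL l) : RT hp (ac hp v a) ↔ RT hp a :=
  ⟨fun h => ac_inv hp v a ▸ rt_ac hp v⁻¹ h, rt_ac hp v⟩

theorem Si.move {r N h : ℕ} {tp : List (ℕ × ℕ)} {F G : LL l →+ ℤ} (S : Si hp r N h tp F G) (v : M.Group) :
    Si hp r N h tp (F.comp (ac hp v⁻¹).toAddMonoidHom) (G.comp (ac hp v⁻¹).toAddMonoidHom) := by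
  obtain ⟨a, a1, a2⟩ := S.nz
  obtain ⟨u, k, b1, b2, b3, b4⟩ := S.au
  refine ⟨S.odd, S.ne, fun x hx => S.h1 (ac hp v⁻¹ x) fun a ha => ?_, ⟨ac hp v a, kl_image r F v ▸ ⟨a, a1, rfl⟩, ?_⟩, S.ev, S.dv,
    ⟨Ck.cj hp v u, k, fun b => by rw [cj_apply, rt_ac_iff, b1, rt_ac_iff], b2, b3, fun x => ?_⟩, ?_⟩
  · rw [← cp_ac hp v _ ha.1, ac_inv']
    exact hx _ (kl_image r F v ▸ ⟨a, ha, rfl⟩)
  · show ¬ _ ∣ G (ac hp v⁻¹ _)
    rwa [ac_inv]
  · show ((F (ac hp v⁻¹ (Ck.cj hp v u x)) : ℤ) : ZMod r) = _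
    rw [cj_apply, ac_inv]
    exact b4 _
  · rw [← kl_image, ncard_ac]
    exact S.tp

theorem cp_eq (x : LL l) {a : LL l} (ha : RT hp a) : cp hp x a = ∑ i, x i * cp hp (sr i) a :=
  eq_psi (AddMonoidHom.mk' (fun x => cp hp x a) fun x y => cp_add hp x y ha) x

theorem perp_sy (z : LL l) : Sy hp {a | RT hp a ∧ cp hp z a = 0} :=
  ⟨fun _ h => h.1, fun _ h => ⟨h.1.neg, by rw [cp_neg' hp _ h.1, h.2, neg_zero]⟩⟩

theorem perp_rc (z : LL l) : Rc hp {a | RT hp a ∧ cp hp z a = 0} := fun a ha b hb => by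
  rw [← ac_rw hp ha.1]
  refine ⟨rt_ac hp _ hb.1, ?_⟩
  rw [← hb.2, ← cp_ac hp (rw' hp a) z hb.1, ac_rw hp ha.1 z, ha.2, zero_smul, sub_zero]

theorem perp_of (G : Gt hp T) {m : ℕ} {Δ : List ℕ} (hR : T.rch m Δ = true) {z : LL l}
    (h : ∀ d ∈ Δ, ∑ i : Fin l, z i * ((T.c i d : ℤ) - 2) = 0) : ∀ a ∈ St T l m, cp hp z a = 0 := fun a ha =>
  (G.rch hR (perp_sy z) (perp_rc z) 1 (fun d hd => by
    have h1 := (G.rch_lt hR d hd).1
    rw [ac_one]
    refine ⟨G.root d h1, ?_⟩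
    rw [cp_eq _ (G.root d h1), ← h d hd]
    exact Finset.sum_congr rfl fun i _ => by rw [← G.sim, G.cpe _ (G.lt_n i) _ h1]) ⟨a, ha, ac_one hp a⟩).2

theorem ncard_inter (G : Gt hp T) (m : ℕ) {A : Set (LL l)} {p : ℕ → Bool} (h : ∀ a < T.n, p a = true ↔ T.vec l a ∈ A) :
    (St T l m ∩ A).ncard = lC p (fl m.testBit T.n) := by
  rw [lC_fl, ← G.ncard_eq (P := fun a => a ∈ St T l m ∩ A) fun r hr => by
    rw [Set.mem_inter_iff, G.mem_St hr, Bool.and_eq_true, h r hr]]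
  exact congrArg Set.ncard (Set.ext fun a => ⟨fun h => ⟨G.St_root a h.1, h⟩, fun h => h.2⟩)

variable {r N h : ℕ} [Fact r.Prime] {tp : List (ℕ × ℕ)} {F G' : LL l →+ ℤ}

theorem zm_iff (y : ℤ) : (y : ZMod r) = 0 ↔ (r : ℤ) ∣ y := ZMod.intCast_zmod_eq_zero_iff_dvd y r

theorem kl_spec (G : Gt hp T) {R : Rw} (hR : T.rch R.m R.Δ = true) {x : Rt} (hx : kl T l R x = true)
    (e : Kl hp r F = St T l R.m) : r ∣ x.kN := by
  simp only [kl, Bool.or_eq_true, Bool.and_eq_true, Nat.beq_eq, Nat.blt_eq, Bool.not_eq_true', ← Bool.not_eq_true,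
    decide_eq_true_eq] at hx
  rcases hx with hx | ⟨⟨a1, a2⟩, a3⟩
  · exact hx ▸ dvd_zero r
  have k : (r : ℤ) ∣ x.kN * F (T.vec l x.kβ) := by
    rw [← smul_eq_mul, ← map_zsmul, a3, map_list_sum, List.map_map]
    refine List.dvd_sum fun y hy => ?_
    obtain ⟨z, hz, rfl⟩ := List.mem_map.1 hy
    have h1 := G.rch_lt hR _ (List.of_mem_zip hz).2
    have h2 : T.vec l z.2 ∈ Kl hp r F := e ▸ (G.mem_St h1.1).2 h1.2
    simp only [Function.comp, map_zsmul, smul_eq_mul]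
    exact h2.2.mul_left _
  exact Int.natCast_dvd_natCast.1 (((Nat.prime_iff_prime_int.1 Fact.out).dvd_or_dvd k).resolve_right fun h =>
    a2 ((G.mem_St a1).1 (e ▸ ⟨G.root _ a1, h⟩)))

theorem adm_spec (G : Gs hp T) (S : Si hp r N h tp F G') {m : ℕ} (e : Kl hp r F = St T l m) {x : Rt}
    (hx : lA (xr T m) x.xb = true) : adm T tp m x h = true := by
  obtain ⟨u, k, b1, b2, rfl, b4⟩ := S.au
  obtain ⟨f, c1, c2, c3⟩ := S.tp
  have k0 : ∀ y, RT hp y → (y ∈ St T l m ↔ ((F y : ℤ) : ZMod r) = 0) := fun y hy => by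
    rw [← e, zm_iff]
    exact and_iff_right hy
  have k1 : ∀ y, RT hp y → (u y ∈ St T l m ↔ y ∈ St T l m) := fun y hy => by
    rw [k0 _ hy, k0 _ ((b1 y).2 hy), b4, mul_eq_zero, or_iff_right b2]
  have k2 : ∀ c, Set.MapsTo u {b | RT hp b ∧ b ∉ St T l m ∧ ct hp (St T l m) b = c}
      {b | RT hp b ∧ b ∉ St T l m ∧ ct hp (St T l m) b = c} := fun c b hb =>
    ⟨(b1 b).2 hb.1, fun h => hb.2.1 ((k1 b hb.1).1 h), (ct_map (ok_aut G b1) G.St_root (G.fin_St m)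
      (fun y hy => (k1 y (G.St_root y hy)).2 hy) hb.1).trans hb.2.2⟩
  have k3 : ∀ c, ∀ b < T.n, (T.vec l b ∉ St T l m ∧ ct hp (St T l m) (T.vec l b) = c) ↔ xm T m c b = true := fun c b hb => by
    rw [xm, G.mem_St hb, G.cnt m hb, Bool.and_eq_true, Nat.beq_eq, Bool.not_eq_true', Bool.not_eq_true]
  simp only [adm, Bool.and_eq_true, lE_iff, lA_iff, Nat.beq_eq, Nat.ble_eq, ← Nat.dvd_iff_mod_eq_zero]
  refine ⟨⟨⟨S.ev, f, c1, c2, by rw [← c3, e, G.ncard_St]⟩, fun c _ => ?_⟩, fun y hy => ?_⟩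
  · rw [← G.ncard_eq (P := fun b => b ∉ St T l m ∧ ct hp (St T l m) b = c) (k3 c)]
    exact pow_ncard (β := fun y => ((F y : ℤ) : ZMod r)) (G.fin_rt.subset fun _ h => h.1) (k2 c)
      (fun y hy h => hy.2.1 ((k0 y hy.1).2 h)) b4
  · have h1 := lA_iff.1 hx y hy
    simp only [xr, Bool.and_eq_true, Bool.or_eq_true, eL_iff, aL_iff, lE_iff, Nat.beq_eq, Nat.blt_eq, Bool.not_eq_true',
      ← Bool.not_eq_true] at h1
    obtain ⟨⟨b, hb, d1⟩, d2⟩ := h1
    have d3 := (k3 _ b hb).2 d1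
    rw [← List.length_map fun a => ((F (T.vec l a) : ℤ) : ZMod r)]
    refine ord_le (β := fun y => ((F y : ℤ) : ZMod r)) (k2 y.1) ⟨G.root b hb, d3⟩
      (fun h => d3.1 ((k0 _ (G.root b hb)).2 h)) b4 fun z hz => ?_
    obtain ⟨a, ha, rfl⟩ := G.surj z hz.1
    have d4 := (k3 _ a ha).1 hz.2
    clear hz
    induction a using Nat.strong_induction_on with
    | _ a ih =>
      rcases d2 a ha with (d5 | ⟨_, d5, rfl⟩) | ⟨d, d5, d6, d7⟩
      · exact absurd d4 d5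
      · exact List.mem_map_of_mem d5
      · obtain ⟨d8, d9⟩ := mem_fl.1 d5
        have d10 := ih _ d6 (d6.trans ha) d7
        rwa [G.fe d d8 a ha, ac_rw hp (G.root d d8), map_sub, map_zsmul, smul_eq_mul, Int.cast_sub, Int.cast_mul,
          (k0 _ (G.root d d8)).1 ((G.mem_St d8).2 d9), mul_zero, sub_zero] at d10

theorem eno_spec (G : Gt hp T) (hl : l ≤ 8) (h0 : 0 < N) (hN : N ≤ 3) (S : Si hp r N h tp F G') {R : Rw}
    (hR : T.rch R.m R.Δ = true) (e : Kl hp r F = St T l R.m) {nr : ℕ → ℕ → Bool} {P : Prop}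
    (hP : ∀ V, (∀ a < T.n, zr N V a = true ↔ T.vec l a ∈ Kl hp N G') → nr R.m V = true → P) {x : Rt}
    (hx : eno T l N nr R x = true) : (St T l R.m ∩ Kl hp N G').ncard < x.mx ∨ (x.ex = true ∧ P) := by
  have k0 : (St T l R.m ∩ Kl hp N G').ncard < cL R.m.testBit T.n := by
    obtain ⟨a, a1, a2⟩ := S.nz
    rw [← G.ncard_St]
    exact Set.ncard_lt_ncard ⟨Set.inter_subset_left, fun k => a2 (k (e ▸ a1)).2.2⟩ (G.fin_St _)
  simp only [eno, Bool.and_eq_true, Bool.or_eq_true, lA_iff, Nat.ble_eq, decide_eq_true_eq] at hx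
  rcases hx with hx | ⟨a1, a2⟩
  · exact Or.inl (k0.trans_le hx)
  obtain ⟨V, b1, b2⟩ := eng_spec hl h0 hN a2 G' fun z hz => S.h1 _ (e ▸ perp_of G hR (a1 z hz))
  have b3 : ∀ a < T.n, zr N V a = true ↔ T.vec l a ∈ Kl hp N G' := fun a ha =>
    (b2 a ha).trans (and_iff_right (G.root a ha)).symm
  simp only [Bool.and_eq_true, Bool.or_eq_true, Nat.blt_eq, Nat.beq_eq, ← ncard_inter G R.m b3] at b1
  exact b1.imp_right fun b1 => (b1.resolve_left k0.ne).imp_right (hP V b3)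

theorem row_spec (G : Gs hp T) (hl : l ≤ 8) (h0 : 0 < N) (hN : N ≤ 3) (htp : ∀ f ∈ tp, f.1 ≠ 0 ∧ f.1 ≤ 30)
    (S : Si hp r N h tp F G') {R : Rw} (hR : T.rch R.m R.Δ = true) (e : Kl hp r F = St T l R.m) {nr : ℕ → ℕ → Bool}
    {Ne : Set (LL l) → Set (LL l) → Prop}
    (hP : ∀ V, (∀ a < T.n, zr N V a = true ↔ T.vec l a ∈ Kl hp N G') → nr R.m V = true → Ne (St T l R.m) (Kl hp N G'))
    {B : ℕ × ℕ × ℕ × ℕ} {et : ℕ} {x : Rt} (hx : rowT T l N tp B et nr R x = true) :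
    Cn h B et Ne (St T l R.m) (Kl hp N G') := by
  have hr : r.Prime := Fact.out
  simp only [rowT, Bool.and_eq_true] at hx
  obtain ⟨⟨a1, a2⟩, a3⟩ := hx
  have k1 := kl_spec G.toGt hR a1 e
  obtain ⟨g, b1, b2⟩ : ∃ g, h ∣ g ∧ rk T l N tp B et nr R x g = true := by
    cases hk : Nat.beq x.kN 0 <;> rw [hk] at a3
    · rw [cond_false] at a3
      have h1 := aL_iff.1 a3 r (Nat.lt_succ_of_le (Nat.le_of_dvd (Nat.pos_of_ne_zero (Nat.ne_of_beq_eq_false hk)) k1))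
      simp only [Bool.or_eq_true, Nat.beq_eq, Bool.not_eq_true', ← Bool.not_eq_true, ← Nat.dvd_iff_mod_eq_zero] at h1
      refine ⟨_, S.dv, h1.resolve_left ?_⟩
      rintro (((h1 | h1) | h1) | h1)
      exacts [h1 k1, S.odd ((Nat.prime_dvd_prime_iff_eq Nat.prime_two hr).1 h1).symm, hr.ne_one h1, S.ne h1]
    · exact ⟨0, dvd_zero _, a3⟩
  simp only [rk, Bool.and_eq_true, Bool.or_eq_true, aL_iff, Nat.beq_eq, Bool.not_eq_true', ← Bool.not_eq_true,
    ← Nat.dvd_iff_mod_eq_zero] at b2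
  have k2 : h < 31 := by
    obtain ⟨f, c1, c2, -⟩ := S.tp
    exact Nat.lt_succ_of_le ((Nat.le_of_dvd (Nat.pos_of_ne_zero (htp f c1).1) c2).trans (htp f c1).2)
  have k3 := (b2.2 h k2).resolve_left fun k => k.elim (fun k => k b1) fun k => k (adm_spec G S e a2)
  have k4 := eno_spec G.toGt hl h0 hN S hR e hP b2.1
  simp only [gd, Bool.and_eq_true, Bool.or_eq_true, Nat.beq_eq, Nat.ble_eq, Bool.not_eq_true', ← Bool.not_eq_true,
    ← Nat.dvd_iff_mod_eq_zero, ← G.ncard_St] at k3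
  obtain ⟨⟨⟨c1, c2⟩, c3⟩, c4⟩ := k3
  have k5 : ∀ b, ¬ x.ex = true ∧ x.mx ≤ b → (St T l R.m ∩ Kl hp N G').ncard < b := fun b hb =>
    (k4.resolve_right fun k => hb.1 k.1).trans_le hb.2
  refine ⟨fun k => k5 _ (c1.resolve_left (not_not.2 k)), fun k => k5 _ (c2.resolve_left (not_not.2 k)),
    fun k k' => k5 _ (c3.resolve_left (not_or.2 ⟨k, k'⟩)), ?_⟩
  rcases k4 with k4 | k4
  · exact c4.imp k4.trans_le Or.inl
  · exact Or.inr (Or.inr k4.2)

/-- **the theorem** -/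
theorem cn_of (G : Gs hp T) (hl : l ≤ 8) (h0 : 0 < N) (hN : N ≤ 3) (htp : ∀ f ∈ tp, f.1 ≠ 0 ∧ f.1 ≤ 30) {L : List Rw}
    (hL : ∀ j < L.length, T.row L j = true) (hL0 : 0 < L.length) (hL1 : (rw0 L 0).m = 0) {nr : ℕ → ℕ → Bool}
    {Ne : Set (LL l) → Set (LL l) → Prop} (hNe : ∀ v A A', Ne (ac hp v '' A) (ac hp v '' A') → Ne A A')
    (hP : ∀ (F G' : LL l →+ ℤ) (m V : ℕ), Kl hp r F = St T l m → (∀ a < T.n, zr N V a = true ↔ T.vec l a ∈ Kl hp N G') →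
      nr m V = true → Ne (Kl hp r F) (Kl hp N G'))
    {B : ℕ × ℕ × ℕ × ℕ} {et : ℕ} {X : ℕ → Rt} (hX : ∀ j < L.length, rowT T l N tp B et nr (rw0 L j) (X j) = true)
    (S : Si hp r N h tp F G') : Cn h B et Ne (Kl hp r F) (Kl hp N G') := by
  obtain ⟨j, hj, v, e⟩ := G.cls_of hL hL0 hL1 (kl_sy r F) (kl_rc r F)
  have h1 := hL j hj
  rw [Tb.row, Bool.and_eq_true] at h1
  have e' := (kl_image r F v).symm.trans e
  have h2 := row_spec G hl h0 hN htp (S.move v) h1.1 e' (fun V a1 a2 => e' ▸ hP _ _ _ V e' a1 a2) (hX j hj)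
  rw [← e, ← kl_image, Cn, ← Set.image_inter (ac hp v).injective, ncard_ac, ncard_ac] at h2
  exact ⟨h2.1, h2.2.1, h2.2.2.1, h2.2.2.2.imp_right (Or.imp_right (hNe v _ _))⟩

end Cfsg.Agent.N2.Ex.Mu.Lt

private theorem dce_9cf18599955b : _root_.True := by
  try have : _root_.True := by simp only [_root_.Cfsg.Agent.N2.Ex.Mu.Lt.eno.eq_1]
  try have : _root_.True := by simp only [_root_.Cfsg.Agent.N2.Ex.Mu.Lt.gd.eq_1]
  try have : _root_.True := by simp only [_root_.Cfsg.Agent.N2.Ex.Mu.Lt.rowT.eq_1]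
  try have : _root_.True := by simp only [_root_.Cfsg.Agent.N2.Ex.Mu.Lt.rk.eq_1]
  try have : _root_.True := by simp only [_root_.Cfsg.Agent.N2.Ex.Mu.Lt.xm.eq_1]
  try have : _root_.True := by simp only [_root_.Cfsg.Agent.N2.Ex.Mu.Lt.xr.eq_1]
  try have : _root_.True := by simp only [_root_.Cfsg.Agent.N2.Ex.Al.Kl.congr_simp]
  try have : _root_.True := by simp only [_root_.Cfsg.Agent.N2.Ex.Mu.Lt.kl.eq_1]
  try have : _root_.True := by simp only [_root_.Cfsg.Agent.N2.Ex.Mu.Lt.adm.eq_1]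
  try have : _root_.True := by simp only [_root_.Cfsg.Agent.N2.Ex.Mu.Lt.Cn.eq_1]
  exact _root_.True.intro
end

-- part: N2/Ex/Mu/LatC
section
set_option linter.all false
open scoped Cfsg.Agent.FastGrp

/-!
# N2, multiplicities: the exceptional pairs (helper40)

`th A` : the roots of `A` in the big components; `Ne0` : the exceptional pairs, `nr` : their check.
-/

set_option autoImplicit false
set_option linter.unusedSectionVars false

namespace Cfsg.Agent.N2.Ex.Mu.Lt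

open CoxeterSystem Cfsg Cfsg.Lie Cfsg.Lie.ChevalleyDatum
open Cfsg.Agent.ChevalleyStructure Cfsg.Agent.ChevalleyStructure.CoxeterGeom Cfsg.Agent.ChevalleyStructure.CoxeterGeomTypes
  Cfsg.Agent.Tits.Roots Cfsg.Agent.Nodes Cfsg.Agent.Nodes.RGDChev Cfsg.Agent.Nodes.Coroot
open Cfsg.Agent.DS.Ex Cfsg.Agent.DS.Nt Cfsg.Agent.H931.KC
open Cfsg.Agent.DS.Ex.Tor (RT)
open Cfsg.Agent.N2.Ex.Al Cfsg.Agent.N2.Ex.Al.Ck

/-- the members of the big components -/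
def th {l : ℕ} (A : Set (LL l)) : Set (LL l) := {a | a ∈ A ∧ 6 ≤ {b | b ∈ A ∧ a - b ∈ A}.ncard}

/-- the sizes -/
noncomputable def sz {l : ℕ} (A A' : Set (LL l)) : ℕ × ℕ × ℕ × ℕ := (A.ncard, (th A).ncard, A'.ncard, (th A').ncard)

/-- **the exceptional pairs** -/
def Ne0 {l : ℕ} (L L' : List (ℕ × ℕ × ℕ × ℕ)) (A A' : Set (LL l)) : Prop :=
  (th A ⊆ A' ∧ sz A A' ∈ L) ∨ (th A' ⊆ A ∧ sz A A' ∈ L')

section Chk

variable (T : Tb)

/-- simply laced -/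
noncomputable def sl : Bool := aL (fun r => aL (fun s => or (not (Nat.beq (T.c r s) 4)) (Nat.beq r s)) T.n) T.n

/-- membership in `th` -/
noncomputable def tb (p : ℕ → Bool) (a : ℕ) : Bool := Nat.ble 6 (lC (fun b => Nat.beq (T.c a b) 3) (fl p T.n))

/-- the sizes are listed -/
noncomputable def sb (L : List (ℕ × ℕ × ℕ × ℕ)) (p q : ℕ → Bool) : Bool :=
  lE (fun e => Nat.beq (cL p T.n) e.1 && Nat.beq (cL q T.n) e.2.2.1 && Nat.beq (lC (tb T p) (fl p T.n)) e.2.1 &&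
    Nat.beq (lC (tb T q) (fl q T.n)) e.2.2.2) L

/-- the check of `Ne0` -/
noncomputable def nr (N : ℕ) (L L' : List (ℕ × ℕ × ℕ × ℕ)) (m V : ℕ) : Bool :=
  (sb T L m.testBit (zr N V) && lA (fun a => zr N V a || !tb T m.testBit a) (fl m.testBit T.n)) ||
    (sb T L' m.testBit (zr N V) && lA (fun a => m.testBit a || !tb T (zr N V) a) (fl (zr N V) T.n))

end Chk

variable {D : ChevalleyDatum} {l : ℕ} {M : CoxeterMatrix (Fin l)} {hp : IsType D l M} {T : Tb}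

theorem th_image (u : LL l ≃+ LL l) (A : Set (LL l)) : th (u '' A) = u '' th A := by
  have k : ∀ a, {b | b ∈ u '' A ∧ u a - b ∈ u '' A}.ncard = {b | b ∈ A ∧ a - b ∈ A}.ncard := fun a => by
    rw [← Set.ncard_image_of_injective {b | b ∈ A ∧ a - b ∈ A} u.injective]
    refine congrArg Set.ncard (Set.ext fun x => ?_)
    obtain ⟨y, rfl⟩ := u.surjective x
    rw [u.injective.mem_set_image, Set.mem_setOf_eq, ← map_sub, u.injective.mem_set_image, u.injective.mem_set_image]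
    rfl
  ext x
  obtain ⟨y, rfl⟩ := u.surjective x
  rw [u.injective.mem_set_image, th, th, Set.mem_setOf_eq, Set.mem_setOf_eq, k, u.injective.mem_set_image]

theorem ne0_of_image {L L' : List (ℕ × ℕ × ℕ × ℕ)} (v : M.Group) (A A' : Set (LL l))
    (h : Ne0 L L' (ac hp v '' A) (ac hp v '' A')) : Ne0 L L' A A' := by
  simpa only [Ne0, sz, th_image, ncard_ac, Set.image_subset_image_iff (ac hp v).injective] using h

theorem rt_ne {a : LL l} (ha : RT hp a) : a ≠ 0 := fun h => by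
  have h1 := cp_smul hp 0 a ha
  rw [zero_smul, ← h, cp_self hp ha] at h1
  omega

theorem sub_iff (G : Gs hp T) (h : sl T = true) {a b : ℕ} (ha : a < T.n) (hb : b < T.n) :
    RT hp (T.vec l a - T.vec l b) ↔ T.c a b = 3 := by
  simp only [sl, aL_iff, Bool.or_eq_true, Nat.beq_eq, Bool.not_eq_true', ← Bool.not_eq_true] at h
  have k : ∀ x, RT hp x → x ≠ T.vec l b → cp hp x (T.vec l b) ≤ 1 := fun x hx hne => by
    have h1 := G.cp_le hx (G.root b hb)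
    obtain ⟨s, hs, rfl⟩ := G.surj x hx
    have h2 := (h s hs b hb).resolve_right fun e => hne (e ▸ rfl)
    rw [G.cpe s hs b hb] at h1 ⊢
    omega
  have h1 := G.cpe a ha b hb
  constructor
  · intro h2
    have h3 := k _ (G.root a ha) fun e => rt_ne h2 (sub_eq_zero.2 e)
    have h4 := k _ h2.neg fun e => rt_ne (G.root a ha) (by rw [neg_sub, sub_eq_self] at e; exact e)
    rw [cp_neg hp _ (G.root b hb), cp_sub _ _ (G.root b hb), cp_self hp (G.root b hb)] at h4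
    omega
  · intro h2
    have h3 := rt_ac hp (rw' hp (T.vec l b)) (G.root a ha)
    rwa [ac_rw hp (G.root b hb), h1, h2, show ((3 : ℕ) : ℤ) - 2 = 1 from rfl, one_smul] at h3

section Th

variable (G : Gs hp T) (h : sl T = true) {r : ℕ} {F : LL l →+ ℤ} {p : ℕ → Bool}
  (hA : ∀ a < T.n, p a = true ↔ T.vec l a ∈ Kl hp r F)
include G hA

theorem ncard_kl : (Kl hp r F).ncard = cL p T.n :=
  G.ncard_eq fun a ha => (and_iff_right (G.root a ha)).symm.trans (hA a ha).symm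

include h

theorem th_iff {a : ℕ} (ha : a < T.n) : T.vec l a ∈ th (Kl hp r F) ↔ (p a && tb T p a) = true := by
  rw [th, Set.mem_setOf_eq, Bool.and_eq_true, hA a ha]
  refine and_congr_right fun h1 => ?_
  rw [tb, Nat.ble_eq, lC_fl, ← G.ncard_eq (P := fun b => b ∈ Kl hp r F ∧ T.vec l a - b ∈ Kl hp r F) fun b hb => by
    rw [Bool.and_eq_true, hA b hb, Nat.beq_eq, ← sub_iff G h ha hb]
    exact and_congr_right fun h2 => and_iff_left (by rw [map_sub]; exact h1.2.sub h2.2)]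
  exact iff_of_eq (congrArg (6 ≤ Set.ncard ·) (Set.ext fun b => ⟨fun k => ⟨k.1.1, k⟩, fun k => k.2⟩))

theorem ncard_th : (th (Kl hp r F)).ncard = lC (tb T p) (fl p T.n) := by
  rw [lC_fl, ← G.ncard_eq (P := fun a => a ∈ th (Kl hp r F)) fun a ha => th_iff G h hA ha]
  exact congrArg Set.ncard (Set.ext fun b => ⟨fun k => ⟨k.1.1, k⟩, fun k => k.2⟩)

theorem th_sub {A : Set (LL l)} {q : ℕ → Bool} (hq : ∀ a < T.n, q a = true ↔ T.vec l a ∈ A)
    (k : lA (fun a => q a || !tb T p a) (fl p T.n) = true) : th (Kl hp r F) ⊆ A := fun x hx => by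
  obtain ⟨a, ha, rfl⟩ := G.surj x hx.1.1
  rw [th_iff G h hA ha, Bool.and_eq_true] at hx
  have h1 := lA_iff.1 k a (mem_fl.2 ⟨ha, hx.1⟩)
  rw [hx.2, Bool.not_true, Bool.or_false] at h1
  exact (hq a ha).1 h1

theorem sb_spec {r' : ℕ} {F' : LL l →+ ℤ} {q : ℕ → Bool} (hq : ∀ a < T.n, q a = true ↔ T.vec l a ∈ Kl hp r' F')
    {L : List (ℕ × ℕ × ℕ × ℕ)} (k : sb T L p q = true) : sz (Kl hp r F) (Kl hp r' F') ∈ L := by
  simp only [sb, lE_iff, Bool.and_eq_true, Nat.beq_eq] at k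
  obtain ⟨e, he, ⟨⟨a1, a2⟩, a3⟩, a4⟩ := k
  rw [sz, ncard_kl G hA, ncard_kl G hq, ncard_th G h hA, ncard_th G h hq, a1, a2, a3, a4]
  exact he

end Th

theorem nr_spec (G : Gs hp T) (h : sl T = true) {r N : ℕ} {L L' : List (ℕ × ℕ × ℕ × ℕ)} (F G' : LL l →+ ℤ) (m V : ℕ)
    (e : Kl hp r F = St T l m) (hq : ∀ a < T.n, zr N V a = true ↔ T.vec l a ∈ Kl hp N G') (k : nr T N L L' m V = true) :
    Ne0 L L' (Kl hp r F) (Kl hp N G') := by
  have hA : ∀ a < T.n, m.testBit a = true ↔ T.vec l a ∈ Kl hp r F := fun a ha => e ▸ (G.mem_St ha).symm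
  rw [nr, Bool.or_eq_true, Bool.and_eq_true, Bool.and_eq_true] at k
  exact k.imp (fun k => ⟨th_sub G h hA hq k.2, sb_spec G h hA hq k.1⟩) fun k => ⟨th_sub G h hq hA k.2, sb_spec G h hA hq k.1⟩

end Cfsg.Agent.N2.Ex.Mu.Lt

private theorem dce_c1dc1f7f146f : _root_.True := by
  try have : _root_.True := by simp only [_root_.Cfsg.Agent.N2.Ex.Mu.Lt.sz.eq_1]
  try have : _root_.True := by simp only [_root_.Cfsg.Agent.N2.Ex.Mu.Lt.sl.eq_1]
  try have : _root_.True := by simp only [_root_.Cfsg.Agent.N2.Ex.Mu.Lt.sb.eq_1]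
  try have : _root_.True := by simp only [_root_.Cfsg.Agent.N2.Ex.Mu.Lt.Ne0.eq_1]
  try have : _root_.True := by simp only [_root_.Cfsg.Agent.N2.Ex.Mu.Lt.tb.eq_1]
  try have : _root_.True := by simp only [_root_.Cfsg.Agent.N2.Ex.Mu.Lt.nr.eq_1]
  try have : _root_.True := by simp only [_root_.Cfsg.Agent.N2.Ex.Mu.Lt.th.eq_1]
  exact _root_.True.intro
end

-- part: N2/Ex/Mu/LatF4
section
set_option linter.all false

/-!
# N2, multiplicities: the rows of `F4` (helper40, generated data)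
-/

set_option autoImplicit false
set_option maxRecDepth 100000

namespace Cfsg.Agent.N2.Ex.Mu.Lt

open Cfsg Cfsg.Lie Cfsg.Agent.Nodes.RGDChev Cfsg.Agent.N2.Ex.Al Cfsg.Agent.N2.Ex.Al.Ck Cfsg.Agent.N2.Ex.Cb

/-- the certificates -/
def xF4_2 : List Rt := [⟨0, 0, [], [], [], [], 0, false⟩,
  ⟨0, 0, [], [], [], [], 2, false⟩,
  ⟨0, 0, [], [], [], [], 2, false⟩,
  ⟨0, 0, [], [], [], [], 4, false⟩,
  ⟨1, 8, [-1, 1], [], [], [], 4, false⟩,
  ⟨2, 1, [1, -1], [], [], [], 4, false⟩,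
  ⟨0, 0, [], [], [], [[-2, -4, -3, 0], [0, 0, 0, 1]], 3, false⟩,
  ⟨0, 0, [], [], [], [[1, 0, 0, 0], [0, 3, 2, 1]], 3, false⟩,
  ⟨1, 8, [-1, 0, 1], [], [], [], 6, false⟩,
  ⟨2, 12, [-2, -1, 1], [], [], [], 6, false⟩,
  ⟨1, 3, [0, -1, 1], [], [], [], 6, false⟩,
  ⟨2, 0, [0, -1, 1], [], [], [], 6, false⟩,
  ⟨0, 0, [], [], [], [[0, 0, 1, 0], [1, 2, 0, 1]], 5, false⟩,
  ⟨0, 0, [], [], [], [[4, 8, 6, 3]], 5, false⟩,
  ⟨0, 0, [], [], [], [[3, 6, 4, 2]], 5, false⟩,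
  ⟨1, 8, [-1, 0, 1, 0], [], [], [], 8, false⟩,
  ⟨1, 2, [0, 0, -1, 1], [], [], [], 8, false⟩,
  ⟨2, 0, [0, -1, 1, 0], [], [], [], 8, false⟩,
  ⟨2, 1, [0, -1, 1], [], [], [], 10, false⟩,
  ⟨1, 12, [-1, 0, 1], [], [], [], 10, false⟩,
  ⟨1, 2, [0, -1, 1], [], [], [], 12, false⟩,
  ⟨2, 1, [-1, 0, 1], [], [], [], 12, false⟩,
  ⟨3, 2, [-2, -4, -1, 1], [], [], [], 9, false⟩,
  ⟨2, 1, [0, -1, 1, 0], [], [], [], 12, false⟩,
  ⟨1, 3, [0, 0, -1, 1], [], [], [], 12, false⟩,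
  ⟨1, 15, [-1, 0, 0, 1], [], [], [], 14, false⟩,
  ⟨2, 8, [-2, 0, -1, 1], [], [], [], 14, false⟩,
  ⟨1, 3, [-1, 0, -1, 1], [], [], [], 16, false⟩,
  ⟨0, 0, [], [], [], [[-2, -4, -3, -2]], 11, false⟩,
  ⟨0, 0, [], [], [], [[1, 2, 1, 0]], 7, false⟩,
  ⟨2, 3, [-2, -4, -3, 1], [], [], [], 20, false⟩,
  ⟨1, 8, [-1, 0, 0, 1], [], [], [], 20, false⟩,
  ⟨1, 2, [0, -1, 1, 0], [], [], [], 24, false⟩,
  ⟨2, 0, [0, 0, -1, 1], [], [], [], 24, false⟩,
  ⟨1, 3, [0, -1, -1, 1], [], [], [], 32, false⟩,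
  ⟨2, 1, [0, -1, 0, 1], [], [], [], 32, false⟩,
  ⟨0, 0, [], [], [], [], 48, false⟩]

/-- the check -/
noncomputable def cF4_2 (j : ℕ) : Bool :=
  rowT tbF4 4 2 tpF4 (5, 3, 0, 11) 1 (fun _ _ => false) (rw0 rwF4 j) (xF4_2.getD j ⟨0, 0, [], [], [], [], 0, false⟩)

theorem cF4_2_0 : aL (fun j => cF4_2 (j + 0)) 37 = true := by decide +kernel

theorem allF4_2 : ∀ j < rwF4.length, cF4_2 j = true := fun j (hj : j < 37) => by
  simpa only [Nat.sub_add_cancel (show 0 ≤ j by omega)] using aL_iff.1 cF4_2_0 (j - 0) (by omega)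

/-- the certificates -/
def xF4_3 : List Rt := [⟨0, 0, [], [], [], [], 0, false⟩,
  ⟨0, 0, [], [], [], [], 2, false⟩,
  ⟨0, 0, [], [], [], [], 2, false⟩,
  ⟨0, 0, [], [], [], [], 4, false⟩,
  ⟨1, 8, [-1, 1], [], [], [], 4, false⟩,
  ⟨2, 1, [1, -1], [], [], [], 4, false⟩,
  ⟨0, 0, [], [], [], [[-2, -4, -3, 0], [0, 0, 0, 1]], 1, false⟩,
  ⟨0, 0, [], [], [], [[1, 0, 0, 0], [0, 3, 2, 1]], 1, false⟩,
  ⟨1, 8, [-1, 0, 1], [], [], [], 6, false⟩,
  ⟨2, 12, [-2, -1, 1], [], [], [], 6, false⟩,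
  ⟨1, 3, [0, -1, 1], [], [], [], 6, false⟩,
  ⟨2, 0, [0, -1, 1], [], [], [], 6, false⟩,
  ⟨0, 0, [], [], [], [[0, 0, 1, 0], [1, 2, 0, 1]], 3, false⟩,
  ⟨0, 0, [], [], [(6, [22, 46])], [], 8, false⟩,
  ⟨0, 0, [], [], [(6, [19, 43])], [], 8, false⟩,
  ⟨1, 8, [-1, 0, 1, 0], [], [], [], 8, false⟩,
  ⟨1, 2, [0, 0, -1, 1], [], [], [], 8, false⟩,
  ⟨2, 0, [0, -1, 1, 0], [], [], [], 8, false⟩,
  ⟨2, 1, [0, -1, 1], [], [], [], 10, false⟩,
  ⟨1, 12, [-1, 0, 1], [], [], [], 10, false⟩,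
  ⟨1, 2, [0, -1, 1], [], [], [], 12, false⟩,
  ⟨2, 1, [-1, 0, 1], [], [], [], 12, false⟩,
  ⟨3, 2, [-2, -4, -1, 1], [], [], [], 12, false⟩,
  ⟨2, 1, [0, -1, 1, 0], [], [], [], 12, false⟩,
  ⟨1, 3, [0, 0, -1, 1], [], [], [], 12, false⟩,
  ⟨1, 15, [-1, 0, 0, 1], [], [], [], 14, false⟩,
  ⟨2, 8, [-2, 0, -1, 1], [], [], [], 14, false⟩,
  ⟨1, 3, [-1, 0, -1, 1], [], [], [], 16, false⟩,
  ⟨0, 0, [], [], [], [[-2, -4, -3, -2]], 9, false⟩,
  ⟨0, 0, [], [], [], [[1, 2, 1, 0]], 9, false⟩,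
  ⟨2, 3, [-2, -4, -3, 1], [], [], [], 20, false⟩,
  ⟨1, 8, [-1, 0, 0, 1], [], [], [], 20, false⟩,
  ⟨1, 2, [0, -1, 1, 0], [], [], [], 24, false⟩,
  ⟨2, 0, [0, 0, -1, 1], [], [], [], 24, false⟩,
  ⟨1, 3, [0, -1, -1, 1], [], [], [], 32, false⟩,
  ⟨2, 1, [0, -1, 0, 1], [], [], [], 32, false⟩,
  ⟨0, 0, [], [], [], [], 48, false⟩]

/-- the check -/
noncomputable def cF4_3 (j : ℕ) : Bool :=
  rowT tbF4 4 3 tpF4 (3, 1, 0, 9) 1 (fun _ _ => false) (rw0 rwF4 j) (xF4_3.getD j ⟨0, 0, [], [], [], [], 0, false⟩)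

theorem cF4_3_0 : aL (fun j => cF4_3 (j + 0)) 37 = true := by decide +kernel

theorem allF4_3 : ∀ j < rwF4.length, cF4_3 j = true := fun j (hj : j < 37) => by
  simpa only [Nat.sub_add_cancel (show 0 ≤ j by omega)] using aL_iff.1 cF4_3_0 (j - 0) (by omega)

theorem tpkF4 : ∀ f ∈ tpF4, f.1 ≠ 0 ∧ f.1 ≤ 30 := by decide

variable {r h : ℕ} [Fact r.Prime]

theorem cnF4_2 {M : CoxeterMatrix (Fin 4)} {hp : IsType chevF4 4 M} {F G : LL 4 →+ ℤ} (S : Si hp r 2 h tpF4 F G) :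
    Cn h (5, 3, 0, 11) 1 (Ne0 [] []) (Kl hp r F) (Kl hp 2 G) :=
  cn_of (gsF4 hp) (by decide) (by decide) (by decide) tpkF4 rowF4 (by decide) rfl ne0_of_image
    (fun _ _ _ _ _ _ h => absurd h Bool.false_ne_true) allF4_2 S

theorem cnF4_3 {M : CoxeterMatrix (Fin 4)} {hp : IsType chevF4 4 M} {F G : LL 4 →+ ℤ} (S : Si hp r 3 h tpF4 F G) :
    Cn h (3, 1, 0, 9) 1 (Ne0 [] []) (Kl hp r F) (Kl hp 3 G) :=
  cn_of (gsF4 hp) (by decide) (by decide) (by decide) tpkF4 rowF4 (by decide) rfl ne0_of_image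
    (fun _ _ _ _ _ _ h => absurd h Bool.false_ne_true) allF4_3 S

end Cfsg.Agent.N2.Ex.Mu.Lt
end

-- part: N2/Ex/Mu/LatE6
section
set_option linter.all false

/-!
# N2, multiplicities: the rows of `E6` (helper40, generated data)
-/

set_option autoImplicit false
set_option maxRecDepth 100000

namespace Cfsg.Agent.N2.Ex.Mu.Lt

open Cfsg Cfsg.Lie Cfsg.Agent.Nodes.RGDChev Cfsg.Agent.N2.Ex.Al Cfsg.Agent.N2.Ex.Al.Ck Cfsg.Agent.N2.Ex.Cb

/-- the certificates -/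
def xE6_2 : List Rt := [⟨0, 0, [], [], [], [], 0, false⟩,
  ⟨0, 0, [], [], [], [[0, 1, 0, 0, 0, 0], [1, 0, 2, 0, 0, 0], [0, 0, 0, 1, 0, 0], [0, 0, 0, 0, 1, 0], [0, 0, 0, 0, 0, 1]], 0, false⟩,
  ⟨0, 0, [], [], [], [], 4, false⟩,
  ⟨0, 0, [], [], [], [], 6, false⟩,
  ⟨0, 0, [], [], [], [], 6, false⟩,
  ⟨0, 0, [], [], [], [], 8, false⟩,
  ⟨2, 8, [-1, -1, -1, 1], [], [], [], 8, false⟩,
  ⟨0, 0, [], [], [], [], 10, false⟩,
  ⟨0, 0, [], [], [], [[0, 1, 0, 2, 1, 0], [1, 0, 2, 0, 1, 0], [0, 0, 0, 0, 0, 1]], 5, false⟩,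
  ⟨0, 0, [], [12], [], [[0, 0, 0, 0, 1, 0], [0, 0, 0, 0, 0, 1]], 9, false⟩,
  ⟨0, 0, [], [], [], [], 14, false⟩,
  ⟨0, 0, [], [], [], [], 14, false⟩,
  ⟨2, 3, [0, -1, -1, -1, 1], [], [], [], 16, false⟩,
  ⟨3, 3, [-1, -1, -2, -2, -1, 1], [], [], [], 15, false⟩,
  ⟨0, 0, [], [], [], [[-2, -3, -4, -6, -5, 0], [0, 0, 0, 0, 0, 1]], 13, false⟩,
  ⟨0, 0, [], [], [], [[4, 6, 8, 12, 10, 5]], 15, false⟩,
  ⟨0, 0, [], [], [], [[0, 1, 0, 2, 1, 0], [1, 0, 2, 0, 1, 2]], 9, false⟩,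
  ⟨0, 0, [], [], [], [[0, 0, 0, 0, 0, 1]], 15, false⟩,
  ⟨2, 4, [0, -1, -1, -2, -1, 1], [], [], [], 32, false⟩,
  ⟨0, 0, [], [], [], [], 40, false⟩,
  ⟨0, 0, [], [], [], [], 72, false⟩]

/-- the check -/
noncomputable def cE6_2 (j : ℕ) : Bool :=
  rowT tbE6 6 2 tpE6 (5, 9, 0, 15) 40 (nr tbE6 2 [] []) (rw0 rwE6 j) (xE6_2.getD j ⟨0, 0, [], [], [], [], 0, false⟩)

theorem cE6_2_0 : aL (fun j => cE6_2 (j + 0)) 21 = true := by decide +kernel

theorem allE6_2 : ∀ j < rwE6.length, cE6_2 j = true := fun j (hj : j < 21) => by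
  simpa only [Nat.sub_add_cancel (show 0 ≤ j by omega)] using aL_iff.1 cE6_2_0 (j - 0) (by omega)

/-- the certificates -/
def xE6_3 : List Rt := [⟨0, 0, [], [], [], [], 0, false⟩,
  ⟨0, 0, [], [], [], [[0, 1, 0, 0, 0, 0], [1, 0, 2, 0, 0, 0], [0, 0, 0, 1, 0, 0], [0, 0, 0, 0, 1, 0], [0, 0, 0, 0, 0, 1]], 1, false⟩,
  ⟨0, 0, [], [], [], [], 4, false⟩,
  ⟨0, 0, [], [], [], [], 6, false⟩,
  ⟨0, 0, [], [], [], [], 6, false⟩,
  ⟨0, 0, [], [], [], [], 8, false⟩,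
  ⟨2, 8, [-1, -1, -1, 1], [], [], [], 8, false⟩,
  ⟨0, 0, [], [], [], [], 10, false⟩,
  ⟨0, 0, [], [], [], [[0, 1, 0, 2, 1, 0], [1, 0, 2, 0, 1, 0], [0, 0, 0, 0, 0, 1]], 7, false⟩,
  ⟨0, 0, [], [], [], [[0, 0, 0, 0, 1, 0], [0, 0, 0, 0, 0, 1]], 7, false⟩,
  ⟨0, 0, [], [], [], [], 14, false⟩,
  ⟨0, 0, [], [], [], [], 14, false⟩,
  ⟨2, 3, [0, -1, -1, -1, 1], [], [], [], 16, false⟩,
  ⟨3, 3, [-1, -1, -2, -2, -1, 1], [], [], [], 18, false⟩,
  ⟨0, 0, [], [], [], [[-2, -3, -4, -6, -5, 0], [0, 0, 0, 0, 0, 1]], 13, false⟩,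
  ⟨0, 0, [], [], [], [[4, 6, 8, 12, 10, 5]], 15, true⟩,
  ⟨0, 0, [], [], [], [[0, 1, 0, 2, 1, 0], [1, 0, 2, 0, 1, 2]], 13, false⟩,
  ⟨0, 0, [], [], [], [[0, 0, 0, 0, 0, 1]], 15, true⟩,
  ⟨2, 4, [0, -1, -1, -2, -1, 1], [], [], [], 32, false⟩,
  ⟨0, 0, [], [], [], [], 40, false⟩,
  ⟨0, 0, [], [], [], [], 72, false⟩]

/-- the check -/
noncomputable def cE6_3 (j : ℕ) : Bool :=
  rowT tbE6 6 3 tpE6 (7, 13, 1, 15) 40 (nr tbE6 3 [(22, 20, 30, 30)] [(30, 30, 22, 20)]) (rw0 rwE6 j) (xE6_3.getD j ⟨0, 0, [], [], [], [], 0, false⟩)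

theorem cE6_3_0 : aL (fun j => cE6_3 (j + 0)) 16 = true := by decide +kernel

theorem cE6_3_16 : aL (fun j => cE6_3 (j + 16)) 2 = true := by decide +kernel

theorem cE6_3_18 : aL (fun j => cE6_3 (j + 18)) 3 = true := by decide +kernel

theorem allE6_3 : ∀ j < rwE6.length, cE6_3 j = true := fun j (hj : j < 21) => by
  by_cases h0 : j < 16
  · simpa only [Nat.sub_add_cancel (show 0 ≤ j by omega)] using aL_iff.1 cE6_3_0 (j - 0) (by omega)
  by_cases h16 : j < 18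
  · simpa only [Nat.sub_add_cancel (show 16 ≤ j by omega)] using aL_iff.1 cE6_3_16 (j - 16) (by omega)
  simpa only [Nat.sub_add_cancel (show 18 ≤ j by omega)] using aL_iff.1 cE6_3_18 (j - 18) (by omega)

theorem slE6 : sl tbE6 = true := by decide +kernel

theorem tpkE6 : ∀ f ∈ tpE6, f.1 ≠ 0 ∧ f.1 ≤ 30 := by decide

variable {r h : ℕ} [Fact r.Prime]

theorem cnE6_2 {M : CoxeterMatrix (Fin 6)} {hp : IsType chevE6 6 M} {F G : LL 6 →+ ℤ} (S : Si hp r 2 h tpE6 F G) :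
    Cn h (5, 9, 0, 15) 40 (Ne0 [] []) (Kl hp r F) (Kl hp 2 G) :=
  cn_of (gsE6 hp) (by decide) (by decide) (by decide) tpkE6 rowE6 (by decide) rfl ne0_of_image
    (nr_spec (gsE6 hp) slE6) allE6_2 S

theorem cnE6_3 {M : CoxeterMatrix (Fin 6)} {hp : IsType chevE6 6 M} {F G : LL 6 →+ ℤ} (S : Si hp r 3 h tpE6 F G) :
    Cn h (7, 13, 1, 15) 40 (Ne0 [(22, 20, 30, 30)] [(30, 30, 22, 20)]) (Kl hp r F) (Kl hp 3 G) :=
  cn_of (gsE6 hp) (by decide) (by decide) (by decide) tpkE6 rowE6 (by decide) rfl ne0_of_image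
    (nr_spec (gsE6 hp) slE6) allE6_3 S

end Cfsg.Agent.N2.Ex.Mu.Lt
end

-- part: N2/Ex/Mu/LatD
section
set_option linter.all false
open scoped Cfsg.Agent.FastGrp

/-!
# N2, multiplicities: two subsystems of type `E₆` in `E₇`, `D₅` in `E₆`; ranks (helper40)
-/

set_option autoImplicit false
set_option linter.unusedSectionVars false

namespace Cfsg.Agent.N2.Ex.Mu.Lt

open CoxeterSystem Cfsg Cfsg.Lie Cfsg.Lie.ChevalleyDatum
open Cfsg.Agent.ChevalleyStructure Cfsg.Agent.ChevalleyStructure.CoxeterGeom Cfsg.Agent.ChevalleyStructure.CoxeterGeomTypes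
  Cfsg.Agent.Tits.Roots Cfsg.Agent.Nodes Cfsg.Agent.Nodes.RGDChev Cfsg.Agent.Nodes.Coroot
open Cfsg.Agent.DS.Ex Cfsg.Agent.DS.Nt Cfsg.Agent.H931.KC
open Cfsg.Agent.DS.Ex.Tor (RT)
open Cfsg.Agent.N2.Ex.Al Cfsg.Agent.N2.Ex.Al.Ck

section Chk

variable (T : Tb) (l : ℕ)

/-- the Cartan integer of a vector -/
def cz (z : List ℤ) (d : ℕ) : ℤ := ∑ i : Fin l, vz l z i * ((T.c i d : ℤ) - 2)

/-- the list is closed under the simple reflections -/
noncomputable def orb (O : List (List ℤ)) : Bool :=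
  lA (fun y => aL (fun i => lE (fun y' => decide (vz l y' = vz l y - cz T l y i • T.vec l i)) O) l) O

/-- the check for the pairs -/
noncomputable def eek (L : List Rw) (et m i : ℕ) (x : List ℤ) (O : List (List ℤ)) : Bool :=
  aL (fun j => !Nat.beq (cL (rw0 L j).m.testBit T.n) et || Nat.beq (rw0 L j).m m) L.length &&
    aL (fun k => m.testBit k == !Nat.beq k i) l && aL (fun a => m.testBit a == decide (cz T l x a = 0)) T.n &&
    lA (fun y => decide (y.getD i 0 ∣ 4 ∨ vz l y = vz l x ∨ vz l y = -vz l x)) (x :: O) && orb T l (x :: O)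

/-- the base is linearly independent, the size is bounded -/
noncomputable def rkk (bd : List ℕ) (R : Rw) (Y : List (List ℤ)) : Bool :=
  aL (fun i => aL (fun j => Nat.beq i j == !decide (∑ k : Fin l, T.vec l (R.Δ.getD j 0) k * vz l (Y.getD i []) k = 0))
    R.Δ.length) R.Δ.length && aL (fun ρ => Nat.blt ρ R.Δ.length || Nat.ble (cL R.m.testBit T.n) (bd.getD ρ 240)) 9

end Chk

variable {D : ChevalleyDatum} {l : ℕ} {M : CoxeterMatrix (Fin l)} {hp : IsType D l M} {T : Tb}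

theorem cz_eq (G : Gt hp T) (z : List ℤ) {d : ℕ} (hd : d < T.n) : cp hp (vz l z) (T.vec l d) = cz T l z d := by
  rw [cp_eq _ (G.root d hd)]
  exact Finset.sum_congr rfl fun i _ => by rw [← G.sim, G.cpe _ (G.lt_n i) _ hd]

theorem orb_spec (G : Gt hp T) {O : List (List ℤ)} (h : orb T l O = true) {x : List ℤ} (hx : x ∈ O) (w : M.Group) :
    ∃ y ∈ O, vz l y = ac hp w (vz l x) := by
  have := finW hp
  simp only [orb, lA_iff, aL_iff, lE_iff, decide_eq_true_eq] at h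
  obtain ⟨ω, rfl⟩ := M.toCoxeterSystem.wordProd_surjective w
  induction ω with
  | nil => exact ⟨x, hx, by rw [wordProd_nil, ac_one]⟩
  | cons j ω ih =>
    obtain ⟨y, hy, e⟩ := ih
    obtain ⟨y', hy', e'⟩ := h y hy j j.2
    refine ⟨y', hy', ?_⟩
    rw [wordProd_cons, ac_mul, ← e, e', ← cz_eq G y (G.lt_n j), G.sim]
    exact ((rep_simple_eq M.toCoxeterSystem hp.isCartan j _).trans (congrArg (vz l y - · • sr j) (cpr_sr M.toCoxeterSystem hp.isCartan _ j).symm)).symm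

/-- **two subsystems of the distinguished size** -/
theorem ee_of (G : Gt hp T) {L : List Rw} (hL : ∀ j < L.length, T.row L j = true) (hL0 : 0 < L.length)
    (hL1 : (rw0 L 0).m = 0) {et m : ℕ} {i : Fin l} {x : List ℤ} {O : List (List ℤ)} (h : eek T l L et m i x O = true)
    {r r' : ℕ} (hr : r'.Prime) (h2 : r' ≠ 2) {F G' : LL l →+ ℤ}
    (h1 : ∀ x, (∀ a ∈ Kl hp r F, cp hp x a = 0) → (r' : ℤ) ∣ G' x) (nz : ∃ a ∈ Kl hp r F, ¬ (r' : ℤ) ∣ G' a)
    (e : (Kl hp r F).ncard = et) : (Kl hp r' G').ncard ≠ et := fun e' => by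
  simp only [eek, Bool.and_eq_true, Bool.or_eq_true, aL_iff, lA_iff, Nat.beq_eq, Bool.not_eq_true', ← Bool.not_eq_true,
    beq_iff_eq, decide_eq_true_eq] at h
  obtain ⟨⟨⟨⟨a1, a2⟩, a3⟩, a4⟩, a5⟩ := h
  have k : ∀ (r : ℕ) (F : LL l →+ ℤ), (Kl hp r F).ncard = et → ∃ v, ac hp v '' Kl hp r F = St T l m := fun r F e => by
    obtain ⟨j, hj, v, hv⟩ := G.cls_of hL hL0 hL1 (kl_sy r F) (kl_rc r F)
    exact ⟨v, by rw [hv, (a1 j hj).resolve_left (not_not.2 (by rw [← G.ncard_St, ← hv, ncard_ac, e]))]⟩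
  have k0 : ∀ a, RT hp a → (a ∈ St T l m ↔ cp hp (vz l x) a = 0) := fun a ha => by
    obtain ⟨s, hs, rfl⟩ := G.surj a ha
    rw [G.mem_St hs, a3 s hs, cz_eq G x hs, decide_eq_true_eq]
  obtain ⟨v, hv⟩ := k r F e
  obtain ⟨w, hw⟩ := k r' G' e'
  obtain ⟨y, hy, ey⟩ := orb_spec G a5 List.mem_cons_self (w * v⁻¹)
  have k1 : ∀ a ∈ Kl hp r F, cp hp (ac hp v⁻¹ (vz l x)) a = 0 := fun a ha => by
    rw [← cp_ac hp v _ ha.1, ac_inv']
    exact (k0 _ (rt_ac hp v ha.1)).1 (hv ▸ ⟨a, ha, rfl⟩)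
  have k2 : ∀ j : Fin l, (r' : ℤ) ∣ G' (ac hp w⁻¹ (sr j)) ↔ j ≠ i := fun j => by
    have h3 : sr j ∈ Kl hp r' (G'.comp (ac hp w⁻¹).toAddMonoidHom) ↔ j ≠ i := by
      rw [← kl_image, hw, ← G.sim, G.mem_St (G.lt_n j), a2 j j.2, Bool.not_eq_true', ← Bool.not_eq_true, Nat.beq_eq, Ne,
        Fin.ext_iff]
    exact (and_iff_right (isRoot_sr _ _ j)).symm.trans h3
  have k3 : (r' : ℤ) ∣ vz l y i := by
    have h3 := h1 _ k1
    rw [← ac_inv hp w (ac hp v⁻¹ _), ← ac_mul hp w, ← ey] at h3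
    have h4 := eq_psi (G'.comp (ac hp w⁻¹).toAddMonoidHom) (vz l y)
    rw [← Finset.add_sum_erase _ _ (Finset.mem_univ i)] at h4
    have h5 := (dvd_add_left (Finset.dvd_sum fun j hj => ((k2 j).2 (Finset.ne_of_mem_erase hj)).mul_left _)).1 (h4 ▸ h3 :)
    exact ((Nat.prime_iff_prime_int.1 hr).dvd_or_dvd h5).resolve_right fun h6 => (k2 i).1 h6 rfl
  obtain ⟨a, b1, b2⟩ := nz
  have k4 : cp hp (vz l y) (ac hp w a) = 0 := by rw [ey, ac_mul, cp_ac hp w _ b1.1, k1 a b1]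
  have k5 : cp hp (vz l x) (ac hp w a) ≠ 0 := fun h3 => by
    obtain ⟨b, c1, c2⟩ : ac hp w a ∈ ac hp w '' Kl hp r' G' := hw ▸ (k0 _ (rt_ac hp w b1.1)).2 h3
    exact b2 ((ac hp w).injective c2 ▸ c1.2)
  rcases a4 y hy with h3 | h3 | h3
  · have h4 : r' ∣ 2 ^ 2 := Int.natCast_dvd_natCast.1 (k3.trans h3)
    exact h2 ((Nat.prime_dvd_prime_iff_eq hr Nat.prime_two).1 (hr.dvd_of_dvd_pow h4))
  · exact k5 (h3 ▸ k4)
  · rw [h3, cp_neg hp _ (rt_ac hp w b1.1), neg_eq_zero] at k4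
    exact k5 k4

/-- the rank -/
noncomputable abbrev rk' (A : Set (LL l)) : ℕ := Module.finrank ℤ (Submodule.span ℤ A)

theorem rk_image (u : LL l ≃+ LL l) (A : Set (LL l)) : rk' (u '' A) = rk' A := by
  rw [rk', rk', ← u.toIntLinearEquiv.finrank_map_eq (Submodule.span ℤ A), Submodule.map_span]
  rfl

/-- **the rank bounds the size** -/
theorem rk_of (G : Gt hp T) {L : List Rw} (hL : ∀ j < L.length, T.row L j = true) (hL0 : 0 < L.length)
    (hL1 : (rw0 L 0).m = 0) {bd : List ℕ} {Y : ℕ → List (List ℤ)} (h : ∀ j < L.length, rkk T l bd (rw0 L j) (Y j) = true)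
    {A : Set (LL l)} (h1 : Sy hp A) (h2 : Rc hp A) {ρ : ℕ} (h9 : ρ < 9) (hρ : rk' A ≤ ρ) : A.ncard ≤ bd.getD ρ 240 := by
  obtain ⟨j, hj, v, e⟩ := G.cls_of hL hL0 hL1 h1 h2
  have h3 := hL j hj
  have h4 := h j hj
  rw [Tb.row, Bool.and_eq_true] at h3
  simp only [rkk, Bool.and_eq_true, Bool.or_eq_true, aL_iff, Nat.blt_eq, Nat.ble_eq, beq_iff_eq] at h4
  rw [← rk_image (ac hp v), e] at hρ
  rw [← ncard_ac (hp := hp) v, e, G.ncard_St]
  refine (h4.2 ρ h9).resolve_left (not_lt.2 (le_trans ?_ hρ))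
  set Δ := (rw0 L j).Δ
  have k1 : ∀ i : Fin Δ.length, T.vec l (Δ.getD i 0) ∈ Submodule.span ℤ (St T l (rw0 L j).m) := fun i => by
    have h5 := G.rch_lt h3.1 (Δ.getD i 0) (by rw [List.getD_eq_getElem _ _ i.2]; exact List.getElem_mem i.2)
    exact Submodule.subset_span ((G.mem_St h5.1).2 h5.2)
  have k2 : LinearIndependent ℤ fun i : Fin Δ.length => (⟨_, k1 i⟩ : Submodule.span ℤ (St T l (rw0 L j).m)) := by
    refine LinearIndependent.of_comp (Submodule.subtype _) (Fintype.linearIndependent_iff.2 fun g hg i => ?_)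
    have h5 := congrArg (psi (vz l ((Y j).getD i []))) hg
    rw [map_sum, map_zero, Finset.sum_eq_single i (fun k _ hk => ?_) (fun h => absurd (Finset.mem_univ i) h), map_zsmul] at h5
    · refine (mul_eq_zero.1 h5).resolve_right fun h6 => ?_
      have h7 := h4.1 i i.2 i i.2
      rw [Nat.beq_refl, eq_comm, Bool.not_eq_true', decide_eq_false_iff_not] at h7
      exact h7 h6
    · have h7 := h4.1 i i.2 k k.2
      rw [show Nat.beq i k = false from Bool.eq_false_iff.2 fun h => hk (Fin.ext (Nat.eq_of_beq_eq_true h)).symm, eq_comm,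
        Bool.not_eq_false', decide_eq_true_eq] at h7
      rw [map_zsmul]
      exact mul_eq_zero_of_right _ h7
  simpa using k2.fintype_card_le_finrank

end Cfsg.Agent.N2.Ex.Mu.Lt

private theorem dce_a0d507ae934c : _root_.True := by
  try have : _root_.True := by simp only [_root_.Cfsg.Agent.N2.Ex.Mu.Lt.rkk.eq_1]
  try have : _root_.True := by simp only [_root_.Cfsg.Agent.N2.Ex.Mu.Lt.eek.eq_1]
  try have : _root_.True := by simp only [_root_.Cfsg.Agent.N2.Ex.Mu.Lt.orb.eq_1]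
  try have : _root_.True := by simp only [_root_.Cfsg.Agent.N2.Ex.Mu.Lt.rk'.eq_1]
  exact _root_.True.intro
end

-- part: N2/Ex/Al/SvE6
section
set_option linter.all false

/-- decoders of the packed data (elaboration time only) -/
private noncomputable def pk61d_v8 (b S i : Nat) : Nat := Nat.mod (Nat.shiftRight S (Nat.mul b i)) (Nat.shiftLeft (nat_lit 1) b)
private noncomputable def pk61f_v8 {α : Type} (t : Nat) (f : Nat → α) : α := Nat.rec (f Nat.zero) (fun k _ => f (Nat.succ k)) t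
private noncomputable def pk61l_v8 {α : Type} (f : Nat → α) (s e : Nat) (tl : List α) : List α :=
  pk61f_v8 e fun e => Nat.rec tl (fun k ih => List.cons (pk61f_v8 (Nat.sub e (Nat.succ k)) f) ih) (Nat.sub e s)
private noncomputable def lq266758b495 {T : Sort _} (f :
    type_of% (@_root_.List.cons.{0}) →
    type_of% (@_root_.List.nil.{0}) →
    type_of% (@_root_.Prod.mk.{0, 0}) →
    type_of% (@_root_.Cfsg.Agent.N2.Ex.Al.Ck.Ce.mk) →
    type_of% (@_root_.Sum.inl.{0, 0}) →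
    type_of% (@_root_.Cfsg.Agent.N2.Ex.Al.Ck.CT.mk) →
    type_of% (@_root_.Bool.true) →
    type_of% (@_root_.Bool.false) → T) : T :=
  f (@_root_.List.cons.{0}) (@_root_.List.nil.{0}) (@_root_.Prod.mk.{0, 0}) (@_root_.Cfsg.Agent.N2.Ex.Al.Ck.Ce.mk) (@_root_.Sum.inl.{0, 0}) (@_root_.Cfsg.Agent.N2.Ex.Al.Ck.CT.mk) (@_root_.Bool.true) (@_root_.Bool.false)

/-!
# N2, subgroups of maximal rank: the surviving rows of `E6` (helper40, generated data)
-/

set_option autoImplicit false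
set_option maxRecDepth 100000

namespace Cfsg.Agent.N2.Ex.Al.Ck

open Cfsg Cfsg.Lie Cfsg.Agent.Nodes.RGDChev

/-- A2A2A2 -/
noncomputable def svE6_13 : Sv where
  m := 3541774940750135428215
  Δ := [0, 1, 2, 4, 5, 34]
  dm := [6, 10, 26, 33, 35]
  s := 18
  sq := (beta% delta% lq266758b495 fun a b c _ _ _ g h =>
 (a (c 6 h)<|a (c 10 h)<|a (c 35 h)<|a (c 0 g)<|a (c 2 g)<|a (c 26 h)<|a (c 1 g)<|b))
  co := (beta% delta% lq266758b495 fun a b _ _ _ _ _ _ =>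
 (a (a 0<|a 0<|a 0<|a 1<|a 0<|a 0<|a 0<|b)<|a (a 0<|a 0<|a 0<|a 0<|a 0<|a 0<|a 1<|b)<|a (a 1<|a 0<|a 0<|a (-1)<|a 0<|a 0<|a 0<|b)<|a (a (-1)<|a (-1)<|a 0<|a 0<|a 0<|a 1<|a (-1)<|b)<|a (a 1<|a 2<|a 1<|a 1<|a 0<|a (-3)<|a 1<|b)<|a (a (-1)<|a (-1)<|a (-1)<|a (-1)<|a 0<|a 3<|a (-1)<|b)<|b))
  ω := 12
  cl := (beta% delta% lq266758b495 fun a b c _ _ _ g h =>
 (a (c h b)<|a (c g (a 33<|a 19<|a 9<|a 0<|b))<|a (c h (a 27<|a 25<|a 12<|a 11<|b))<|a (c h (a 23<|a 17<|a 16<|a 6<|a 0<|b))<|a (c g (a 10<|a 35<|a 6<|b))<|a (c g (a 34<|a 35<|a 26<|a 28<|a 2<|a 17<|a 8<|b))<|b))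
  lf := (beta% delta% lq266758b495 fun a b c _ _ _ _ _ =>
 (a (c 1699995300534785<|c 0 b)<|
 a (c 1699995333959970<|c 4 b)<|
 a (c 1727375717046789<|c 1 b)<|
 a (c 1727375750471940<|c 3 b)<|
 a (c 2821497228173602<|c 3 (a 4<|a 10<|a 7<|a 30<|a 8<|b))<|
 a (c 2821497244883457<|c 1 (a 4<|a 10<|a 7<|a 30<|a 8<|b))<|
 a (c 2853258511327490<|c 5 b)<|
 a (c 2853258528037376<|c 2 (a 15<|a 14<|a 11<|b))<|
 a (c 9858264223324677<|c 2 b)<|
 a (c 9858264774811908<|c 5 (a 15<|a 14<|a 11<|b))<|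
 a (c 9862645089966592<|c 1 (a 15<|a 14<|a 11<|b))<|
 a (c 9862645641453826<|c 3 (a 15<|a 14<|a 11<|b))<|b))
  q₁ := 20
  k₁ := 11
  ev := false
  lg := (0, [], 0)

/-- inverted roots -/
def ivE6_13 : List (ℕ × List ℕ × ℕ) := []

/-- the certificates -/
noncomputable def ceE6_13 : List (List (ℕ × Ce)) :=
  let y0 : List (List (ℕ × Ce)) := (by
  refine (?fq9001 : (pk61l_v8 (fun i0 => (pk61l_v8 (fun i1 => (_root_.Prod.mk (pk61d_v8 (nat_lit 5) 
    (nat_lit 0x9c60d5a507290629c60d5a507290629c60d5a50729062) i1) (_root_.Cfsg.Agent.N2.Ex.Al.Ck.Ce.mk (pk61d_v8 (nat_lit 75) 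
    (nat_lit 0xc0adb03833a3328098c336d1a7abf0d7b55300224b4211002d4cf93580196ba636ee67c5f150002729a09ad9f795b0000020913af5d319bb40000079dfdb334a10d8000001550cecfa8bbb000000001707f5e874e0000000000c22c6aa84000000000001e33a308000000000000007b02) (pk61d_v8 (nat_lit 4) 
    (nat_lit 0xba9876543210ba9876543210ba9876543210) i1)) ((fun g1 : Nat → Nat => pk61l_v8 (fun i2 => (pk61d_v8 (nat_lit 6) 
    (nat_lit 0x41440a214004a0450061458e228204a8e32a28e388a8e21820468c628010088412306218a12328408188408418404028416206314288a04a08000528608418114a1000a38800820058820638c01628e28c51021410a21818c01840040801638c602206212310188488504a8c61018c428400408608588010408a002884) i2)) (g1 i1) (g1 (Nat.succ i1)) List.nil) fun j => (pk61d_v8 (nat_lit 8) 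
    (nat_lit 0xa7a7a2a19c97908f8e8e8783807b7a776f6c645c544d4848463e3b362e2a231c1410090800) j)) (nat_lit 0) List.nil (_root_.Sum.inl (_root_.Cfsg.Agent.N2.Ex.Al.Ck.CT.mk (pk61d_v8 (nat_lit 24) 
    (nat_lit 0x352cd7abebbfff00100044b0900fd08191900001301ca3b00003e000fc100000e00001300015700002000001100013a001a04000028000085000056000007000041000008000009015452000168000c3d0000380000f4000cd000013b0000a0003d0800005500003800000f) i1) (pk61l_v8 (fun i2 => (pk61d_v8 (nat_lit 24) 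
    (nat_lit 0xb683013fee023f00027c83007b0f0177123e02673ba605157bf844b1b968437c361d61011ff7ff5ff80909096fe701f6ef712006ff0003a800023e0002be0000de00036400004800a62207bec102b48e083e8c01dd8707409b00199500089404092202b5e006e5a80000f400000300000a00000f00000d00000400000201b489006dce003b9100c149009e8900929c000005000005000038000001000019000001000eb3000c5300048e0008bc000db800082400000000000100000900000000000b00000500000400000900000c00000500001200001100003e0000c20001270000870000300000b300001b00000b00001a00001b00001000000b00000900000800000e00000100000000000500000000009d0000d600012a00002600007a0003e70010e9000e430014640013830015cc00002200001a00000100000d00000a00001e00001c00003f00007200002a00002600001c00002b00000000005100002800002b00004000000000000000000100000400000400000100000000000000003a00002300001a000037000001000003000001000002000002000006000003000003000001000003000003000003014afe0139e6012b2500000000b13c00aa290000b700009000007500004b0000480000c30009500005640001720008d6000ba8000a2800001c00003600002d00003700001a00002b0000490000dc00001600007a0000e000000000017700097900040800005200041000099c00007e00000c00000000006900009c0000d200007f0000110000030000000000770000780003180029a00039090016e3002d9000356700002700003800002b00002200002800003300000e00002300001700003000003100001800000600000600000700000a00000900000a)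 i2)) (Nat.mul (nat_lit 6) i1) (Nat.mul (nat_lit 6) (Nat.succ i1)) List.nil) (pk61l_v8 (fun i2 => (pk61d_v8 (nat_lit 24) 
    (nat_lit 0x1587002a1d802f6de030b5f002905007d063d95b63ccc4030139168ba657495a61209cb005ffdffbffe030303cfed01fcefd15ffd0000013800039c0000ea00004a0003fe0000180337b50294eb00e6da02bf84009f2d086b870008870002dc040b69039a5307b29e05666200000100001000000500001100000e00000700918300249a0013db00d92c01665500c99d00002b00002b00003c00001500001d000015000f6700095c0006c5000d6a0009d30007f700000000000500000300000000000d00000b00000e00000300000400000800000600000c0000870000b300014700002d0000100000ae00000900001900001e00000900001000001900000300000e00001000000600000000000d00000000009d0000b00000cc0000de0000fa0012a50016fb0016190018240017d900074400002600001600001b00001f00001e00000a00006200001500002600000e00003900006200002b00000000001b00002a00002b0000320000000000000000050000060000060000050000000000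000000290000370000340000280000030000010000030000060000060000020000030000030000080000000000060000000151360068a20063b7000000003b1400aa290000b500012000002700001900009000004100072f0001cc0008a40002f20007f700077700001c00001200000f00002500002e0000210000bb0000ec0000aa00007a00009c00000000007d000bb30001580008a60005a00003340000fc00006d0000d200008c0001060000af00009500003b00000100000000005d000028000108002238001303001bf90037e00011cd00000d00002f00004700004400004600001100002a00003100002d00001000002300000800000700000200000e000000000003000005) i2)) (Nat.mul (nat_lit 6) i1) (Nat.mul (nat_lit 6) (Nat.succ i1)) List.nil) (pk61l_v8 (fun i2 => (pk61d_v8 (nat_lit 4) 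
    (nat_lit 0x33133300000000000000000000000000000000000000000000000000000000000000000072ea30) i2)) (Nat.mul (nat_lit 6) i1) (Nat.mul (nat_lit 6) (Nat.succ i1)) List.nil) ((fun g1 : Nat → Nat => pk61l_v8 (fun i2 => (pk61d_v8 (nat_lit 4) 
    (nat_lit 0x2feb62) i2)) (g1 i1) (g1 (Nat.succ i1)) List.nil) fun j => (pk61d_v8 (nat_lit 3) 
    (nat_lit 0x6db6db6db6db6db6db1249249248) j)) (nat_lit 0) (nat_lit 0) List.nil))))) (Nat.mul (nat_lit 12) i0) (Nat.mul (nat_lit 12) (Nat.succ i0)) List.nil)) (nat_lit 0) (nat_lit 3) List.nil : List (List (ℕ × Ce)))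
    = ?xq9001 → (List (List (ℕ × Ce)))) ?hq9001; (case hq9001 => (set_option maxRecDepth 1000000 in set_option simprocs false in conv => lhs; reduce; dsimp only)); intro _; exact ?xq9001 : List (List (ℕ × Ce)))
  (by
  refine (?fq9002 : (fun tl : List (List (ℕ × Ce)) => pk61l_v8 (fun i0 => (pk61l_v8 (fun i1 => (_root_.Prod.mk (pk61d_v8 (nat_lit 5) 
    (nat_lit 0x9c60d5a507290629c60d5a507290629c60d5a50729062) i1) (_root_.Cfsg.Agent.N2.Ex.Al.Ck.Ce.mk (pk61d_v8 (nat_lit 75) 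
    (nat_lit 0xc0adb03833a3328098c336d1a7abf0d7b55300224b4211002d4cf93580196ba636ee67c5f150002729a09ad9f795b0000020913af5d319bb40000079dfdb334a10d8000001550cecfa8bbb000000001707f5e874e0000000000c22c6aa84000000000001e33a308000000000000007b02) (pk61d_v8 (nat_lit 4) 
    (nat_lit 0xba9876543210ba9876543210ba9876543210) i1)) ((fun g1 : Nat → Nat => pk61l_v8 (fun i2 => (pk61d_v8 (nat_lit 6) 
    (nat_lit 0x810a30840a30410401801a31400230a204508002210528a10288018a0442a38c510a8828a31000001451011040021868c21060008e300488628502208000618608414006314104a02328a1451058c58860021232810860631008841468c508188518118516308604288a04418a00008a1460408861802a20452850018800620858e21850051058c6886084) i2)) (g1 i1) (g1 (Nat.succ i1)) List.nil) fun j => (pk61d_v8 (nat_lit 8) 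
    (nat_lit 0xbab6afa79f9a928f8e8c89837d78716a67605a555452504845403a373028211b160e0b0400) j)) (nat_lit 0) List.nil (_root_.Sum.inl (_root_.Cfsg.Agent.N2.Ex.Al.Ck.CT.mk (pk61d_v8 (nat_lit 24) 
    (nat_lit 0xef5297006d21047e09188fc5006dd8081ecb015555000662003d870000230002f5000049000cba008b1c01c8c700001c0036ec00076a01555500032000003e0003330000080000230042f90004cc0000550001ab0000080001c700003f0005580000f8000023000068000015) i1) (pk61l_v8 (fun i2 => (pk61d_v8 (nat_lit 24) 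
    (nat_lit 0x8381ceef3bd281d675eda1f8b743b0696864000998002be7000000005b91001cd30035f70111a502c9c200931e012e0e03954d042dcf17df37079f10150baf00d4bc110ea70f988f004092001a650020f40046a700165f00333605e02206808702b4c905d5a20126d403f65b00bbe30039a20042720077bb004e210089c400047400024f00049d0003650001300005a4003c5f0016a200307f0033a300209f0037bf00001200000e00000e00000e0000160000170000aa00021b0000d80002650001b00000f700003100004600003a000013000032000030000441000441000cb7000000000843000000006f87007cb800157e00633c00578b0011ac0117c100610b01c418000f0f016d1100f0f000000b00001400001100001800000300001700203000322800027f001b760018880002bf0007100006960002410000000003340003b5004e8100113a002ac000208200cb8500e38e0002b00000e70001a100019000001000000000000e00002800002b00000000000800001f0000990002a30002e500000000024000000000000000000100000300000600000500000400000700000e00001b000014000015000005001653002ca60010d10023b8001a5e00282f0001330003990003a100043c00008800008800001e00004600003500000d00003500002f00000000000000003f00007a0001500000b70000020000050000040000000000060000000001b80000960000b30000be0000b600015900003600000900003c0000240000390000120003570004020005430002ac0001680002ac00007c00005d00002200000000004800007c00000000000000000400001500001900001500003800004000003400002800005b00003000000e00000e000010000006000007000003)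 i2)) (Nat.mul (nat_lit 6) i1) (Nat.mul (nat_lit 6) (Nat.succ i1)) List.nil) (pk61l_v8 (fun i2 => (pk61d_v8 (nat_lit 24) 
    (nat_lit 0xcb6254ef4b00cad3e1eec2623d16902322cc0027930057630000000042e6002dfc0011fd005b3703ec9c00310a03636004307504634b1854eb0aba470703e510a6c205af8d1592b3001586005207000afc00178d00077500111204aa4f04dfc6039bdc04a6cf03173506bbfb01222f00f6c4001626010b77008bd201117a00017c0000c50005cb0005630002860004020028a200309000392f003a3b001f6200129500000600001c00001c00001c00001300001f0001350001b00000480002c500009000024b00004100004800004400003700002900001000016b0009e7000cb90000000002c100000000252d00865000072a002114004b8d0005e4018dc5002059012ef500050501aa3500505000000d00001000000f000008000001000011002f580010b80000d5001b76001a7c00133900074c00023200033900000000038a0003b5001a2b0005be00f1ce00ee64012765012f680001f000004d00008b00019000011000000000002e00002200002300000000002c00001f000255000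1f20002080000000001d100022200000000000300000100000200000700000400000e00001c00000900001e000007000019000771002535001bee00388e0008ca000d650003990001330002cf00049c00036000036000000a00005000002e00003d00002e00002c0000000000000000150000b700007000003d0000060000070000040000000000020000000001c200003200016b0000d700016c00007300003c00001800003e00003600002800001b0004ad0001560001c10002ac0004080000e400007c00001f00005e00000000001800007c00000000000000000d00000700001400000700005800003800003400003000004100001000000e00000e00000300000900000e00000f) i2)) (Nat.mul (nat_lit 6) i1) (Nat.mul (nat_lit 6) (Nat.succ i1)) List.nil) (pk61l_v8 (fun i2 => (pk61d_v8 (nat_lit 4) 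
    (nat_lit 0xeea97f) i2)) (Nat.mul (nat_lit 6) i1) (Nat.mul (nat_lit 6) (Nat.succ i1)) List.nil) ((fun g1 : Nat → Nat => pk61l_v8 (fun i2 => (pk61d_v8 (nat_lit 6) 
    (nat_lit 0x884) i2)) (g1 i1) (g1 (Nat.succ i1)) List.nil) fun j => (pk61d_v8 (nat_lit 2) 
    (nat_lit 0x2aaaaaaaaaaaaaaaaa8) j)) (nat_lit 0) (nat_lit 0) List.nil))))) (Nat.mul (nat_lit 12) i0) (Nat.mul (nat_lit 12) (Nat.succ i0)) List.nil)) (nat_lit 0) (nat_lit 3) tl)
    = ?xq9002 → (List (List (ℕ × Ce)))) ?hq9002; (case hq9002 => (set_option maxRecDepth 1000000 in set_option simprocs false in conv => lhs; reduce; dsimp only)); intro _; exact ?xq9002 y0 : List (List (ℕ × Ce)))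

theorem svsE6_13 : tbE6.svs 6 svE6_13 = true := by decide +kernel

theorem svdE6_13 : tbE6.svd svE6_13 = true := by decide +kernel

theorem svcE6_13 : aL (tbE6.svc 6 svE6_13 ivE6_13 ceE6_13) 6 = true := by decide +kernel

theorem goodE6_13 {M : CoxeterMatrix (Fin 6)} (hp : IsType chevE6 6 M) : Good hp tbE6 3541774940750135428215 :=
  (gsE6 hp).good_sv (fun h => absurd h (by decide)) svsE6_13 svdE6_13 (aL_iff.1 svcE6_13)

/-- D4 -/
noncomputable def svE6_16 : Sv where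
  m := 18623951469676026131
  Δ := [0, 1, 4, 8]
  dm := [6, 25, 28, 33, 35, 41, 51]
  s := 24
  sq := (beta% delta% lq266758b495 fun a b c _ _ _ g h =>
 (a (c 0 g)<|a (c 1 g)<|a (c 4 g)<|a (c 8 g)<|a (c 6 h)<|a (c 33 h)<|b))
  co := (beta% delta% lq266758b495 fun a b _ _ _ _ _ _ =>
 (a (a 1<|a 0<|a 0<|a 0<|a 0<|a 0<|b)<|a (a 0<|a 1<|a 0<|a 0<|a 0<|a 0<|b)<|a (a (-1)<|a 0<|a 0<|a 0<|a 1<|a 0<|b)<|a (a 1<|a 0<|a 0<|a 1<|a (-1)<|a 0<|b)<|a (a 0<|a 0<|a 1<|a 0<|a 0<|a 0<|b)<|a (a (-1)<|a (-1)<|a (-2)<|a (-2)<|a 0<|a 1<|b)<|b))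
  ω := 12
  cl := (beta% delta% lq266758b495 fun a b c _ _ _ g h =>
 (a (c h b)<|a (c g (a 4<|a 28<|a 1<|a 0<|b))<|a (c g (a 28<|a 13<|a 3<|a 0<|b))<|a (c h (a 9<|a 7<|b))<|a (c h (a 2<|a 23<|a 30<|a 29<|a 12<|a 11<|b))<|a (c g (a 25<|a 6<|a 30<|a 29<|a 16<|a 8<|b))<|b))
  lf := (beta% delta% lq266758b495 fun a b c _ _ _ _ _ =>
 (a (c 4362602017<|c 0 b)<|
 a (c 4362606889<|c 1 b)<|
 a (c 17197172275<|c 2 b)<|
 a (c 17197177123<|c 3 b)<|
 a (c 1099579269921<|c 2 (a 34<|a 19<|a 14<|a 11<|b))<|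
 a (c 1099579274025<|c 3 (a 34<|a 19<|a 14<|a 11<|b))<|
 a (c 1116692030233<|c 4 b)<|
 a (c 1116692034310<|c 5 b)<|
 a (c 4398063821091<|c 5 (a 9<|a 7<|b))<|
 a (c 4398063823155<|c 4 (a 9<|a 7<|b))<|
 a (c 4402342011142<|c 3 (a 31<|a 10<|a 12<|a 11<|b))<|
 a (c 4402342013209<|c 2 (a 31<|a 10<|a 12<|a 11<|b))<|b))
  q₁ := 23
  k₁ := 9
  ev := false
  lg := (0, [], 0)

/-- inverted roots -/
def ivE6_16 : List (ℕ × List ℕ × ℕ) := []

/-- the certificates -/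
noncomputable def ceE6_16 : List (List (ℕ × Ce)) := (beta% delta% lq266758b495 fun a b c d e f _ _ =>
 (a (a (c 2 (d 7872 (a 21<|a 14<|a 8<|a 4<|a 1<|b) 0 b (e (f 15 (a 9<|a 2<|a 7<|a 2<|a 9<|a 14<|b) (a 0<|a 0<|a 0<|a 0<|a 0<|a 0<|b) (a 9<|a 2<|a 7<|a 2<|a 9<|a 14<|b) (a 21<|a 14<|a 8<|a 4<|a 1<|b) 1 135 (a (c b (a (a 1<|b)<|a (a 0<|a 1<|b)<|a (a (-3)<|a (-1)<|a 3<|b)<|a (a 1<|a 4<|a (-1)<|a 11<|b)<|a (a (-1)<|a 0<|a 1<|a 1<|a 4<|b)<|a (a 7<|a 5<|a 8<|a 8<|a 7<|a 15<|b)<|b))<|a (c (a 29<|b) (a (a 1<|b)<|a (a 0<|a 1<|b)<|a (a 0<|a 0<|a 1<|b)<|a (a (-6)<|a 2<|a (-7)<|a 12<|b)<|a (a 2<|a 10<|a 13<|a 28<|a 32<|b)<|a (a 2<|a 0<|a 3<|a (-2)<|a 2<|a 10<|b)<|b))<|a (c (a 30<|b) (a (a 1<|b)<|a (a 0<|a 1<|b)<|a (a (-3)<|a (-2)<|a 3<|b)<|a (a 1<|a 5<|a (-1)<|a 13<|b)<|a (a (-2)<|a (-10)<|a 2<|a (-13)<|a 13<|b)<|a (a 7<|a 5<|a 8<|a 8<|a 7<|a 15<|b)<|b))<|a (c (a 29<|a 30<|b) (a (a 1<|b)<|a (a 0<|a 1<|b)<|a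 (a 0<|a 0<|a 1<|b)<|a (a (-2)<|a 0<|a (-3)<|a 4<|b)<|a (a 2<|a 0<|a 3<|a 3<|a 7<|b)<|a (a 2<|a 0<|a 3<|a (-2)<|a 2<|a 10<|b)<|b))<|b)))))<|
 a (c 3 (d 7037507 (a 8<|a 0<|a 11<|a 17<|a 4<|b) 0 b (e (f 40 (a 2<|a 36<|a 21<|a 33<|a 18<|a 29<|b) (a 14<|a 12<|a 7<|a 11<|a 6<|a 23<|b) (a 0<|a 0<|a 0<|a 0<|a 0<|a 0<|b) b 0 0 b))))<|
 a (c 4 (d 814422698 (a 17<|a 17<|a 0<|a 14<|a 11<|a 21<|b) 0 b (e (f 65 (a 5<|a 23<|a 9<|a 13<|a 16<|a 13<|b) (a 45<|a 51<|a 3<|a 26<|a 27<|a 26<|b) (a 0<|a 0<|a 0<|a 0<|a 0<|a 0<|b) b 0 0 b))))<|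
 a (c 5 (d 31653697327 (a 1<|a 14<|a 8<|a 18<|a 18<|a 16<|b) 0 b (e (f 56 (a 40<|a 36<|a 46<|a 14<|a 20<|a 1<|b) (a 32<|a 12<|a 34<|a 42<|a 44<|a 19<|b) (a 0<|a 0<|a 0<|a 0<|a 0<|a 0<|b) b 0 0 b))))<|
 a (c 7 (d 7652836337181 (a 11<|a 11<|a 4<|a 11<|a 0<|b) 0 b (e (f 100 (a 82<|a 76<|a 21<|a 71<|a 82<|a 47<|b) (a 94<|a 92<|a 7<|a 57<|a 94<|a 49<|b) (a 0<|a 0<|a 0<|a 0<|a 0<|a 0<|b) b 0 0 b))))<|
 a (c 8 (d 67001181119752 (a 17<|a 8<|a 8<|a 14<|a 14<|a 12<|a 16<|b) 0 b (e (f 585 (a 324<|a 390<|a 549<|a 0<|a 195<|a 69<|b) (a 108<|a 325<|a 378<|a 0<|a 260<|a 23<|b) (a 0<|a 0<|a 0<|a 0<|a 0<|a 0<|b) b 0 0 b))))<|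
 a (c 9 (d 452685514722186 (a 28<|a 11<|a 12<|a 16<|a 12<|a 16<|b) 0 b (e (f 82 (a 52<|a 24<|a 22<|a 48<|a 44<|a 53<|b) (a 72<|a 8<|a 62<|a 16<|a 42<|a 45<|b) (a 0<|a 0<|a 0<|a 0<|a 0<|a 0<|b) b 0 0 b))))<|
 a (c 11 (d 11661005076308329 (a 8<|a 11<|a 11<|a 21<|a 1<|a 0<|b) 0 b (e (f 2664 (a 1590<|a 924<|a 1332<|a 2490<|a 2088<|a 1491<|b) (a 530<|a 1196<|a 2220<|a 1718<|a 696<|a 497<|b) (a 0<|a 0<|a 0<|a 0<|a 0<|a 0<|b) b 0 0 b))))<|
 a (c 13 (d 173419212148114715 (a 18<|b) 0 b (e (f 56 (a 39<|a 17<|a 17<|a 39<|a 3<|a 39<|b) (a 13<|a 43<|a 43<|a 13<|a 1<|a 13<|b) (a 0<|a 0<|a 0<|a 0<|a 0<|a 0<|b) b 0 0 b))))<|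
 a (c 16 (d 4942282922655390194 (a 16<|a 0<|a 8<|a 0<|b) 0 b (e (f 65 (a 35<|a 50<|a 52<|a 38<|a 43<|a 52<|b) (a 55<|a 60<|a 39<|a 56<|a 36<|a 39<|b) (a 0<|a 0<|a 0<|a 0<|a 0<|a 0<|b) b 0 0 b))))<|
 a (c 17 (d 13130043997504488349 (a 12<|a 16<|a 11<|a 18<|a 8<|a 0<|b) 0 b (e (f 4640 (a 2544<|a 1776<|a 2337<|a 2031<|a 3152<|a 1050<|b) (a 848<|a 592<|a 779<|a 677<|a 4144<|a 350<|b) (a 0<|a 0<|a 0<|a 0<|a 0<|a 0<|b) b 0 0 b))))<|
 a (c 19 (d 78765438832379590075 (a 4<|a 11<|b) 0 b (e (f 6858 (a 2100<|a 5901<|a 0<|a 3138<|a 4968<|a 5610<|b) (a 700<|a 6539<|a 0<|a 1046<|a 6228<|a 6442<|b) (a 0<|a 0<|a 0<|a 0<|a 0<|a 0<|b) b 0 0 b))))<|b)<|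
 a (a (c 2 (d 7872 (a 4<|a 18<|a 28<|a 28<|b) 0 b (e (f 21 (a 3<|a 18<|a 4<|a 2<|a 6<|a 2<|b) (a 15<|a 6<|a 13<|a 17<|a 9<|a 10<|b) (a 15<|a 6<|a 13<|a 17<|a 9<|a 3<|b) (a 6<|a 25<|a 26<|a 0<|a 26<|a 24<|b) 0 0 b))))<|
 a (c 3 (d 7037507 (a 16<|a 4<|b) 0 b (e (f 52 (a 12<|a 12<|a 0<|a 4<|a 32<|a 43<|b) (a 4<|a 4<|a 0<|a 36<|a 28<|a 49<|b) (a 0<|a 0<|a 0<|a 0<|a 0<|a 0<|b) b 0 0 b))))<|
 a (c 4 (d 814422698 (a 11<|a 1<|a 8<|b) 0 b (e (f 85 (a 65<|a 5<|a 61<|a 40<|a 34<|a 51<|b) (a 50<|a 30<|a 77<|a 70<|a 68<|a 17<|b) (a 0<|a 0<|a 0<|a 0<|a 0<|a 0<|b) b 0 0 b))))<|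
 a (c 5 (d 31653697327 (a 14<|a 16<|a 12<|b) 0 b (e (f 52 (a 8<|a 26<|a 28<|a 26<|a 26<|a 33<|b) (a 20<|a 26<|a 44<|a 26<|a 26<|a 11<|b) (a 0<|a 0<|a 0<|a 0<|a 0<|a 0<|b) b 0 0 b))))<|
 a (c 7 (d 7652836337181 (a 4<|a 1<|a 18<|a 11<|a 21<|b) 0 b (e (f 8 (a 3<|a 3<|a 7<|a 4<|a 2<|a 3<|b) (a 1<|a 1<|a 5<|a 4<|a 6<|a 1<|b) (a 0<|a 0<|a 0<|a 0<|a 0<|a 0<|b) b 0 0 b))))<|
 a (c 8 (d 67001181119752 (a 14<|a 11<|a 14<|a 12<|a 16<|a 4<|b) 0 b (e (f 513 (a 24<|a 366<|a 168<|a 171<|a 147<|a 3<|b) (a 350<|a 293<|a 398<|a 57<|a 49<|a 1<|b) (a 0<|a 0<|a 0<|a 0<|a 0<|a 0<|b) b 0 0 b))))<|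
 a (c 9 (d 452685514722186 (a 4<|a 17<|a 18<|a 18<|a 0<|b) 0 b (e (f 205 (a 13<|a 170<|a 134<|a 188<|a 28<|a 153<|b) (a 141<|a 125<|a 113<|a 131<|a 146<|a 51<|b) (a 0<|a 0<|a 0<|a 0<|a 0<|a 0<|b) b 0 0 b))))<|
 a (c 11 (d 11661005076308329 (a 14<|a 8<|a 18<|b) 0 b (e (f 2440 (a 324<|a 1490<|a 1750<|a 0<|a 2170<|a 663<|b) (a 108<|a 1310<|a 2210<|a 0<|a 2350<|a 221<|b) (a 0<|a 0<|a 0<|a 0<|a 0<|a 0<|b) b 0 0 b))))<|
 a (c 13 (d 173419212148114715 (a 4<|b) 0 b (e (f 28 (a 0<|a 14<|a 14<|a 11<|a 20<|a 8<|b) (a 0<|a 14<|a 14<|a 13<|a 16<|a 12<|b) (a 0<|a 0<|a 0<|a 0<|a 0<|a 0<|b) b 0 0 b))))<|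
 a (c 16 (d 4942282922655390194 (a 4<|a 0<|a 28<|a 12<|a 28<|a 16<|a 14<|b) 0 b (e (f 4369 (a 1190<|a 3179<|a 2478<|a 327<|a 536<|a 4112<|b) (a 1853<|a 2516<|a 826<|a 109<|a 1635<|a 2827<|b) (a 0<|a 0<|a 0<|a 0<|a 0<|a 0<|b) b 0 0 b))))<|
 a (c 17 (d 13130043997504488349 (a 21<|a 16<|a 21<|b) 0 b (e (f 36 (a 18<|a 18<|a 21<|a 3<|a 24<|a 18<|b) (a 18<|a 18<|a 7<|a 13<|a 32<|a 30<|b) (a 0<|a 0<|a 0<|a 0<|a 0<|a 0<|b) b 0 0 b))))<|
 a (c 19 (d 78765438832379590075 b 0 b (e (f 72 (a 0<|a 60<|a 66<|a 66<|a 60<|a 21<|b) (a 0<|a 20<|a 22<|a 70<|a 20<|a 31<|b) (a 0<|a 0<|a 0<|a 0<|a 0<|a 0<|b) b 0 0 b))))<|b)<|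
 a (a (c 2 (d 7872 (a 1<|a 17<|a 21<|a 21<|a 28<|a 16<|a 28<|b) 0 b (e (f 17 (a 6<|a 7<|a 6<|a 7<|a 13<|a 10<|b) (a 2<|a 8<|a 2<|a 8<|a 10<|a 9<|b) (a 0<|a 0<|a 0<|a 0<|a 0<|a 0<|b) b 0 0 b))))<|
 a (c 3 (d 7037507 (a 17<|a 4<|a 12<|a 21<|b) 0 b (e (f 52 (a 2<|a 40<|a 24<|a 20<|a 24<|a 15<|b) (a 18<|a 48<|a 8<|a 24<|a 8<|a 5<|b) (a 0<|a 0<|a 0<|a 0<|a 0<|a 0<|b) b 0 0 b))))<|
 a (c 4 (d 814422698 (a 1<|a 28<|b) 0 b (e (f 85 (a 0<|a 45<|a 51<|a 15<|a 10<|a 63<|b) (a 0<|a 15<|a 17<|a 5<|a 60<|a 21<|b) (a 0<|a 0<|a 0<|a 0<|a 0<|a 0<|b) b 0 0 b))))<|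
 a (c 5 (d 31653697327 (a 28<|a 1<|a 14<|b) 0 b (e (f 1252 (a 472<|a 480<|a 650<|a 746<|a 532<|a 1039<|b) (a 992<|a 160<|a 634<|a 666<|a 1012<|a 1181<|b) (a 0<|a 0<|a 0<|a 0<|a 0<|a 0<|b) b 0 0 b))))<|
 a (c 7 (d 7652836337181 (a 8<|a 18<|a 16<|b) 0 b (e (f 400 (a 66<|a 138<|a 150<|a 350<|a 362<|a 111<|b) (a 22<|a 46<|a 50<|a 250<|a 254<|a 37<|b) (a 0<|a 0<|a 0<|a 0<|a 0<|a 0<|b) b 0 0 b))))<|
 a (c 8 (d 67001181119752 (a 28<|a 28<|a 1<|b) 0 b (e (f 35 (a 15<|a 28<|a 25<|a 9<|a 14<|a 3<|b) (a 5<|a 21<|a 20<|a 3<|a 28<|a 1<|b) (a 0<|a 0<|a 0<|a 0<|a 0<|a 0<|b) b 0 0 b))))<|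
 a (c 9 (d 452685514722186 (a 8<|a 28<|b) 0 b (e (f 140 (a 60<|a 4<|a 50<|a 10<|a 116<|a 65<|b) (a 20<|a 48<|a 110<|a 50<|a 132<|a 115<|b) (a 0<|a 0<|a 0<|a 0<|a 0<|a 0<|b) b 0 0 b))))<|
 a (c 11 (d 11661005076308329 (a 8<|a 0<|a 16<|a 12<|a 12<|a 11<|b) 0 b (e (f 488 (a 244<|a 16<|a 122<|a 148<|a 176<|a 339<|b) (a 244<|a 168<|a 366<|a 212<|a 384<|a 113<|b) (a 0<|a 0<|a 0<|a 0<|a 0<|a 0<|b) b 0 0 b))))<|
 a (c 13 (d 173419212148114715 (a 0<|a 11<|a 14<|b) 0 b (e (f 99967 (a 4284<|a 15050<|a 59955<|a 64596<|a 55692<|a 24305<|b) (a 1428<|a 38339<|a 19985<|a 21532<|a 18564<|a 41424<|b) (a 0<|a 0<|a 0<|a 0<|a 0<|a 0<|b) b 0 0 b))))<|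
 a (c 16 (d 4942282922655390194 (a 4<|a 4<|a 28<|a 0<|a 21<|b) 0 b (e (f 21845 (a 9395<|a 16730<|a 13878<|a 5372<|a 20585<|a 944<|b) (a 17695<|a 20140<|a 4626<|a 16354<|a 21425<|a 14878<|b) (a 0<|a 0<|a 0<|a 0<|a 0<|a 0<|b) b 0 0 b))))<|
 a (c 17 (d 13130043997504488349 b 0 b (e (f 8 (a 4<|a 1<|a 0<|a 4<|a 1<|a 6<|b) (a 4<|a 3<|a 0<|a 4<|a 3<|a 2<|b) (a 0<|a 0<|a 0<|a 0<|a 0<|a 0<|b) b 0 0 b))))<|
 a (c 19 (d 78765438832379590075 (a 1<|a 14<|b) 0 b (e (f 61740 (a 60591<|a 22518<|a 1149<|a 42411<|a 36720<|a 32001<|b) (a 40777<|a 7506<|a 41543<|a 55297<|a 12240<|a 51827<|b) (a 0<|a 0<|a 0<|a 0<|a 0<|a 0<|b) b 0 0 b))))<|b)<|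
 a (a (c 2 (d 7872 (a 17<|a 18<|a 14<|b) 0 b (e (f 17 (a 9<|a 6<|a 9<|a 13<|a 2<|a 11<|b) (a 3<|a 2<|a 3<|a 10<|a 12<|a 15<|b) (a 0<|a 0<|a 0<|a 0<|a 0<|a 0<|b) b 0 0 b))))<|
 a (c 3 (d 7037507 (a 16<|a 8<|a 21<|b) 0 b (e (f 656 (a 184<|a 312<|a 190<|a 250<|a 8<|a 493<|b) (a 280<|a 104<|a 282<|a 302<|a 440<|a 383<|b) (a 0<|a 0<|a 0<|a 0<|a 0<|a 0<|b) b 0 0 b))))<|
 a (c 4 (d 814422698 (a 18<|a 16<|a 1<|a 16<|b) 0 b (e (f 35 (a 15<|a 20<|a 16<|a 29<|a 20<|a 33<|b) (a 5<|a 30<|a 17<|a 33<|a 30<|a 11<|b) (a 0<|a 0<|a 0<|a 0<|a 0<|a 0<|b) b 0 0 b))))<|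
 a (c 5 (d 31653697327 (a 4<|a 16<|a 28<|a 17<|a 21<|a 16<|a 4<|b) 0 b (e (f 1252 (a 704<|a 1144<|a 372<|a 644<|a 72<|a 805<|b) (a 652<|a 1216<|a 124<|a 632<|a 24<|a 1103<|b) (a 0<|a 0<|a 0<|a 0<|a 0<|a 0<|b) b 0 0 b))))<|
 a (c 7 (d 7652836337181 (a 14<|a 4<|a 18<|a 28<|a 4<|a 21<|a 1<|b) 0 b (e (f 38432 (a 28048<|a 9200<|a 15710<|a 37282<|a 36336<|a 20555<|b) (a 22160<|a 28688<|a 30858<|a 25238<|a 12112<|a 32473<|b) (a 0<|a 0<|a 0<|a 0<|a 0<|a 0<|b) b 0 0 b))))<|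
 a (c 8 (d 67001181119752 (a 28<|b) 0 b (e (f 63 (a 36<|a 12<|a 3<|a 30<|a 33<|a 12<|b) (a 54<|a 46<|a 22<|a 10<|a 53<|a 4<|b) (a 0<|a 0<|a 0<|a 0<|a 0<|a 0<|b) b 0 0 b))))<|
 a (c 9 (d 452685514722186 (a 4<|a 14<|a 4<|a 8<|b) 0 b (e (f 16 (a 4<|a 3<|a 5<|a 5<|a 11<|a 4<|b) (a 12<|a 1<|a 7<|a 7<|a 9<|a 12<|b) (a 0<|a 0<|a 0<|a 0<|a 0<|a 0<|b) b 0 0 b))))<|
 a (c 11 (d 11661005076308329 (a 8<|a 17<|a 17<|a 14<|a 21<|b) 0 b (e (f 58568 (a 40624<|a 16016<|a 55494<|a 8738<|a 54360<|a 6829<|b) (a 33064<|a 44384<|a 18498<|a 41958<|a 18120<|a 21799<|b) (a 0<|a 0<|a 0<|a 0<|a 0<|a 0<|b) b 0 0 b))))<|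
 a (c 13 (d 173419212148114715 (a 18<|a 12<|a 0<|a 16<|b) 0 b (e (f 1708 (a 224<|a 1583<|a 405<|a 1345<|a 363<|a 1162<|b) (a 644<|a 1097<|a 135<|a 1587<|a 121<|a 1526<|b) (a 0<|a 0<|a 0<|a 0<|a 0<|a 0<|b) b 0 0 b))))<|
 a (c 16 (d 4942282922655390194 (a 14<|a 14<|a 0<|a 18<|a 28<|a 28<|a 11<|b) 0 b (e (f 21845 (a 8700<|a 11985<|a 9290<|a 17570<|a 11985<|a 10308<|b) (a 2900<|a 3995<|a 17660<|a 20420<|a 3995<|a 3436<|b) (a 0<|a 0<|a 0<|a 0<|a 0<|a 0<|b) b 0 0 b))))<|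
 a (c 17 (d 13130043997504488349 (a 8<|a 11<|a 12<|a 18<|a 1<|a 4<|a 0<|a 11<|b) 0 b (e (f 26208 (a 17301<|a 14640<|a 11739<|a 20208<|a 1728<|a 20106<|b) (a 23239<|a 4880<|a 21385<|a 24208<|a 576<|a 24174<|b) (a 0<|a 0<|a 0<|a 0<|a 0<|a 0<|b) b 0 0 b))))<|
 a (c 19 (d 78765438832379590075 b 0 b (e (f 40 (a 20<|a 26<|a 12<|a 28<|a 14<|a 9<|b) (a 20<|a 22<|a 4<|a 36<|a 18<|a 3<|b) (a 0<|a 0<|a 0<|a 0<|a 0<|a 0<|b) b 0 0 b))))<|b)<|
 a (a (c 2 (d 7872 (a 14<|a 8<|b) 0 b (e (f 91 (a 28<|a 77<|a 55<|a 15<|a 49<|a 4<|b) (a 70<|a 56<|a 79<|a 5<|a 77<|a 62<|b) (a 0<|a 0<|a 0<|a 0<|a 0<|a 0<|b) b 0 0 b))))<|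
 a (c 3 (d 7037507 (a 8<|a 16<|b) 0 b (e (f 364 (a 273<|a 299<|a 354<|a 101<|a 143<|a 12<|b) (a 91<|a 221<|a 118<|a 155<|a 169<|a 4<|b) (a 0<|a 0<|a 0<|a 0<|a 0<|a 0<|b) b 0 0 b))))<|
 a (c 4 (d 814422698 b 0 b (e (f 63 (a 51<|a 15<|a 6<|a 57<|a 60<|a 33<|b) (a 17<|a 5<|a 2<|a 40<|a 20<|a 11<|b) (a 0<|a 0<|a 0<|a 0<|a 0<|a 0<|b) b 0 0 b))))<|
 a (c 5 (d 31653697327 (a 14<|a 21<|a 12<|b) 0 b (e (f 62 (a 21<|a 31<|a 24<|a 5<|a 43<|a 53<|b) (a 7<|a 31<|a 8<|a 43<|a 35<|a 59<|b) (a 0<|a 0<|a 0<|a 0<|a 0<|a 0<|b) b 0 0 b))))<|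
 a (c 7 (d 7652836337181 (a 8<|a 28<|a 8<|b) 0 b (e (f 76 (a 69<|a 65<|a 28<|a 67<|a 37<|a 35<|b) (a 23<|a 47<|a 60<|a 73<|a 63<|a 37<|b) (a 0<|a 0<|a 0<|a 0<|a 0<|a 0<|b) b 0 0 b))))<|
 a (c 8 (d 67001181119752 (a 11<|a 11<|a 11<|a 16<|a 11<|a 18<|a 28<|b) 0 b (e (f 87381 (a 30441<|a 81030<|a 37704<|a 13104<|a 61539<|a 33612<|b) (a 39274<|a 85264<|a 41695<|a 62622<|a 20513<|a 40331<|b) (a 0<|a 0<|a 0<|a 0<|a 0<|a 0<|b) b 0 0 b))))<|
 a (c 9 (d 452685514722186 (a 11<|b) 0 b (e (f 33215 (a 7644<|a 6643<|a 23615<|a 30894<|a 30849<|a 25576<|b) (a 2548<|a 13286<|a 30015<|a 10298<|a 10283<|a 19597<|b) (a 0<|a 0<|a 0<|a 0<|a 0<|a 0<|b) b 0 0 b))))<|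
 a (c 11 (d 11661005076308329 b 0 b (e (f 1330 (a 828<|a 1128<|a 489<|a 442<|a 438<|a 243<|b) (a 276<|a 376<|a 163<|a 1034<|a 146<|a 81<|b) (a 0<|a 0<|a 0<|a 0<|a 0<|a 0<|b) b 0 0 b))))<|
 a (c 13 (d 173419212148114715 (a 11<|a 1<|a 16<|a 21<|a 0<|a 18<|a 16<|b) 0 b (e (f 67039 (a 24217<|a 47885<|a 53833<|a 52734<|a 46665<|a 19527<|b) (a 52765<|a 38308<|a 62637<|a 17578<|a 15555<|a 6509<|b) (a 0<|a 0<|a 0<|a 0<|a 0<|a 0<|b) b 0 0 b))))<|
 a (c 16 (d 4942282922655390194 b 0 b (e (f 35 (a 4<|a 29<|a 22<|a 6<|a 9<|a 29<|b) (a 13<|a 33<|a 19<|a 2<|a 3<|a 33<|b) (a 0<|a 0<|a 0<|a 0<|a 0<|a 0<|b) b 0 0 b))))<|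
 a (c 17 (d 13130043997504488349 (a 16<|a 18<|a 11<|a 16<|a 1<|a 1<|a 17<|a 28<|b) 0 b (e (f 25552531 (a 16311524<|a 16146665<|a 25499399<|a 25284541<|a 5780196<|a 2990416<|b) (a 13954685<|a 13899732<|a 17017310<|a 25463201<|a 1926732<|a 18031826<|b) (a 0<|a 0<|a 0<|a 0<|a 0<|a 0<|b) b 0 0 b))))<|
 a (c 19 (d 78765438832379590075 (a 4<|a 8<|a 4<|a 28<|a 28<|b) 0 b (e (f 49784 (a 18669<|a 34417<|a 47374<|a 45463<|a 28321<|a 33207<|b) (a 6223<|a 28067<|a 32386<|a 31749<|a 26035<|a 11069<|b) (a 0<|a 0<|a 0<|a 0<|a 0<|a 0<|b) b 0 0 b))))<|b)<|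
 a (a (c 2 (d 7872 (a 0<|a 21<|a 17<|a 12<|a 4<|a 21<|b) 0 b (e (f 13 (a 10<|a 4<|a 7<|a 8<|a 6<|a 11<|b) (a 12<|a 10<|a 11<|a 7<|a 2<|a 8<|b) (a 0<|a 0<|a 0<|a 0<|a 0<|a 0<|b) b 0 0 b))))<|
 a (c 3 (d 7037507 (a 18<|a 16<|a 4<|b) 0 b (e (f 56 (a 30<|a 46<|a 8<|a 35<|a 28<|a 35<|b) (a 10<|a 34<|a 40<|a 49<|a 28<|a 49<|b) (a 0<|a 0<|a 0<|a 0<|a 0<|a 0<|b) b 0 0 b))))<|
 a (c 4 (d 814422698 (a 1<|a 17<|b) 0 b (e (f 3133 (a 1378<|a 2483<|a 1473<|a 399<|a 2262<|a 2250<|b) (a 2548<|a 1872<|a 491<|a 133<|a 754<|a 750<|b) (a 0<|a 0<|a 0<|a 0<|a 0<|a 0<|b) b 0 0 b))))<|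
 a (c 5 (d 31653697327 (a 21<|a 18<|a 4<|a 12<|a 4<|a 8<|b) 0 b (e (f 217 (a 91<|a 140<|a 66<|a 32<|a 168<|a 37<|b) (a 175<|a 119<|a 22<|a 83<|a 56<|a 157<|b) (a 0<|a 0<|a 0<|a 0<|a 0<|a 0<|b) b 0 0 b))))<|
 a (c 7 (d 7652836337181 b 0 b (e (f 774 (a 516<|a 516<|a 741<|a 420<|a 516<|a 327<|b) (a 688<|a 172<|a 247<|a 140<|a 430<|a 625<|b) (a 0<|a 0<|a 0<|a 0<|a 0<|a 0<|b) b 0 0 b))))<|
 a (c 8 (d 67001181119752 (a 1<|a 28<|a 18<|a 4<|a 21<|a 17<|b) 0 b (e (f 76627 (a 44061<|a 30894<|a 57840<|a 36058<|a 74442<|a 70443<|b) (a 14687<|a 10298<|a 19280<|a 63104<|a 24814<|a 23481<|b) (a 0<|a 0<|a 0<|a 0<|a 0<|a 0<|b) b 0 0 b))))<|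
 a (c 9 (d 452685514722186 (a 4<|a 14<|a 8<|a 0<|a 1<|b) 0 b (e (f 5840 (a 5099<|a 1621<|a 4800<|a 3971<|a 2117<|a 3272<|b) (a 5593<|a 2487<|a 1600<|a 5217<|a 4599<|a 4984<|b) (a 0<|a 0<|a 0<|a 0<|a 0<|a 0<|b) b 0 0 b))))<|
 a (c 11 (d 11661005076308329 (a 1<|a 17<|b) 0 b (e (f 14521 (a 5939<|a 11510<|a 14244<|a 1428<|a 155<|a 11751<|b) (a 6820<|a 8677<|a 4748<|a 476<|a 4892<|a 3917<|b) (a 0<|a 0<|a 0<|a 0<|a 0<|a 0<|b) b 0 0 b))))<|
 a (c 13 (d 173419212148114715 (a 11<|a 17<|a 17<|a 12<|a 4<|a 21<|a 11<|a 8<|b) 0 b (e (f 4457701 (a 1766721<|a 6437<|a 958474<|a 1642388<|a 768986<|a 2273963<|b) (a 588907<|a 1488046<|a 3291292<|a 2033363<|a 1742229<|a 2243888<|b) (a 0<|a 0<|a 0<|a 0<|a 0<|a 0<|b) b 0 0 b))))<|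
 a (c 16 (d 4942282922655390194 (a 1<|b) 0 b (e (f 20485 (a 4910<|a 3380<|a 8136<|a 13940<|a 13110<|a 6654<|b) (a 8465<|a 7955<|a 2712<|a 11475<|a 4370<|a 2218<|b) (a 0<|a 0<|a 0<|a 0<|a 0<|a 0<|b) b 0 0 b))))<|
 a (c 17 (d 13130043997504488349 (a 18<|a 12<|a 1<|a 18<|a 12<|a 8<|b) 0 b (e (f 7 (a 1<|a 6<|a 2<|a 1<|a 2<|a 5<|b) (a 5<|a 2<|a 3<|a 5<|a 3<|a 4<|b) (a 0<|a 0<|a 0<|a 0<|a 0<|a 0<|b) b 0 0 b))))<|
 a (c 19 (d 78765438832379590075 (a 8<|a 8<|b) 0 b (e (f 1176147 (a 1147335<|a 628719<|a 824793<|a 351354<|a 184191<|a 806874<|b) (a 1166543<|a 993671<|a 274931<|a 117118<|a 61397<|a 661007<|b) (a 0<|a 0<|a 0<|a 0<|a 0<|a 0<|b) b 0 0 b))))<|b)<|b))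

theorem svsE6_16 : tbE6.svs 6 svE6_16 = true := by decide +kernel

theorem svdE6_16 : tbE6.svd svE6_16 = true := by decide +kernel

theorem svcE6_16 : aL (tbE6.svc 6 svE6_16 ivE6_16 ceE6_16) 6 = true := by decide +kernel

theorem goodE6_16 {M : CoxeterMatrix (Fin 6)} (hp : IsType chevE6 6 M) : Good hp tbE6 18623951469676026131 :=
  (gsE6 hp).good_sv (fun h => absurd h (by decide)) svsE6_16 svdE6_16 (aL_iff.1 svcE6_16)

/-- A5A1 -/
def svE6_18 : Sv where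
  m := 4501010513878862338543
  Δ := [0, 1, 2, 3, 5, 30]
  dm := [5, 31, 35]
  s := 32
  sq := (beta% delta% lq266758b495 fun a b c _ _ _ g h =>
 (a (c 31 h)<|a (c 2 g)<|a (c 0 g)<|a (c 3 g)<|a (c 1 g)<|a (c 5 g)<|b))
  co := (beta% delta% lq266758b495 fun a b _ _ _ _ _ _ =>
 (a (a 0<|a 0<|a 1<|a 0<|a 0<|a 0<|b)<|a (a 0<|a 0<|a 0<|a 0<|a 1<|a 0<|b)<|a (a 0<|a 1<|a 0<|a 0<|a 0<|a 0<|b)<|a (a 0<|a 0<|a 0<|a 1<|a 0<|a 0<|b)<|a (a 1<|a (-2)<|a (-1)<|a (-2)<|a (-1)<|a (-1)<|b)<|a (a 0<|a 0<|a 0<|a 0<|a 0<|a 1<|b)<|b))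
  ω := 2
  cl := [(false, []), (true, [5, 35, 11, 2])]
  lf := [(34093450592517, 0, []),
    (34093500734981, 1, [])]
  q₁ := 32
  k₁ := 6
  ev := false
  lg := (0, [], 0)

/-- inverted roots -/
def ivE6_18 : List (ℕ × List ℕ × ℕ) := []

/-- the certificates -/
noncomputable def ceE6_18 : List (List (ℕ × Ce)) :=
  (by
  refine (?fq9004 : ((pk61l_v8 (fun i1 => (pk61l_v8 (fun i2 => (_root_.Prod.mk (pk61d_v8 (nat_lit 5) 
    (nat_lit 0x3fdde6f38c1ab4a0e520c5feef379c60d5a50729062) i2) (_root_.Cfsg.Agent.N2.Ex.Al.Ck.Ce.mk (pk61d_v8 (nat_lit 66) 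
    (nat_lit 0x22594c29dfc8bce5438388c3e0599946c8564c38a9609cf84807aff7dcb959edf880a0c3669f1dcfd5400317479cc9002514002c5cb8bdaea1850004e837bc72d08c0000132bc8e6f71d70000080ce14cf1ec8000002227ab9ea250000001baebcd7594000000120ea7bf03000000000bb9918a800000000023017e20000000000029b15000000000000008cc) (pk61d_v8 (nat_lit 5) 
    (nat_lit 0x20f7358b5250731483104107b9ac5a928398a418820) i2)) ((fun g2 : Nat → Nat => pk61l_v8 (fun i3 => (pk61d_v8 (nat_lit 6) 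
    (nat_lit 0x1e0082002233051e302316230b20818015e80b04c0422e32c384b81004b1a10c316278080084516105e78500c2c11828061620080c28621c58e320520c14684c3228802c540c1a114286204620b8608473082c28873008487a330c7a178042181e8428618830e28c31428e2) i3)) (g2 i2) (g2 (Nat.succ i2)) List.nil) fun j => (pk61d_v8 (nat_lit 8) 
    (nat_lit 0x8f877f78747371716f6a635c5a565553504d453e3e3935312e26221c1a17150f070500) j)) (nat_lit 0) List.nil (_root_.Sum.inl (_root_.Cfsg.Agent.N2.Ex.Al.Ck.CT.mk (pk61d_v8 (nat_lit 20) 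
    (nat_lit 0x245e0250d033e6027200b63000014000900005519e64003d081bf0001c70001400010000550003d0001503c20001180001a02c14006ca005a800998011111e374001e8000500005b0001000c34001550001a0005d) i2) (pk61l_v8 (fun i3 => (pk61d_v8 (nat_lit 19) 
    (nat_lit 0x1d18048380adc0215201cd602a340d3b823660248e05390054b00d0400ed4041d0154181fa1058720780404e401fb404a2002fb80d5a8161d1090021e14164d831b0063001cbf40000000070001c000380004800120006c000b40013800120009c0015c00198000c0005e000cc00140002f19e64107a47402090842a13849f20016e00017001d6001b000e8802fcb5a50d2cd6398839a9e01fa5e6f400000000a700386001940051001a70001400040000880000000200004c00020000d0001000018000580008000000002c00150004b000a600090000000028000360005000128002a0001c0001400060000c0000c0000c000003541023000eb90091f030da000000002c005a0009f001f200324000b800090002e0000c00000000900d900b02803538256d0160a0884c0000001200097a0159c009000108002d40043c0083000c800a9c002b000000059a007020072000000058200000035b8034e00a6b00e3601818b54b8341a10478650807f1c13371000000012800ae80135002fe00658000a00033000620001c0021800430008200100001a000180003a0011800040000f00000000300006000090124e021080128806c8006a602b9000000007000200001000071800100001a0003400080000d0000c00034001f00056000a20009c001e00027)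 i3)) (Nat.mul (nat_lit 6) i2) (Nat.mul (nat_lit 6) (Nat.succ i2)) List.nil) (pk61l_v8 (fun i3 => (pk61d_v8 (nat_lit 19) 
    (nat_lit 0x3a30048900fbe0235a03a1a06f0c0a960248003d9607ea807f081d0a04a24015f0186280a8b062ae06d340eac0179c04ce000fe804738075f14b401a79c25cc810900210018c3c000000009000240004800018000600024001bc003680036000f4001f4000880004000580004400230002c19e644a8ec6bbc0302c0e06818a60007a0014d005b200090004d80244e98b1a041cbdd81338a00a8d4f5000000001670025c00544001b0008d0001400030000980000000180003400060000f000100000800048000800000000800007000190007000030000000036000120006c001a8000e0001c0004800058001200012000200000025cb033c009eb017150385e0000000184001e00035000a60010c000c800030003200004000000003021e803ab8087481b2b0421e0683400000006000c36007340030000580087c008f4011d0040800b14008700000001de00256002600000001d600000011e8011a0037901b7e008083c6e8115e1992049f707af20667b0000000578008b800670038a004a8001e0001100056000740018800310006800148002700008000500015000040000500000000100002000030061a01b48026b8065400a5a02f100000000970018e0021c0097800770001a0003400070000d0000400034000f80046000360012c00198004b)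 i3)) (Nat.mul (nat_lit 6) i2) (Nat.mul (nat_lit 6) (Nat.succ i2)) List.nil) (pk61l_v8 (fun i3 => (pk61d_v8 (nat_lit 7) 
    (nat_lit 0x14e2be484878e1220300) (pk61d_v8 (nat_lit 4) 
    (nat_lit 0x4255630000000000000000000000000000000000000000000000000000000000000000000000000000000000000000000000008a7919) i3))) (Nat.mul (nat_lit 6) i2) (Nat.mul (nat_lit 6) (Nat.succ i2)) List.nil) ((fun g2 : Nat → Nat => pk61l_v8 (fun i3 => (pk61d_v8 (nat_lit 5) 
    (nat_lit 0xa9745) i3)) (g2 i2) (g2 (Nat.succ i2)) List.nil) fun j => (pk61d_v8 (nat_lit 3) 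
    (nat_lit 0x124924924924909249249249248) j)) (nat_lit 0) (nat_lit 0) List.nil))))) (Nat.mul (nat_lit 17) i1) (Nat.mul (nat_lit 17) (Nat.succ i1)) List.nil)) (nat_lit 0) (nat_lit 2) List.nil) : List (List (ℕ × Ce)))
    = ?xq9004 → (List (List (ℕ × Ce)))) ?hq9004; (case hq9004 => (set_option maxRecDepth 1000000 in set_option simprocs false in conv => lhs; reduce; dsimp only)); intro _; exact ?xq9004 : List (List (ℕ × Ce)))

theorem svsE6_18 : tbE6.svs 6 svE6_18 = true := by decide +kernel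

theorem svdE6_18 : tbE6.svd svE6_18 = true := by decide +kernel

theorem svcE6_18 : aL (tbE6.svc 6 svE6_18 ivE6_18 ceE6_18) 2 = true := by decide +kernel

theorem goodE6_18 {M : CoxeterMatrix (Fin 6)} (hp : IsType chevE6 6 M) : Good hp tbE6 4501010513878862338543 :=
  (gsE6 hp).good_sv (fun h => absurd h (by decide)) svsE6_18 svdE6_18 (aL_iff.1 svcE6_18)

/-- D5 -/
def svE6_19 : Sv where
  m := 21506867384333859807
  Δ := [0, 1, 2, 3, 4]
  dm := [28, 35, 41]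
  s := 40
  sq := (beta% delta% lq266758b495 fun a b c _ _ _ g h =>
 (a (c 28 h)<|a (c 2 g)<|a (c 0 g)<|a (c 3 g)<|a (c 1 g)<|a (c 4 g)<|a (c 35 h)<|b))
  co := (beta% delta% lq266758b495 fun a b _ _ _ _ _ _ =>
 (a (a 0<|a 0<|a 1<|a 0<|a 0<|a 0<|a 0<|b)<|a (a 0<|a 0<|a 0<|a 0<|a 1<|a 0<|a 0<|b)<|a (a 0<|a 1<|a 0<|a 0<|a 0<|a 0<|a 0<|b)<|a (a 0<|a 0<|a 0<|a 1<|a 0<|a 0<|a 0<|b)<|a (a 1<|a (-2)<|a (-1)<|a (-2)<|a (-1)<|a 0<|a 0<|b)<|a (a (-2)<|a 2<|a 1<|a 1<|a 0<|a 0<|a 1<|b)<|b))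
  ω := 2
  cl := [(false, []), (true, [28, 13, 3, 0])]
  lf := [(7883498421552163, 0, []),
    (7883498421748009, 1, [])]
  q₁ := 45
  k₁ := 4
  ev := false
  lg := (0, [], 0)

/-- inverted roots -/
def ivE6_19 : List (ℕ × List ℕ × ℕ) := []

/-- the certificates -/
noncomputable def ceE6_19 : List (List (ℕ × Ce)) := (beta% delta% lq266758b495 fun a b c d e f _ _ =>
 (a (a (c 2 (d 354 (a 7<|a 4<|a 25<|a 8<|a 11<|a 16<|a 6<|b) 0 b (e (f 17 (a 2<|a 10<|a 11<|a 12<|a 8<|a 12<|b) (a 12<|a 9<|a 15<|a 4<|a 14<|a 4<|b) (a 0<|a 0<|a 0<|a 0<|a 0<|a 0<|b) b 1 51 (a (c b (a (a 1<|b)<|a (a 0<|a 1<|b)<|a (a 0<|a 0<|a 1<|b)<|a (a 0<|a (-2)<|a 1<|a 4<|b)<|a (a 0<|a 3<|a 2<|a 1<|a 7<|b)<|a (a 17<|a 22<|a 26<|a 47<|a 40<|a 51<|b)<|b))<|b)))))<|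
 a (c 3 (d 36488 (a 25<|a 17<|a 13<|a 16<|a 4<|a 8<|b) 0 b (e (f 22 (a 14<|a 14<|a 18<|a 6<|a 10<|a 9<|b) (a 12<|a 12<|a 6<|a 2<|a 18<|a 3<|b) (a 0<|a 0<|a 0<|a 0<|a 0<|a 0<|b) b 0 0 b))))<|
 a (c 4 (d 910430 (a 18<|a 1<|a 7<|a 12<|b) 0 b (e (f 17 (a 2<|a 8<|a 6<|a 6<|a 15<|a 6<|b) (a 12<|a 14<|a 2<|a 2<|a 5<|a 2<|b) (a 0<|a 0<|a 0<|a 0<|a 0<|a 0<|b) b 0 0 b))))<|
 a (c 5 (d 10763863 (a 28<|a 13<|a 2<|a 1<|b) 0 b (e (f 284 (a 196<|a 236<|a 184<|a 256<|a 72<|a 61<|b) (a 160<|a 268<|a 156<|a 180<|a 24<|a 115<|b) (a 0<|a 0<|a 0<|a 0<|a 0<|a 0<|b) b 0 0 b))))<|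
 a (c 7 (d 432530392 (a 16<|a 17<|a 12<|b) 0 b (e (f 160 (a 14<|a 152<|a 56<|a 0<|a 88<|a 133<|b) (a 58<|a 104<|a 72<|a 0<|a 136<|a 151<|b) (a 0<|a 0<|a 0<|a 0<|a 0<|a 0<|b) b 0 0 b))))<|
 a (c 8 (d 1857745757 (a 4<|b) 0 b (e (f 63 (a 27<|a 27<|a 36<|a 33<|a 42<|a 33<|b) (a 9<|a 9<|a 54<|a 53<|a 56<|a 53<|b) (a 0<|a 0<|a 0<|a 0<|a 0<|a 0<|b) b 0 0 b))))<|
 a (c 9 (d 6697102784 (a 6<|b) 0 b (e (f 40 (a 27<|a 5<|a 37<|a 8<|a 30<|a 30<|b) (a 9<|a 15<|a 39<|a 16<|a 10<|a 10<|b) (a 0<|a 0<|a 0<|a 0<|a 0<|a 0<|b) b 0 0 b))))<|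
 a (c 11 (d 59159625171 (a 3<|a 11<|b) 0 b (e (f 190 (a 61<|a 142<|a 89<|a 130<|a 85<|a 171<|b) (a 147<|a 174<|a 93<|a 170<|a 155<|a 57<|b) (a 0<|a 0<|a 0<|a 0<|a 0<|a 0<|b) b 0 0 b))))<|
 a (c 13 (d 360952244479 (a 9<|a 13<|b) 0 b (e (f 122 (a 0<|a 88<|a 62<|a 47<|a 121<|a 62<|b) (a 0<|a 70<|a 102<|a 97<|a 81<|a 102<|b) (a 0<|a 0<|a 0<|a 0<|a 0<|a 0<|b) b 0 0 b))))<|
 a (c 16 (d 3398897848862 (a 2<|a 7<|a 7<|a 6<|b) 0 b (e (f 65 (a 35<|a 26<|a 40<|a 57<|a 39<|a 26<|b) (a 55<|a 52<|a 35<|a 19<|a 13<|a 52<|b) (a 0<|a 0<|a 0<|a 0<|a 0<|a 0<|b) b 0 0 b))))<|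
 a (c 17 (d 6535151863538 (a 11<|a 16<|a 4<|a 16<|a 3<|a 25<|a 28<|a 4<|b) 0 b (e (f 709928 (a 693866<|a 327578<|a 1302<|a 271752<|a 103224<|a 422391<|b) (a 704574<|a 582478<|a 434<|a 90584<|a 34408<|a 140797<|b) (a 0<|a 0<|a 0<|a 0<|a 0<|a 0<|b) b 0 0 b))))<|
 a (c 19 (d 21662084320833 (a 11<|a 8<|a 21<|b) 0 b (e (f 1810 (a 1520<|a 362<|a 1090<|a 1448<|a 362<|a 1589<|b) (a 1110<|a 724<|a 1570<|a 1086<|a 724<|a 1133<|b) (a 0<|a 0<|a 0<|a 0<|a 0<|a 0<|b) b 0 0 b))))<|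
 a (c 23 (d 169228075677324 (a 1<|a 14<|a 21<|a 28<|a 23<|a 13<|a 7<|b) 0 b (e (f 869 (a 772<|a 418<|a 790<|a 572<|a 255<|a 790<|b) (a 547<|a 429<|a 553<|a 770<|a 85<|a 553<|b) (a 0<|a 0<|a 0<|a 0<|a 0<|a 0<|b) b 0 0 b))))<|
 a (c 25 (d 414646342704664 (a 0<|a 3<|a 7<|b) 0 b (e (f 5642 (a 1736<|a 4472<|a 2096<|a 4602<|a 2964<|a 2821<|b) (a 4340<|a 5252<|a 4460<|a 1534<|a 988<|a 2821<|b) (a 0<|a 0<|a 0<|a 0<|a 0<|a 0<|b) b 0 0 b))))<|
 a (c 27 (d 947783491177159 (a 28<|a 7<|a 4<|b) 0 b (e (f 42392 (a 21196<|a 21280<|a 18841<|a 18928<|a 25816<|a 21115<|b) (a 21196<|a 21224<|a 20411<|a 20440<|a 22736<|a 21169<|b) (a 0<|a 0<|a 0<|a 0<|a 0<|a 0<|b) b 0 0 b))))<|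
 a (c 29 (d 2041312382282991 (a 1<|a 8<|a 21<|a 21<|a 9<|b) 0 b (e (f 3368 (a 1685<|a 2584<|a 0<|a 812<|a 0<|a 1<|b) (a 2807<|a 1984<|a 0<|a 2516<|a 0<|a 1123<|b) (a 0<|a 0<|a 0<|a 0<|a 0<|a 0<|b) b 0 0 b))))<|
 a (c 31 (d 4175870528426500 (a 7<|a 9<|b) 0 b (e (f 160 (a 96<|a 41<|a 81<|a 79<|a 151<|a 29<|b) (a 32<|a 67<|a 27<|a 133<|a 157<|a 63<|b) (a 0<|a 0<|a 0<|a 0<|a 0<|a 0<|b) b 0 0 b))))<|
 a (c 32 (d 5870566113911621 (a 23<|a 3<|b) 0 b (e (f 32767 (a 6339<|a 26524<|a 3270<|a 2976<|a 29695<|a 6339<|b) (a 2113<|a 30686<|a 1090<|a 992<|a 31743<|a 2113<|b) (a 0<|a 0<|a 0<|a 0<|a 0<|a 0<|b) b 0 0 b))))<|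
 a (c 37 (d 27850421718339977 (a 16<|a 28<|a 8<|a 18<|a 13<|a 7<|a 12<|b) 0 b (e (f 234270 (a 209988<|a 56901<|a 135630<|a 24282<|a 213081<|a 38646<|b) (a 226176<|a 175147<|a 45210<|a 164274<|a 149117<|a 169062<|b) (a 0<|a 0<|a 0<|a 0<|a 0<|a 0<|b) b 0 0 b))))<|
 a (c 41 (d 83681034857438791 (a 1<|a 13<|a 7<|a 18<|a 21<|a 2<|b) 0 b (e (f 172305 (a 157065<|a 138315<|a 15621<|a 48759<|a 39855<|a 92685<|b) (a 167225<|a 46105<|a 5207<|a 131123<|a 70720<|a 30895<|b) (a 0<|a 0<|a 0<|a 0<|a 0<|a 0<|b) b 0 0 b))))<|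
 a (c 43 (d 139390449464439531 (a 1<|a 2<|a 21<|a 11<|a 6<|a 14<|b) 0 b (e (f 49002814 (a 38744692<|a 38672492<|a 48928854<|a 7151802<|a 3178560<|a 38502171<|b) (a 45583440<|a 29225102<|a 16309618<|a 2383934<|a 1059520<|a 12834057<|b) (a 0<|a 0<|a 0<|a 0<|a 0<|a 0<|b) b 0 0 b))))<|b)<|
 a (a (c 2 (d 354 (a 23<|a 18<|a 25<|a 2<|a 17<|b) 0 b (e (f 35 (a 15<|a 27<|a 16<|a 7<|a 22<|a 32<|b) (a 5<|a 9<|a 17<|a 14<|a 19<|a 34<|b) (a 0<|a 0<|a 0<|a 0<|a 0<|a 0<|b) b 1 105 (a (c b (a (a 1<|b)<|a (a 0<|a 1<|b)<|a (a (-2)<|a (-1)<|a 2<|b)<|a (a (-1)<|a (-4)<|a 1<|a 7<|b)<|a (a (-5)<|a 3<|a 5<|a 12<|a 23<|b)<|a (a 10<|a (-6)<|a (-10)<|a (-24)<|a (-11)<|a 35<|b)<|b))<|b)))))<|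
 a (c 3 (d 36488 (a 23<|a 18<|a 23<|a 14<|a 25<|a 1<|b) 0 b (e (f 122 (a 98<|a 72<|a 28<|a 8<|a 32<|a 61<|b) (a 114<|a 24<|a 50<|a 84<|a 92<|a 61<|b) (a 0<|a 0<|a 0<|a 0<|a 0<|a 0<|b) b 0 0 b))))<|
 a (c 4 (d 910430 (a 16<|a 3<|a 6<|a 1<|a 13<|a 14<|b) 0 b (e (f 1025 (a 115<|a 745<|a 380<|a 982<|a 783<|a 37<|b) (a 380<|a 590<|a 810<|a 669<|a 261<|a 354<|b) (a 0<|a 0<|a 0<|a 0<|a 0<|a 0<|b) b 0 0 b))))<|
 a (c 5 (d 10763863 (a 9<|a 16<|a 8<|a 16<|a 21<|b) 0 b (e (f 403 (a 117<|a 179<|a 11<|a 379<|a 55<|a 368<|b) (a 39<|a 194<|a 138<|a 395<|a 287<|a 257<|b) (a 0<|a 0<|a 0<|a 0<|a 0<|a 0<|b) b 0 0 b))))<|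
 a (c 7 (d 432530392 (a 14<|a 3<|a 23<|a 14<|a 12<|b) 0 b (e (f 9608 (a 6048<|a 4840<|a 2064<|a 5400<|a 6568<|a 4997<|b) (a 2016<|a 4816<|a 688<|a 1800<|a 5392<|a 8071<|b) (a 0<|a 0<|a 0<|a 0<|a 0<|a 0<|b) b 0 0 b))))<|
 a (c 8 (d 1857745757 (a 1<|a 2<|a 23<|a 9<|a 8<|b) 0 b (e (f 28679 (a 7697<|a 21056<|a 3626<|a 518<|a 329<|a 11394<|b) (a 21685<|a 26138<|a 20328<|a 19292<|a 19229<|a 3798<|b) (a 0<|a 0<|a 0<|a 0<|a 0<|a 0<|b) b 0 0 b))))<|
 a (c 9 (d 6697102784 (a 9<|a 11<|a 2<|a 8<|a 17<|a 4<|a 9<|a 9<|b) 0 b (e (f 140 (a 60<|a 14<|a 100<|a 30<|a 126<|a 133<|b) (a 20<|a 98<|a 80<|a 10<|a 42<|a 91<|b) (a 0<|a 0<|a 0<|a 0<|a 0<|a 0<|b) b 0 0 b))))<|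
 a (c 11 (d 59159625171 (a 16<|a 18<|a 6<|a 9<|a 4<|a 12<|a 21<|a 8<|b) 0 b (e (f 53684 (a 38084<|a 52675<|a 52124<|a 44145<|a 36368<|a 29294<|b) (a 48484<|a 35453<|a 53164<|a 14715<|a 47912<|a 45554<|b) (a 0<|a 0<|a 0<|a 0<|a 0<|a 0<|b) b 0 0 b))))<|
 a (c 13 (d 360952244479 (a 17<|a 13<|a 12<|a 1<|b) 0 b (e (f 33754 (a 32746<|a 78<|a 1014<|a 20566<|a 14770<|a 24861<|b) (a 33418<|a 26<|a 338<|a 29358<|a 27426<|a 8287<|b) (a 0<|a 0<|a 0<|a 0<|a 0<|a 0<|b) b 0 0 b))))<|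
 a (c 16 (d 3398897848862 (a 18<|a 2<|a 7<|a 28<|a 17<|a 6<|a 25<|b) 0 b (e (f 20485 (a 6885<|a 9349<|a 14296<|a 7039<|a 2601<|a 7230<|b) (a 2295<|a 16773<|a 18422<|a 16003<|a 867<|a 2410<|b) (a 0<|a 0<|a 0<|a 0<|a 0<|a 0<|b) b 0 0 b))))<|
 a (c 17 (d 6535151863538 (a 8<|a 23<|a 14<|a 0<|b) 0 b (e (f 78881 (a 28306<|a 23015<|a 65849<|a 10057<|a 45634<|a 8091<|b) (a 35729<|a 60259<|a 74537<|a 29646<|a 41505<|a 2697<|b) (a 0<|a 0<|a 0<|a 0<|a 0<|a 0<|b) b 0 0 b))))<|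
 a (c 19 (d 21662084320833 (a 7<|a 9<|a 16<|a 23<|a 0<|a 14<|b) 0 b (e (f 137160 (a 7980<|a 62865<|a 136740<|a 60600<|a 97155<|a 91839<|b) (a 2660<|a 20955<|a 137020<|a 20200<|a 123825<|a 122053<|b) (a 0<|a 0<|a 0<|a 0<|a 0<|a 0<|b) b 0 0 b))))<|
 a (c 23 (d 169228075677324 (a 3<|a 12<|a 1<|b) 0 b (e (f 49252192 (a 27568888<|a 46142272<|a 36539008<|a 31312336<|a 29426848<|a 17552631<|b) (a 42024424<|a 48215552<|a 45014464<|a 43272240<|a 42643744<|a 5850877<|b) (a 0<|a 0<|a 0<|a 0<|a 0<|a 0<|b) b 0 0 b))))<|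
 a (c 25 (d 414646342704664 (a 3<|a 1<|a 0<|a 16<|b) 0 b (e (f 375601 (a 188744<|a 94052<|a 351070<|a 349315<|a 148511<|a 370712<|b) (a 188115<|a 156551<|a 367424<|a 366839<|a 174704<|a 248771<|b) (a 0<|a 0<|a 0<|a 0<|a 0<|a 0<|b) b 0 0 b))))<|
 a (c 27 (d 947783491177159 b 0 b (e (f 91 (a 7<|a 56<|a 35<|a 7<|a 56<|a 34<|b) (a 63<|a 49<|a 42<|a 63<|a 49<|a 72<|b) (a 0<|a 0<|a 0<|a 0<|a 0<|a 0<|b) b 0 0 b))))<|
 a (c 29 (d 2041312382282991 (a 18<|a 1<|a 0<|a 8<|b) 0 b (e (f 23576 (a 18608<|a 16088<|a 17682<|a 13382<|a 2616<|a 2439<|b) (a 21920<|a 21080<|a 5894<|a 20178<|a 872<|a 813<|b) (a 0<|a 0<|a 0<|a 0<|a 0<|a 0<|b) b 0 0 b))))<|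
 a (c 31 (d 4175870528426500 b 0 b (e (f 320 (a 256<|a 31<|a 64<|a 96<|a 1<|a 247<|b) (a 192<|a 117<|a 128<|a 32<|a 107<|a 189<|b) (a 0<|a 0<|a 0<|a 0<|a 0<|a 0<|b) b 0 0 b))))<|
 a (c 32 (d 5870566113911621 (a 16<|a 21<|b) 0 b (e (f 112871 (a 26344<|a 89001<|a 43692<|a 92962<|a 60047<|a 5627<|b) (a 46405<|a 29667<|a 14564<|a 68611<|a 95263<|a 77123<|b) (a 0<|a 0<|a 0<|a 0<|a 0<|a 0<|b) b 0 0 b))))<|
 a (c 37 (d 27850421718339977 (a 6<|a 6<|b) 0 b (e (f 342 (a 57<|a 288<|a 285<|a 285<|a 54<|a 33<|b) (a 19<|a 324<|a 323<|a 323<|a 18<|a 11<|b) (a 0<|a 0<|a 0<|a 0<|a 0<|a 0<|b) b 0 0 b))))<|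
 a (c 41 (d 83681034857438791 b 0 b (e (f 560 (a 126<|a 255<|a 182<|a 126<|a 375<|a 416<|b) (a 42<|a 85<|a 434<|a 42<|a 125<|a 512<|b) (a 0<|a 0<|a 0<|a 0<|a 0<|a 0<|b) b 0 0 b))))<|
 a (c 43 (d 139390449464439531 (a 11<|a 0<|a 4<|a 0<|a 14<|a 12<|b) 0 b (e (f 48587 (a 20732<|a 15235<|a 5679<|a 30415<|a 14168<|a 36185<|b) (a 39302<|a 21274<|a 1893<|a 26334<|a 37114<|a 44453<|b) (a 0<|a 0<|a 0<|a 0<|a 0<|a 0<|b) b 0 0 b))))<|b)<|b))

theorem svsE6_19 : tbE6.svs 6 svE6_19 = true := by decide +kernel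

theorem svdE6_19 : tbE6.svd svE6_19 = true := by decide +kernel

theorem svcE6_19 : aL (tbE6.svc 6 svE6_19 ivE6_19 ceE6_19) 2 = true := by decide +kernel

theorem goodE6_19 {M : CoxeterMatrix (Fin 6)} (hp : IsType chevE6 6 M) : Good hp tbE6 21506867384333859807 :=
  (gsE6 hp).good_sv (fun h => absurd h (by decide)) svsE6_19 svdE6_19 (aL_iff.1 svcE6_19)

end Cfsg.Agent.N2.Ex.Al.Ck
end
end
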